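import Cfsg.Agent.Lib.Clifford.Mono

/-! Berger's theorem: a quasi-primitive character of a solvable group is primitive (Isaacs 11.32, 11.33). -/

set_option autoImplicit false

namespace Cfsg.Lib.Clifford

open Cfsg Subgroup
open scoped ComplexConjugate commutatorElement

universe u

variable {Γ : Type*} [Group Γ] [Finite Γ] {G H K L M N C T : Subgroup Γ} {φ ψ χ θ β lam : Γ → ℂ}

theorem CharOn.mul_of_lin (hχ : CharOn K χ) (hNK : N ≤ K) (hl : LinOn N lam)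
    (e : ∀ x ∈ N, χ x = χ 1 * lam x) {n y : Γ} (hn : n ∈ N) (hy : y ∈ K) : χ (y * n) = χ y * lam n := by
  by_cases h0 : χ 1 = 0
  · rw [hχ.eq_zero h0 hy, hχ.eq_zero h0 (mul_mem hy (hNK hn)), zero_mul]
  have h1 : (⟨n, hNK hn⟩ : K) ∈ Char.charCenter (res K χ) :=
    (Char.Cfsg.IsCharacter.mem_charCenter (G := K) hχ).2 (by
      change ‖χ n‖ = ‖χ 1‖
      rw [e n hn, norm_mul, hl.norm_eq hn, mul_one])
  obtain ⟨c, hc⟩ := Char.mem_charCenter_def.1 h1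
  have h2 : χ (n * 1) = c * χ 1 := hc 1
  have h3 : χ (n * y) = c * χ y := hc ⟨y, hy⟩
  rw [mul_one, e n hn, mul_comm] at h2
  rw [hχ.classOn.mul_comm hy (hNK hn), h3, mul_right_cancel₀ h0 h2, mul_comm]

theorem CharOn.irrOn_of_mul (hφ : CharOn K φ) (hβ : CharOn K β) (h : IrrOn K (φ * β)) : IrrOn K φ := by
  have h0 : φ 1 * β 1 ≠ 0 := h.one_ne_zero
  obtain ⟨θ, hθ, hd⟩ := hφ.exists_constituent (left_ne_zero_of_mul h0)
  have hθ' := irrOn_of_mem hθ
  rcases Char.Cfsg.IsIrrCharacter.eq_zero_or_of_eq_add (G := K) h (hθ'.charOn.mul hβ)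
    ((hφ.sub_irr hθ' hd).mul hβ) (by ext x; simp [res]; ring) with e | e
  · exact absurd (congrFun e 1) (mul_ne_zero hθ'.one_ne_zero (right_ne_zero_of_mul h0))
  · have : (φ 1 - θ 1) * β 1 = 0 := congrFun e 1
    exact hθ'.congr fun x hx => (hφ.eq_of_dot_of_deg hθ' hd
      (sub_eq_zero.1 ((mul_eq_zero.1 this).resolve_right (right_ne_zero_of_mul h0))) x hx).symm

theorem vanish_of_dot_res (hHK : H ≤ K) (h : dot H φ φ = H.relIndex K * dot K φ φ) {x : Γ} (hx : x ∈ K)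
    (hxH : x ∉ H) : φ x = 0 := by
  have h1 := dot_of_supp hHK (φ := cut H φ) (fun x _ hx => cut_of_notMem _ hx) φ
  rw [dot_cut_left, h] at h1
  have h2 := mul_left_cancel₀ (Nat.cast_ne_zero.2 (relIndex_ne_zero H K)) h1
  have h3 : dot K (φ - cut H φ) (φ - cut H φ) = 0 := by
    have h4 : dot K (cut H φ) (φ - cut H φ) = 0 := by
      rw [dot, Finset.sum_eq_zero, mul_zero]
      intro y _
      by_cases hy : y ∈ H
      · simp [cut_of_mem _ hy]
      · simp [cut_of_notMem _ hy]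
    rw [dot_sub_left, h4, sub_zero, dot_sub_right, ← dot_conj K (cut H φ) φ, ← h2, dot_conj, sub_self]
  have := dot_self_eq_zero.1 h3 x hx
  rwa [Pi.sub_apply, cut_of_notMem _ hxH, sub_zero] at this

omit [Finite Γ] in
theorem SolvMod.inf (h : SolvMod K N) : SolvMod K (K ⊓ N) := by
  obtain ⟨n, hn⟩ := h
  refine ⟨n, le_inf ?_ hn⟩
  clear hn
  induction n with
  | zero => exact le_rfl
  | succ n ih => rw [Function.iterate_succ_apply']; exact (commutator_le_self _).trans ih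

/-- A maximal subgroup `H ≥ N` of `G` with `G / N` solvable: its core `C` and a chief factor `K / C`
complemented by `H`. -/
theorem exists_core_chief (hNH : N ≤ H) (hN : Nrm G N) (hH : H < G)
    (hmax : ∀ M, H ≤ M → M ≤ G → M = H ∨ M = G) (hs : SolvMod G N) :
    ∃ C K, N ≤ C ∧ C ≤ H ∧ Chief G K C ∧ (∀ Y ≤ H, Nrm G Y → Y ≤ C) ∧ H ⊔ K = G ∧ H ⊓ K = C ∧
      ⁅K, K⁆ ≤ C := by
  obtain ⟨C, h1, ⟨h2, h3⟩, h4⟩ := Core.exists_maximal_ge (fun X => X ≤ H ∧ Nrm G X) ⟨hNH, hN⟩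
  have h5 : ∀ Y ≤ H, Nrm G Y → Y ≤ C := fun Y a b =>
    le_sup_right.trans (h4 (C ⊔ Y) ⟨sup_le h2 a, h3.sup b⟩ le_sup_left).le
  obtain ⟨K, -, hc⟩ := exists_chief_above (h2.trans_lt hH) le_rfl h3 (nrm_self G)
  have hab := hc.abelian (hs.mono hc.le h1)
  have h6 : H ⊔ K = G := (hmax _ le_sup_left (sup_le hH.le hc.le)).resolve_left fun e =>
    hc.lt.not_ge (h5 K (le_sup_right.trans e.le) hc.nK)
  refine ⟨C, K, h1, h2, hc, h5, h6, le_antisymm (h5 _ inf_le_left ?_) (le_inf h2 hc.lt.le), hab⟩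
  refine nrm_of_le_normalizer (h6.ge.trans (sup_le ((nrm_self H).inf (hc.nK.mono hH.le)).le_normalizer
    (nrm_of_commutator_le inf_le_right (hab.trans (le_inf h2 hc.lt.le))).le_normalizer))

/-- Isaacs 11.32. -/
theorem exists_not_homog_of_ind (hLH : L ≤ H) (hL : Nrm G L) (hH : H < G)
    (hmax : ∀ M, H ≤ M → M ≤ G → M = H ∨ M = G) (hs : SolvMod G L) (hθ : IrrOn H θ) (hθL : IrrOn L θ)
    (hχ : IrrOn G (ind H G θ)) : ∃ M, L ≤ M ∧ M ≤ G ∧ Nrm G M ∧ ¬ Homog M (ind H G θ) := by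
  by_contra hall
  push Not at hall
  obtain ⟨C, K, hLC, hCH, hc, hcore, hHK, hI, hab⟩ := exists_core_chief hLH hL hH hmax hs
  have hCK := hc.lt.le
  have hCG := hCK.trans hc.le
  have hθC : IrrOn C θ := (hθ.charOn.mono hCH).irrOn_of_res hLC hθL
  have hd : dot C (ind H G θ) θ ≠ 0 := (hχ.charOn.mono hH.le).dot_ne_zero_trans hCH hθ hθC.charOn
    (by rw [← dot_conj, ← dot_ind_left hH.le _ hχ.classOn, hχ.dot_self]; simp) (by rw [hθC.dot_self]; simp)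
  have hinv : InvOn G C θ := (hχ.homog_iff hCG hc.nL hθC hd).1 (hall C hLC hCG hc.nL)
  have hKG : K < G := lt_of_le_of_ne hc.le fun e => by
    have h1 : H = C := by rw [← hI, e, inf_eq_left.2 hH.le]
    rw [h1] at hχ hH
    have := (irrOn_ind_iff hCG hc.nL hθC).1 hχ
    rw [(inertia_eq_iff hc.nL).2 hinv] at this
    exact hH.not_ge this
  obtain ⟨M, -, hm⟩ := exists_chief_above hKG le_rfl hc.nK (nrm_self G)
  have hKM := hm.lt.le
  have hdec : ∀ g ∈ G, ∃ h ∈ H, ∃ k ∈ K, g = h * k := fun g hg =>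
    exists_mul_of_mem_sup_nrm (hc.nK.mono hH.le) (hHK.ge hg)
  have hCS : C ≤ H ⊓ M := le_inf hCH (hCK.trans hKM)
  -- `H ⊓ M` is not the core
  have hS : ¬ H ⊓ M ≤ C := fun h => hm.lt.not_ge fun m hmM => by
    obtain ⟨a, ha, k, hk, rfl⟩ := hdec m (hm.le hmM)
    exact mul_mem (hCK (h ⟨ha, (M.mul_mem_cancel_right (hKM hk)).1 hmM⟩)) hk
  have hSM : H ⊓ M < M := lt_of_le_of_ne inf_le_right fun e =>
    hc.lt.not_ge (hI.le.trans' (le_inf (hKM.trans (e.ge.trans inf_le_left)) le_rfl))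
  obtain ⟨p, hp, -, a, -, ha⟩ := hc.exists_prime hab
  obtain ⟨q, hq, -, b, -, hb⟩ := hm.exists_prime (hm.abelian (hs.mono hm.le (hLC.trans hCK)))
  by_cases hpq : p = q
  · subst hpq
    obtain ⟨x, hxM, hxS, hx⟩ := exists_normalizer_of_relIndex_pow (k := a + b) hp (hc.nL.mono hm.le) hCS hSM
      (by rw [← relIndex_mul_relIndex C K M hCK hKM, ha, hb, pow_add])
    have h1 : H ⊔ zpowers x = G := (hmax _ le_sup_left (sup_le hH.le (zpowers_le.2 (hm.le hxM)))).resolve_left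
      fun e => hxS ⟨e.le (mem_sup_right (mem_zpowers x)), hxM⟩
    exact hS (hcore _ inf_le_left (nrm_of_le_normalizer (h1.ge.trans (sup_le
      ((nrm_self H).inf (hm.nK.mono hH.le)).le_normalizer (zpowers_le.2 (Core.mem_normalizer_of_conj_mem hx))))))
  have hχM : ∀ x ∈ M, ind H G θ x = ind (H ⊓ M) M θ x := fun x hx => ind_mackey hH.le hm.le
    (fun g hg => let ⟨h, h1, k, h2, e⟩ := hdec g hg; ⟨h, h1, k, hKM h2, e⟩) hθ.classOn hx
  have hχK : ∀ x ∈ K, ind H G θ x = ind C K θ x := fun x hx => by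
    rw [← hI]; exact ind_mackey hH.le hc.le hdec hθ.classOn hx
  obtain ⟨η, hη, f, hf⟩ := hall M (hLC.trans (hCK.trans hKM)) hm.le hm.nK
  obtain ⟨ψ, hψ, e, he⟩ := hall K (hLC.trans hCK) hc.le hc.nK
  have hη' := irrOn_of_mem hη
  have hψ' := irrOn_of_mem hψ
  have h1 : e ^ 2 = C.relIndex K := by
    have a1 : dot K (ind H G θ) (ind H G θ) = (e : ℂ) ^ 2 := by
      rw [dot_congr (φ' := (e : ℂ) • ψ) (ψ' := (e : ℂ) • ψ) he he, dot_smul_left, dot_smul_right, hψ'.dot_self]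
      simp [sq]
    rw [dot_congr hχK hχK, dot_ind_self_nrm hCK (hc.nL.mono hc.le) hθC,
      (inertia_eq_iff (hc.nL.mono hc.le)).2 (hinv.mono hc.le le_rfl)] at a1
    exact_mod_cast a1.symm
  have hf0 : (f : ℂ) ≠ 0 := fun h => hχ.one_ne_zero (by rw [hf 1 M.one_mem, h, zero_mul])
  have he0 : (e : ℂ) ≠ 0 := fun h => hχ.one_ne_zero (by rw [he 1 K.one_mem, h, zero_mul])
  have h2 : dot K η ψ ≠ 0 := by
    have a1 : dot K ((f : ℂ) • η) ψ = dot K ((e : ℂ) • ψ) ψ :=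
      dot_congr_left (fun x hx => (hf x (hKM hx)).symm.trans (he x hx)) _
    rw [dot_smul_left, dot_smul_left, hψ'.dot_self, mul_one] at a1
    exact right_ne_zero_of_mul (a1 ▸ he0)
  obtain ⟨u, hu, hu'⟩ := exists_deg_eq_mul hKM (hc.nK.mono hm.le) hη' hψ' h2
  have h3 : f * u = e := by
    have a1 := (hf 1 M.one_mem).symm.trans (he 1 K.one_mem)
    rw [hη'.one_eq, hψ'.one_eq, hu'] at a1
    have a2 : f * (u * charDegree ψ) = e * charDegree ψ := by exact_mod_cast a1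
    rw [← mul_assoc] at a2
    exact Nat.eq_of_mul_eq_mul_right hψ'.deg_pos a2
  have h4 : u = 1 := by
    refine Nat.eq_one_of_dvd_coprimes (Nat.Coprime.pow a b ((Nat.coprime_primes hp hq).2 hpq)) ?_ (hb ▸ hu)
    rw [← ha, ← h1, ← h3]
    exact Dvd.dvd.mul_right (dvd_mul_left u f) _ |>.trans (by rw [sq])
  rw [h4, mul_one] at h3
  subst h3
  have hθS : IrrOn (H ⊓ M) θ := (hθ.charOn.mono inf_le_left).irrOn_of_res hCS hθC
  have h5 : dot (H ⊓ M) η θ = f := by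
    rw [← dot_ind_right inf_le_right hη'.classOn, ← dot_congr_right _ hχM,
      dot_congr_right (ψ' := (f : ℂ) • η) _ hf, dot_smul_right, hη'.dot_self]; simp
  have h6 : η 1 = f * θ 1 := by
    apply mul_left_cancel₀ hf0
    rw [← hf 1 M.one_mem, hχK 1 K.one_mem, ind_one hCK, ← h1]; push_cast; ring
  have h7 := (hη'.charOn.mono inf_le_right).eq_smul_of_deg hθS (mult_of_eq h5).ge h6
  have h8 : (H ⊓ M).relIndex M = f ^ 2 := by
    have a1 := (hχM 1 M.one_mem).symm.trans (hχK 1 K.one_mem)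
    rw [ind_one inf_le_right, ind_one hCK] at a1
    rw [h1]; exact_mod_cast mul_right_cancel₀ hθ.one_ne_zero a1
  have h9 : ∀ x ∈ M, x ∉ H ⊓ M → η x = 0 := fun x hx hx' => vanish_of_dot_res inf_le_right (by
    rw [dot_congr (φ' := (f : ℂ) • θ) (ψ' := (f : ℂ) • θ) h7 h7, dot_smul_left, dot_smul_right, hθS.dot_self,
      hη'.dot_self, h8]; simp [sq]) hx hx'
  have h10 : closure {x | x ∈ M ∧ ind H G θ x ≠ 0} ≤ C := by
    refine hcore _ ((closure_le _).2 fun x hx => ?_) fun g hg x hx => ?_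
    · by_contra h
      exact hx.2 (by rw [hf x hx.1, h9 x hx.1 (fun h' => h h'.1), mul_zero])
    · induction hx using closure_induction with
      | mem x hx => exact subset_closure ⟨hm.nK g hg x hx.1, by rw [ind_conj _ _ hg]; exact hx.2⟩
      | one => simp
      | mul a b _ _ ha hb => rw [← conj_mul]; exact mul_mem ha hb
      | inv a _ ha => rw [← conj_inv]; exact inv_mem ha
  have h11 := dot_of_supp hCS (φ := θ) (fun x hx hxC => by
    by_contra h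
    exact hxC (h10 (subset_closure ⟨hx.2, by
      rw [hf x hx.2, h7 x hx]; exact mul_ne_zero hf0 (mul_ne_zero hf0 h)⟩))) θ
  rw [hθC.dot_self, hθS.dot_self, mul_one] at h11
  exact hS (relIndex_eq_one.1 (by exact_mod_cast h11.symm))

section Descent

variable {Δ : Type*} [Group Δ] [Finite Δ] {f : Δ →* Γ} {E : Subgroup Δ}

omit [Finite Γ] [Finite Δ] in
theorem mem_of_map_mem {A : Subgroup Δ} (hk : E ⊓ f.ker ≤ A) (hA : A ≤ E) {x : Δ} (hx : x ∈ E)
    (h : f x ∈ A.map f) : x ∈ A := by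
  obtain ⟨y, hy, e⟩ := h
  have : x * y⁻¹ ∈ A := hk ⟨E.mul_mem hx (E.inv_mem (hA hy)), by simp [e]⟩
  simpa using mul_mem this hy

omit [Finite Γ] [Finite Δ] in
theorem Nrm.map {A : Subgroup Δ} (h : Nrm E A) (f : Δ →* Γ) : Nrm (E.map f) (A.map f) := by
  rintro _ ⟨g, hg, rfl⟩ _ ⟨a, ha, rfl⟩
  exact ⟨_, h g hg a ha, by simp⟩

/-- If `χ ∘ f = ζ β` and `ζ` is induced from a proper subgroup above the kernel then so is `χ`. -/
theorem IndFrom.descend {A : Subgroup Δ} {ζ η : Δ → ℂ} (h : IndFrom A E ζ) (hk : E ⊓ f.ker ≤ A)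
    (hχ : IrrOn (E.map f) χ) (hη : CharOn E η) (e : ∀ x ∈ E, χ (f x) = ζ x * η x) :
    IndFrom (A.map f) (E.map f) χ := by
  obtain ⟨T, h1, h2, μ, hμ, e'⟩ := h
  have hμ' := (irrOn_of_mem hμ).charOn.mul (hη.mono h2.le)
  have h3 : ∀ x ∈ E, ind T E (μ * η) x = χ (f x) := fun x hx => by
    rw [ind_mul h2.le _ hη.classOn, e', e x hx, Pi.mul_apply, cut_of_mem _ hx]
  have h0 : (μ * η) 1 ≠ 0 := fun h => hχ.one_ne_zero (by
    rw [← map_one f, ← h3 1 E.one_mem, ind_one h2.le, h, mul_zero])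
  obtain ⟨μ', h4, -, h5⟩ := hμ'.exists_comp f fun x hx => (hμ'.mem_of_ind_eq (K := E) h0 (by
    rw [h3 x (h2.le hx.1), h3 1 E.one_mem, MonoidHom.mem_ker.1 hx.2, map_one])).2
  refine indFrom_of_charOn hχ (map_mono h1) (lt_of_le_of_ne (map_mono h2.le) fun h => h2.not_ge fun x hx =>
    mem_of_map_mem (hk.trans h1) h2.le hx (h ▸ mem_map_of_mem f hx)) h4 ?_
  rw [← cut_ind (map_mono h2.le)]
  refine cut_congr ?_
  rintro _ ⟨x, hx, rfl⟩
  rw [← ind_comp f h2.le (hk.trans h1) _ hx, ← h3 x hx, ind_congr E h5]; rfl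

end Descent

theorem exists_indFrom_of_lin (hH : H < G) (hmax : ∀ M, H ≤ M → M ≤ G → M = H ∨ M = G) (hs : SolvMod G C)
    (hC : Nrm G C) (hK : Nrm G K) (hHK : H ⊔ K = G) (hI : H ⊓ K = C) (hθ : IrrOn H θ) (hl : LinOn C lam)
    (hinv : InvOn G C lam) (e : ∀ x ∈ C, θ x = θ 1 * lam x) (hχ : IrrOn G (ind H G θ)) :
    ∃ M, C < M ∧ M ≤ G ∧ Nrm G M ∧ IndFrom M G (ind H G θ) := by
  have hCH : C ≤ H := hI.ge.trans inf_le_left
  have hCK : C ≤ K := hI.ge.trans inf_le_right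
  have hKG : K ≤ G := le_sup_right.trans hHK.le
  let E : Subgroup (Γ × Γ) :=
    { carrier := {x | x.2 ∈ H ∧ x.2⁻¹ * x.1 ∈ K}
      one_mem' := ⟨H.one_mem, by simp⟩
      mul_mem' := fun {a b} ha hb => ⟨H.mul_mem ha.1 hb.1, by
        have : (a * b).2⁻¹ * (a * b).1 = b.2⁻¹ * (a.2⁻¹ * a.1) * b.2⁻¹⁻¹ * (b.2⁻¹ * b.1) := by
          simp [mul_assoc]
        rw [this]; exact K.mul_mem (hK _ (hH.le (inv_mem hb.1)) _ ha.2) hb.2⟩
      inv_mem' := fun {a} ha => ⟨H.inv_mem ha.1, by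
        have : (a⁻¹).2⁻¹ * (a⁻¹).1 = a.2 * (a.2⁻¹ * a.1)⁻¹ * a.2⁻¹ := by simp [mul_assoc]
        rw [this]; exact hK _ (hH.le ha.1) _ (K.inv_mem ha.2)⟩ }
  have hE : ∀ x, x ∈ E ↔ x.2 ∈ H ∧ x.2⁻¹ * x.1 ∈ K := fun _ => Iff.rfl
  let f := MonoidHom.fst Γ Γ
  have hEG : ∀ x ∈ E, x.1 ∈ G := fun x hx => by
    simpa using G.mul_mem (hH.le hx.1) (hKG hx.2)
  have hmapE : E.map f = G := le_antisymm (by rintro _ ⟨x, hx, rfl⟩; exact hEG x hx) fun g hg => by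
    obtain ⟨h, hh, k, hk, rfl⟩ := exists_mul_of_mem_sup_nrm (hK.mono hH.le) (hHK.ge hg)
    exact ⟨(h * k, h), ⟨hh, by simpa using hk⟩, rfl⟩
  have hmap : ∀ X ≤ G, (E ⊓ X.comap f).map f = X := fun X hX => le_antisymm
    (by rintro _ ⟨x, hx, rfl⟩; exact hx.2) fun g hg => by
      obtain ⟨x, hx, rfl⟩ := hmapE.ge (hX hg)
      exact ⟨x, ⟨hx, hg⟩, rfl⟩
  have hker : ∀ X : Subgroup Γ, E ⊓ f.ker ≤ E ⊓ X.comap f := fun X => inf_le_inf_left _ (ker_le_comap _ _)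
  have hmem : ∀ x ∈ E ⊓ H.comap f, x.2⁻¹ * x.1 ∈ C := fun x hx =>
    hI.le ⟨H.mul_mem (H.inv_mem hx.1.1) hx.2, hx.1.2⟩
  let τ : Γ × Γ → ℂ := fun x => lam (x.2⁻¹ * x.1)
  have hτ : LinOn (E ⊓ H.comap f) τ := linOn_of_map_mul (by simp [τ, hl.2]) fun a ha b hb => by
    have : (a * b).2⁻¹ * (a * b).1 = b.2⁻¹ * (a.2⁻¹ * a.1) * b.2⁻¹⁻¹ * (b.2⁻¹ * b.1) := by
      simp [mul_assoc]
    have hb2 := hH.le (inv_mem hb.1.1)
    simp only [τ]
    rw [this, hl.map_mul (hC _ hb2 _ (hmem a ha)) (hmem b hb), hinv _ hb2 _ (hmem a ha)]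
  have hβ : CharOn E (θ ∘ MonoidHom.snd Γ Γ) := hθ.charOn.comp _ fun x hx => hx.1
  have hfac : ∀ x ∈ E, ind H G θ (f x) = ind (E ⊓ H.comap f) E τ x * (θ ∘ MonoidHom.snd Γ Γ) x := by
    intro x hx
    have h1 := ind_comp f (H := E ⊓ H.comap f) (K := E) inf_le_left (hker H) θ hx
    rw [hmap H hH.le, hmapE] at h1
    rw [← h1, ← Pi.mul_apply, ← ind_mul inf_le_left _ hβ.classOn]
    refine congrFun (ind_congr E fun y hy => ?_) x
    have := hθ.charOn.mul_of_lin hCH hl e (hmem y hy) hy.1.1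
    rw [mul_inv_cancel_left] at this
    exact this.trans (mul_comm _ _)
  have hζ : IrrOn E (ind (E ⊓ H.comap f) E τ) := (hτ.charOn.ind inf_le_left).irrOn_of_mul hβ
    ((IrrOn.comp (f := f) (L := E) (φ := ind H G θ) (by rw [hmapE]; exact hχ)).congr hfac)
  have hLH : E ⊓ C.comap f ≤ E ⊓ H.comap f := inf_le_inf_left _ (comap_mono hCH)
  have hLn : Nrm E (E ⊓ C.comap f) := (nrm_self E).inf fun g hg x hx => hC _ (hEG g hg) _ hx
  obtain ⟨M, h1, h2, h3, h4⟩ := exists_not_homog_of_ind hLH hLn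
    (lt_of_le_of_ne inf_le_left fun h => hH.ne (by rw [← hmap H hH.le, h, hmapE]))
    (fun M a b => by
      have a' := map_mono (f := f) a
      rw [hmap H hH.le] at a'
      rcases hmax (M.map f) a' (hmapE ▸ map_mono b) with h | h
      · exact Or.inl (le_antisymm (fun x hx => ⟨b hx, h.le (mem_map_of_mem f hx)⟩) a)
      · exact Or.inr (le_antisymm b fun x hx => mem_of_map_mem ((hker H).trans a) b hx (h.ge (hEG x hx))))
    ((hs.comap f).mono (fun x hx => hEG x hx) le_rfl).inf hτ.irrOn (hτ.mono hLH).irrOn hζ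
  have h5 := (hζ.indFrom_of_not_homog h2 h3 h4).descend ((hker C).trans h1) (hmapE ▸ hχ) hβ hfac
  have h6 := h3.map f
  rw [hmapE] at h5 h6
  refine ⟨M.map f, lt_of_le_of_ne ((hmap C (hCH.trans hH.le)).ge.trans (map_mono h1)) fun h => h4 ?_,
    hmapE ▸ map_mono h2, h6, h5⟩
  have h7 : M = E ⊓ C.comap f := le_antisymm (fun x hx => ⟨h2 hx, h.ge (mem_map_of_mem f hx)⟩) h1
  rw [h7]
  refine ⟨_, (hτ.mono hLH).irrOn.cut_mem, (E ⊓ H.comap f).relIndex E, fun x hx => ?_⟩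
  rw [cut_of_mem _ hx]
  refine ind_apply_of_invOn hLH inf_le_left hLn (fun g hg y hy => ?_) hx
  have hy1 : y.1 ∈ C := hy.2
  have hy2 : y.2⁻¹ ∈ C := (C.mul_mem_cancel_right hy1).1 (hmem y (hLH hy))
  have : (g * y * g⁻¹).2⁻¹ * (g * y * g⁻¹).1 = g.2 * y.2⁻¹ * g.2⁻¹ * (g.1 * y.1 * g.1⁻¹) := by
    simp [mul_assoc]
  simp only [τ]
  rw [this, hl.map_mul (hC _ (hH.le hg.1) _ hy2) (hC _ (hEG g hg) _ hy1), hinv _ (hH.le hg.1) _ hy2,
    hinv _ (hEG g hg) _ hy1, hl.map_mul hy2 hy1]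

theorem exists_indFrom_of_invOn {Γ : Type u} [Group Γ] [Finite Γ] {G H K C : Subgroup Γ} {θ φ : Γ → ℂ}
    (hH : H < G) (hmax : ∀ M, H ≤ M → M ≤ G → M = H ∨ M = G) (hs : SolvMod G C)
    (hC : Nrm G C) (hK : Nrm G K) (hHK : H ⊔ K = G) (hI : H ⊓ K = C) (hθ : IrrOn H θ) (hφ : IrrOn C φ)
    (hinv : InvOn G C φ) (hd : dot C θ φ ≠ 0) (hχ : IrrOn G (ind H G θ)) :
    ∃ M, C < M ∧ M ≤ G ∧ Nrm G M ∧ IndFrom M G (ind H G θ) := by
  have hCH : C ≤ H := hI.ge.trans inf_le_left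
  have hKG : K ≤ G := le_sup_right.trans hHK.le
  obtain ⟨Δ, _, _, π, τ, ν, c⟩ := exists_cover (hCH.trans hH.le) hC hφ hinv
  obtain ⟨β, hβ, h1, -, h2⟩ := c.exists_of_over hCH hH.le hθ hd
  have hβ' := irrOn_of_mem (IrrOver_subset hβ)
  have hmapE : (⊤ : Subgroup Δ).map π = G := by rw [← MonoidHom.range_eq_map, c.range]
  have hker : ∀ X : Subgroup Γ, ⊤ ⊓ π.ker ≤ X.comap π := fun X => inf_le_right.trans (c.ker_le X)
  have hfac : ∀ x ∈ (⊤ : Subgroup Δ), ind H G θ (π x) = ind (H.comap π) ⊤ β x * τ x := by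
    intro x hx
    have h3 := ind_comp π (H := H.comap π) (K := ⊤) le_top (hker H) θ hx
    rw [c.map_comap hH.le, hmapE] at h3
    rw [← h3, ← Pi.mul_apply, ← ind_mul le_top _ c.char.classOn]
    exact congrFun (ind_congr ⊤ h1) x
  have hζ : IrrOn ⊤ (ind (H.comap π) ⊤ β) := (hβ'.charOn.ind le_top).irrOn_of_mul c.char
    ((IrrOn.comp (f := π) (L := ⊤) (φ := ind H G θ) (by rw [hmapE]; exact hχ)).congr hfac)
  obtain ⟨M, a1, -, a3, a4⟩ := exists_indFrom_of_lin (G := ⊤) (H := H.comap π) (K := K.comap π)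
    (C := C.comap π)
    (lt_of_le_of_ne le_top fun h => hH.ne (by rw [← c.map_comap hH.le, h, hmapE]))
    (fun M a _ => by
      have a' := map_mono (f := π) a
      rw [c.map_comap hH.le] at a'
      rcases hmax (M.map π) a' (hmapE ▸ map_mono le_top) with h | h
      · exact Or.inl (le_antisymm (fun x hx => h.le (mem_map_of_mem π hx)) a)
      · exact Or.inr (le_antisymm le_top fun x hx =>
          mem_of_map_mem ((hker H).trans a) le_top hx (h.ge (c.mem x))))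
    (c.comap_self ▸ hs.comap π) (c.nrm_comap _) (fun g _ x hx => by
      simpa using hK _ (c.mem g) _ hx)
    (by
      rw [eq_top_iff]
      intro x _
      refine mem_of_map_mem (E := ⊤) ((hker H).trans le_sup_left) le_top trivial ?_
      rw [Subgroup.map_sup, c.map_comap hH.le, c.map_comap hKG, hHK]; exact c.mem x)
    (by rw [← comap_inf, hI]) hβ' c.lin c.inv (fun x hx => by rw [h2 x hx, hβ'.one_eq]) hζ
  have h5 := a4.descend ((hker C).trans a1.le) (hmapE ▸ hχ) c.char hfac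
  have h6 := a3.map π
  rw [hmapE] at h5 h6
  refine ⟨M.map π, lt_of_le_of_ne ((c.map_comap (hCH.trans hH.le)).ge.trans (map_mono a1.le)) fun h =>
    a1.not_ge fun x hx => h.ge (mem_map_of_mem π hx), hmapE ▸ map_mono le_top, h6, h5⟩

/-- Berger's theorem (relative form): if `G / N` is solvable and `χ` is homogeneous on every normal
subgroup containing `N` then `χ` is not induced from a proper subgroup containing `N`. -/
theorem IrrOn.not_indFrom_of_homog (hχ : IrrOn G χ) (hN : Nrm G N) (hs : SolvMod G N)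
    (h : ∀ M, N ≤ M → M ≤ G → Nrm G M → Homog M χ) : ¬ IndFrom N G χ := by
  intro h0
  obtain ⟨L, hNL, ⟨hL, h1⟩, hmaxL⟩ := Core.exists_maximal_ge (fun X => Nrm G X ∧ IndFrom X G χ) ⟨hN, h0⟩
  obtain ⟨H, hLH, hH, hmax, θ, hθ, e⟩ := h1.exists_maximal hχ
  have hθ' := irrOn_of_mem hθ
  obtain ⟨C, K, hLC, hCH, hc, -, hHK, hI, -⟩ := exists_core_chief hLH hL hH hmax (hs.mono le_rfl hNL)
  obtain ⟨φ, hφ, hd⟩ := hθ'.exists_under hCH
  have hφ' := irrOn_of_mem hφ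
  have hCG := hCH.trans hH.le
  have hd' : dot C χ φ ≠ 0 := (hχ.charOn.mono hH.le).dot_ne_zero_trans hCH hθ' hφ'.charOn
    (by rw [← dot_ind_right hH.le hχ.classOn, e, dot_cut_right, hχ.dot_self]; simp) hd
  obtain ⟨M, a1, -, a3, T, b1, b2, ψ, hψ, e'⟩ := exists_indFrom_of_invOn hH hmax
    (hs.mono le_rfl (hNL.trans hLC)) hc.nL hc.nK hHK hI hθ' hφ'
    ((hχ.homog_iff hCG hc.nL hφ' hd').1 (h C (hNL.trans hLC) hCG hc.nL)) hd (e ▸ irrOn_cut.2 hχ)
  rw [cut_ind hH.le, e] at e'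
  exact (hLC.trans_lt a1).ne' (hmaxL M ⟨a3, T, b1, b2, ψ, hψ, e'⟩ (hLC.trans a1.le))

end Cfsg.Lib.Clifford
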