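import Cfsg.Agent.Lib.Clifford.Cover
import Cfsg.Agent.Lib.Amalg.Ops
import Cfsg.Agent.Lib.Hall.MinNormal
import Cfsg.Agent.Lib.BG1.PLength

/-! Fully ramified characters and Sylow subgroups (Gagola, Howlett–Isaacs). -/

set_option autoImplicit false

namespace Cfsg.Lib.Clifford

open Cfsg Cfsg.Lib.Char Subgroup Finset

variable {Γ : Type*} [Group Γ] [Finite Γ] {K N S R : Subgroup Γ} {φ ψ θ χ ξ : Γ → ℂ} {p : ℕ}

theorem fram_of_eq (hNK : N ≤ K) (hN : Nrm K N) (hχ : IrrOn K χ) (hθ : IrrOn N θ) {e : ℕ}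
    (he : e ^ 2 = N.relIndex K) (h : ∀ x ∈ N, χ x = e * θ x) :
    InvOn K N θ ∧ mult N χ θ = e ∧ IrrOver K N θ = {cut K χ} ∧ ∀ x ∈ K, x ∉ N → χ x = 0 := by
  have h0 : (e : ℂ) ≠ 0 := Nat.cast_ne_zero.2 (by
    rintro rfl; exact relIndex_ne_zero N K (he.symm.trans (by simp)))
  have h1 := invOn_of_eq_mul hNK hN hχ.classOn h0 h
  have h2 : dot N χ θ = e := by
    rw [dot_congr_left (φ' := (e : ℂ) • θ) h, dot_smul_left, hθ.dot_self, mul_one]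
  have h3 := mult_of_eq h2
  exact ⟨h1, h3, (mult_sq_eq_iff_unique hNK hN hχ hθ h1 (h2 ▸ h0)).1 (h3 ▸ he),
    (mult_sq_eq_iff_vanish hNK hN hχ hθ h1 (h2 ▸ h0)).1 (h3 ▸ he)⟩

theorem fram_sylow (hp : p.Prime) (hNS : N ≤ S) (hSK : S ≤ K) (hN : Nrm K N) (hθ : IrrOn N θ)
    (hinv : InvOn K N θ) (h : IrrOver K N θ = {χ}) {a : ℕ} (ha : N.relIndex S = p ^ a)
    (hS : ¬ p ∣ S.relIndex K) : ∃ ξ, IrrOver S N θ = {ξ} := by
  have hNK := hNS.trans hSK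
  obtain ⟨ξ, hξ⟩ := hθ.IrrOver_nonempty hNS
  obtain ⟨h1, h2⟩ := mem_IrrOver.1 hξ
  obtain ⟨h3, h4⟩ := mem_IrrOver.1 (h ▸ mem_singleton_self χ)
  have hi := irrOn_of_mem h1
  refine ⟨_, (mult_sq_eq_iff_unique hNS (hN.mono hSK) hi hθ (hinv.mono hSK le_rfl) h2).1 (le_antisymm ?_ ?_)⟩
  · rw [← sum_mult_sq_over hNS (hN.mono hSK) hθ (hinv.mono hSK le_rfl)]
    exact single_le_sum (f := fun χ => mult N χ θ ^ 2) (fun _ _ => Nat.zero_le _) hξ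
  have h5 : charDegree χ ∣ S.relIndex K * charDegree ξ := by
    rw [hi.charOn.relIndex_mul_deg hSK]
    refine dvd_sum fun φ hφ => ?_
    rcases eq_or_ne (mult S φ ξ) 0 with e | e
    · simp [e]
    have hc := (irrOn_of_mem hφ).charOn.mono hSK
    rw [mem_singleton.1 (h.le <| mem_IrrOver.2 ⟨hφ, hc.dot_ne_zero_trans hNS hi hθ.charOn
      ((hc.mult_ne_zero hi.charOn).1 e) h2⟩)]
    exact dvd_mul_left _ _
  rw [clifford_invOn_deg hNK hN (irrOn_of_mem h3) hθ hinv h4, clifford_invOn_deg hNS (hN.mono hSK) hi hθ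
    (hinv.mono hSK le_rfl) h2, ← mul_assoc, Nat.mul_dvd_mul_iff_right hθ.deg_pos] at h5
  have h6 := sum_mult_sq_over hNK hN hθ hinv
  rw [h, sum_singleton, ← relIndex_mul_relIndex N S K hNS hSK, ha] at h6
  have h7 := (Dvd.intro _ h6.symm).trans (pow_dvd_pow_of_dvd h5 2)
  rw [mul_pow] at h7
  exact ha ▸ Nat.le_of_dvd (pow_pos (Nat.pos_of_ne_zero (((hi.charOn.mono hNS).mult_ne_zero hθ.charOn).2 h2)) 2)
    ((((Nat.Prime.coprime_iff_not_dvd hp).2 hS).pow a 2).dvd_of_dvd_mul_left h7)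

theorem orb_eq_IrrOver {M : Subgroup Γ} (hNR : N ≤ R) (hRS : R ≤ S) (hSM : S ≤ M) (hR : Nrm M R) (hN : Nrm M N)
    (hθ : IrrOn N θ) (hinv : InvOn M N θ) (h : IrrOver S N θ = {ξ}) (hψ : ψ ∈ IrrOver R N θ) :
    orb M R ψ = IrrOver R N θ := by
  obtain ⟨h1, h2⟩ := mem_IrrOver.1 hψ
  have key : ∀ φ ∈ IrrOver R N θ, IrrOn S ξ ∧ dot R ξ φ ≠ 0 := fun φ hφ => by
    obtain ⟨a, b⟩ := mem_IrrOver.1 hφ
    obtain ⟨η, c, d⟩ := (irrOn_of_mem a).exists_over hRS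
    rw [← mem_singleton.1 (h.le <| mem_IrrOver.2 ⟨c, ((irrOn_of_mem c).charOn.mono hRS).dot_ne_zero_trans hNR
      (irrOn_of_mem a) hθ.charOn d b⟩)]
    exact ⟨irrOn_of_mem c, d⟩
  ext φ
  constructor
  · intro hφ
    obtain ⟨g, hg, rfl⟩ := mem_orb.1 hφ
    rw [cut_of_mem_Irr h1]
    refine mem_IrrOver.2 ⟨cj_mem_Irr hR h1 hg, ?_⟩
    rwa [dot_congr_right (ψ' := cj g θ) _ fun x hx => (hinv g hg x hx).symm, dot_cj hN hg]
  · intro hφ
    have a := (mem_IrrOver.1 hφ).1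
    obtain ⟨g, hg, e⟩ := mem_orb.1 (mem_orb_of_dot hRS (hR.mono hSM) (key ψ hψ).1 (irrOn_of_mem h1)
      (irrOn_of_mem a) (key ψ hψ).2 (key φ hφ).2)
    exact mem_orb.2 ⟨g, hSM hg, e.trans (cut_of_mem_Irr a)⟩

theorem fram_compl [hp : Fact p.Prime] [N.Normal] [K.Normal] (hNK : N ≤ K) (hθ : IrrOn N θ)
    (hinv : InvOn ⊤ N θ) (h : IrrOver ⊤ N θ = {χ}) {P : Subgroup Γ} (hP : Amalg.Syl p P ⊤)
    (hI : ∀ ξ, IrrOver (N ⊔ P) N θ = {ξ} → ∀ ψ ∈ IrrOver (N ⊔ P ⊓ K) N θ,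
      inertia (N ⊔ P) (N ⊔ P ⊓ K) ψ ≤ N ⊔ P ⊓ K) :
    ∃ T : Subgroup (Γ ⧸ K), ¬ p ∣ Nat.card T ∧ ∃ a, T.index = p ^ a := by
  obtain ⟨a, ha⟩ := BG1.relIndex_sup_eq_pow hp.out hP.isPGroup (K := N) Amalg.le_normalizer_of_normal'
  obtain ⟨ξ, hξ⟩ := fram_sylow hp.out le_sup_left le_top (nrm_of_normal ⊤ N) hθ hinv h ha
    (hP.not_dvd_relIndex_of_le le_sup_right)
  set R := N ⊔ P ⊓ K
  obtain ⟨ψ, hψ⟩ := hθ.IrrOver_nonempty (le_sup_left : N ≤ R)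
  have hQ : normalizer (P ⊓ K : Subgroup Γ) ≤ normalizer (R : Set Γ) :=
    Core.le_normalizer_sup Amalg.le_normalizer_of_normal' le_rfl
  have hRS : R ≤ N ⊔ P := sup_le_sup_left inf_le_left _
  have hSM : N ⊔ P ≤ normalizer (R : Set Γ) := sup_le (le_sup_left.trans le_normalizer)
    ((Core.le_normalizer_inf le_normalizer Amalg.le_normalizer_of_normal').trans hQ)
  have hM := nrm_of_le_normalizer (le_refl (normalizer (R : Set Γ)))
  have hc := (irrOn_of_mem (mem_IrrOver.1 hψ).1).classOn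
  have h1 := orb_eq_IrrOver le_sup_left hRS hSM hM (nrm_of_normal _ N) hθ (hinv.mono le_top le_rfl) hξ hψ
  rw [← orb_eq_IrrOver le_sup_left hRS le_rfl (hM.mono hSM) (nrm_of_normal _ N) hθ
    (hinv.mono le_top le_rfl) hξ hψ] at h1
  have h2 := congrArg card h1
  rw [card_orb, card_orb, le_antisymm (hI ξ hξ ψ hψ) (le_inertia hRS (hM.mono hSM) hc)] at h2
  have h3 := le_inertia le_normalizer hM hc
  have h4 := (relIndex_mul_relIndex _ _ _ h3 inertia_le).trans (relIndex_mul_relIndex _ _ _ hRS hSM).symm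
  rw [h2, mul_comm, mul_right_inj' (relIndex_ne_zero _ _)] at h4
  refine ⟨(inertia (normalizer (R : Set Γ)) R ψ).map (QuotientGroup.mk' K), fun hd => ?_, ?_⟩
  · rw [Hall.card_map_mk'] at hd
    exact (hP.of_le (le_sup_right.trans hSM) le_top).not_dvd_relIndex_of_le le_sup_right
      (h4 ▸ hd.trans (relIndex_dvd_of_le_left _ (sup_le hNK inf_le_right)))
  · have h5 := index_map_dvd ((inertia (normalizer (R : Set Γ)) R ψ).subgroupOf (normalizer (R : Set Γ)))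
      (f := (QuotientGroup.mk' K).comp (normalizer (R : Set Γ)).subtype) fun x => by
        obtain ⟨x, rfl⟩ := QuotientGroup.mk_surjective x
        obtain ⟨n, hn, m, hm, rfl⟩ := (hP.inf_normal_top K).frattini_mem
          (Amalg.le_normalizer_of_normal' (mem_top x))
        exact ⟨⟨m, hQ hm⟩, by simp [(QuotientGroup.eq_one_iff n).2 hn]⟩
    rw [← Subgroup.map_map, Amalg.map_subgroupOf_of_le inertia_le] at h5
    have h6 : R.relIndex (N ⊔ P) ∣ p ^ a := by rw [← ha]; exact relIndex_dvd_of_le_left _ le_sup_left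
    rw [← h2] at h6
    obtain ⟨b, -, hb⟩ := (Nat.dvd_prime_pow hp.out).1 (h5.trans h6)
    exact ⟨b, hb⟩

theorem inertia_le_of_cyclic {C : Subgroup Γ} [IsCyclic C] (hS : C ⊔ R = S) (hR : Nrm S R) (hψ : IrrOn R ψ)
    (h : (IrrOver S R ψ).card ≤ 1) : inertia S R ψ ≤ R := by
  have hRS : R ≤ S := le_sup_right.trans hS.le
  have hRI := le_inertia hRS hR hψ.classOn
  have hn := hR.mono (inertia_le (θ := ψ) (N := R))
  have := isCyclic_of_le (inf_le_left : C ⊓ inertia S R ψ ≤ C)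
  obtain ⟨η, h1, h2⟩ := exists_ext_of_isCyclic (C := C ⊓ inertia S R ψ) (K := inertia S R ψ) (le_antisymm
    (sup_le inf_le_right hRI) fun x hx => by
      obtain ⟨c, hc, n, hn', rfl⟩ := exists_mul_of_mem_sup_nrm (hR.mono (le_sup_left.trans hS.le))
        (hS.ge (inertia_le hx))
      exact mul_mem_sup ⟨hc, (mul_mem_cancel_right (hRI hn')).1 hx⟩ hn') hn hψ (invOn_inertia hR)
  have h3 : dot R η ψ = (1 : ℕ) := by rw [dot_congr_left h2, hψ.dot_self, Nat.cast_one]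
  have h4 := sum_mult_sq_over hRI hn hψ (invOn_inertia hR)
  rw [card_IrrOver_inertia hRS hR hψ] at h
  rw [eq_singleton_iff_unique_mem.2 ⟨mem_IrrOver.2 ⟨h1, by simp [h3]⟩, fun x hx =>
    card_le_one.1 h _ hx _ (mem_IrrOver.2 ⟨h1, by simp [h3]⟩)⟩, sum_singleton, mult_of_eq h3] at h4
  exact relIndex_eq_one.1 h4.symm

theorem IrrOver_subset_of_mem (hNR : N ≤ R) (hRS : R ≤ S) (hθ : IrrOn N θ) (hψ : ψ ∈ IrrOver R N θ) :
    IrrOver S R ψ ⊆ IrrOver S N θ := fun _ hη =>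
  mem_IrrOver.2 ⟨(mem_IrrOver.1 hη).1, ((irrOn_of_mem (mem_IrrOver.1 hη).1).charOn.mono hRS).dot_ne_zero_trans hNR
    (irrOn_of_mem (mem_IrrOver.1 hψ).1) hθ.charOn (mem_IrrOver.1 hη).2 (mem_IrrOver.1 hψ).2⟩

theorem fram_top {Z : Subgroup Γ} [Z.Normal] (χ : IrrCharacter Γ) (hfr : ∃ (θ : IrrCharacter Z) (e : ℕ),
    e ^ 2 = Z.index ∧ ∀ z : Z, (χ : Γ → ℂ) z = (e : ℂ) * (θ : Z → ℂ) z) :
    ∃ θ, IrrOn Z θ ∧ InvOn ⊤ Z θ ∧ mult Z χ θ ^ 2 = Z.index ∧ IrrOver ⊤ Z θ = {χ.1} ∧ ∀ x ∉ Z, χ.1 x = 0 := by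
  obtain ⟨θ, e, he, h⟩ := hfr
  obtain ⟨h1, h2, h3, h4⟩ := fram_of_eq le_top (nrm_of_normal ⊤ Z) (irrOn_top.2 χ.2) (irrOn_extendByZero.2 θ.2)
    (he.trans Z.relIndex_top_right.symm) fun x hx => by rw [Clifford.extendByZero_of_mem _ hx]; exact h ⟨x, hx⟩
  exact ⟨_, irrOn_extendByZero.2 θ.2, h1, by rw [← he]; exact congrArg (· ^ 2) h2, h3.trans (by rw [cut_top]),
    fun x hx => h4 x trivial hx⟩

theorem mult_eq_of_unique (hNR : N ≤ R) (hRS : R ≤ S) (hR : Nrm S R) (hN : Nrm S N) (hθ : IrrOn N θ)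
    (hinv : InvOn S N θ) (h : IrrOver S N θ = {ξ}) (hψ : ψ ∈ IrrOver R N θ) :
    (∀ η ∈ IrrOver R N θ, mult N η θ = mult N ψ θ) ∧
      mult N ψ θ ^ 2 * (inertia S R ψ).relIndex S = N.relIndex R := by
  have h1 := orb_eq_IrrOver hNR hRS le_rfl hR hN hθ hinv h hψ
  have key : ∀ η ∈ IrrOver R N θ, charDegree η = mult N η θ * charDegree θ := fun η hη =>
    clifford_invOn_deg hNR (hN.mono hRS) (irrOn_of_mem (mem_IrrOver.1 hη).1) hθ (hinv.mono hRS le_rfl)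
      (mem_IrrOver.1 hη).2
  have h2 : ∀ η ∈ IrrOver R N θ, mult N η θ = mult N ψ θ := fun η hη =>
    Nat.eq_of_mul_eq_mul_right hθ.deg_pos (by
      rw [← key η hη, ← key ψ hψ, charDegree_of_eq ((orb_one (h1.ge hη)).trans
        (irrOn_of_mem (mem_IrrOver.1 hψ).1).one_eq)])
  refine ⟨h2, ?_⟩
  rw [← sum_mult_sq_over hNR (hN.mono hRS) hθ (hinv.mono hRS le_rfl), sum_congr rfl fun η hη => by rw [h2 η hη],
    sum_const, ← h1, card_orb, smul_eq_mul, mul_comm]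

theorem inertia_le_of_ind [N.Normal] [K.Normal] (hNK : N ≤ K) (hθ : IrrOn N θ) (hinv : InvOn ⊤ N θ)
    (h : IrrOver ⊤ N θ = {χ}) (hφ : φ ∈ IrrOver K N θ) (hI : inertia ⊤ K φ ≤ K) (hNS : N ≤ S)
    (hξ : IrrOver S N θ = {ξ}) (hc : (K.relIndex S).Coprime ((K ⊓ S).relIndex K))
    (hψ : ψ ∈ IrrOver (K ⊓ S) N θ) : inertia S (K ⊓ S) ψ ≤ K ⊓ S := by
  have hNR : N ≤ K ⊓ S := le_inf hNK hNS
  have hR : Nrm S (K ⊓ S) := (nrm_of_normal S K).inf (nrm_self S)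
  have hi := irrOn_of_mem (mem_IrrOver.1 hφ).1
  obtain ⟨-, h1⟩ := mult_eq_of_unique hNK le_top (nrm_of_normal _ _) (nrm_of_normal _ _) hθ hinv h hφ
  obtain ⟨h2, h3⟩ := mult_eq_of_unique hNR inf_le_right hR (nrm_of_normal _ _) hθ (hinv.mono le_top le_rfl) hξ hψ
  obtain ⟨f, hf⟩ : mult N ψ θ ∣ mult N φ θ := by
    have hc' := hi.charOn.mono (inf_le_left : K ⊓ S ≤ K)
    obtain ⟨n, hn⟩ := hc'.dot_nat (charOn_sum (IrrOver (K ⊓ S) N θ) fun η hη =>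
      (irrOn_of_mem (mem_IrrOver.1 hη).1).charOn)
    refine ⟨n, mult_of_eq ?_⟩
    rw [← dot_ind_right hNR hc'.classOn, hθ.charOn.ind_eq_sum_over hNR, sum_congr rfl fun η hη => by rw [h2 η hη],
      ← smul_sum, dot_smul_right, hn, Nat.cast_mul, map_natCast]
  have hRI := le_inertia inf_le_right hR (irrOn_of_mem (mem_IrrOver.1 hψ).1).classOn
  rw [le_antisymm hI (le_inertia le_top (nrm_of_normal _ _) hi.classOn), ← relIndex_mul_relIndex N _ K hNR inf_le_left,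
    ← h3, hf, mul_pow, mul_assoc, mul_assoc, relIndex_top_right, Nat.mul_right_inj (pow_ne_zero 2
      ((((irrOn_of_mem (mem_IrrOver.1 hψ).1).charOn.mono hNR).mult_ne_zero hθ.charOn).2 (mem_IrrOver.1 hψ).2))] at h1
  have h4 := hc.dvd_of_dvd_mul_right (h1 ▸ (relIndex_dvd_index_of_normal K S).mul_left _)
  have h5 := relIndex_mul_relIndex _ _ _ hRI inertia_le
  rw [inf_relIndex_right] at h5
  rw [← h5] at h4
  exact relIndex_eq_one.1 (Nat.eq_one_of_dvd_one (Nat.dvd_of_mul_dvd_mul_right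
    (Nat.pos_of_ne_zero (relIndex_ne_zero _ _)) (h4.trans (one_mul _).symm.dvd)))

end Cfsg.Lib.Clifford
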