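import Cfsg.Agent.Lib.Clifford.Column
import Cfsg.Agent.Lib.Invol.Classes
import Cfsg.Agent.Lib.Core.Nilpotent
import Cfsg.Agent.Lib.Char.Classes
import Cfsg.Agent.Lib.Char.Kernel
import Cfsg.Agent.Lib.Coprime.Blichfeldt
import Cfsg.Agent.S0238

/-! Landau's theorem and Brauer–Fowler type order bounds. -/

set_option autoImplicit false
open Cfsg Cfsg.Lib.Char Cfsg.Lib.Invol Finset Subgroup

namespace Cfsg.Lib.Clifford

universe u

theorem landau_aux (k : ℕ) : ∀ r : ℚ, ∃ N : ℕ, ∀ {ι : Type u} (s : Finset ι) (f : ι → ℕ), s.card ≤ k →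
    (∀ i ∈ s, 0 < f i) → ∑ i ∈ s, (f i : ℚ)⁻¹ = r → ∀ i ∈ s, f i ≤ N := by
  classical
  induction k with
  | zero => exact fun r => ⟨0, fun s f h _ _ i hi => absurd (card_pos.2 ⟨i, hi⟩) (by omega)⟩
  | succ k ih =>
    choose N hN using ih
    refine fun r => ⟨⌈(k + 1 : ℚ) / r⌉₊ + (range (⌈(k + 1 : ℚ) / r⌉₊ + 1)).sup fun n => N (r - (n : ℚ)⁻¹),
      fun s f h h0 hr i hi => ?_⟩
    obtain ⟨j, hj, hmin⟩ := exists_min_image s f ⟨i, hi⟩
    have hr0 : 0 < r := hr ▸ sum_pos (fun i hi => by simpa using h0 i hi) ⟨i, hi⟩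
    have h1 : f j ≤ ⌈(k + 1 : ℚ) / r⌉₊ := by
      refine Nat.cast_le.1 (((le_div_iff₀ hr0).2 ?_).trans (Nat.le_ceil _))
      rw [← hr, mul_sum]
      refine (sum_le_card_nsmul _ _ 1 fun i hi => ?_).trans (by simpa using by exact_mod_cast h)
      rw [← div_eq_mul_inv, div_le_one (by simpa using h0 i hi)]
      exact_mod_cast hmin i hi
    by_cases e : i = j
    · exact e ▸ h1.trans (Nat.le_add_right _ _)
    refine (hN (r - (f j : ℚ)⁻¹) (s.erase j) f (by rw [card_erase_of_mem hj]; omega) (fun i hi => h0 i (mem_of_mem_erase hi))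
      (by rw [← hr, ← add_sum_erase _ _ hj]; ring) i (mem_erase.2 ⟨e, hi⟩)).trans (le_add_left ?_)
    exact le_sup (f := fun n : ℕ => N (r - (n : ℚ)⁻¹)) (mem_range.2 (Nat.lt_succ_of_le h1))

/-- Landau's theorem. -/
theorem landau (k : ℕ) : ∃ N : ℕ, ∀ (G : Type u) [Group G] [Finite G], Nat.card (IrrCharacter G) ≤ k →
    Nat.card G ≤ N := by
  obtain ⟨N, hN⟩ := landau_aux.{u} k 1
  refine ⟨N, fun G _ _ h => ?_⟩
  have := Fintype.ofFinite G
  have := Fintype.ofFinite (ConjClasses G)
  have h1 := hN univ (fun C : ConjClasses G => Nat.card (centralizer ({C.out} : Set G)))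
    (by rwa [card_univ, ← Nat.card_eq_fintype_card, ← card_irrCharacter_eq]) (fun _ _ => Nat.card_pos) (by
      have h2 := (isClassFunction_one (G := G)).sum_eq_sum_conjClasses
      simp only [Pi.one_apply, sum_const, card_univ, nsmul_eq_mul, mul_one] at h2
      have h3 : (Nat.card G : ℚ) = ∑ C : ConjClasses G, ((centralizer ({C.out} : Set G)).index : ℚ) := by
        rw [Nat.card_eq_fintype_card]; exact_mod_cast h2
      refine mul_left_cancel₀ (Nat.cast_ne_zero.2 (Nat.card_pos (α := G)).ne') ?_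
      rw [mul_sum, mul_one]
      refine (sum_congr rfl fun C _ => ?_).trans h3.symm
      rw [← (centralizer ({C.out} : Set G)).index_mul_card, Nat.cast_mul,
        mul_inv_cancel_right₀ (Nat.cast_ne_zero.2 Nat.card_pos.ne')]) (ConjClasses.mk 1) (mem_univ _)
  rwa [isConj_one_left.1 (ConjClasses.mk_eq_mk_iff_isConj.1 (Quotient.out_eq (ConjClasses.mk (1 : G)))),
    centralizer_eq_top_iff_subset.2 (by simp), card_top] at h1

variable {G : Type u} [Group G] [Finite G]

theorem card_centralizer_quotient_le (N : Subgroup G) [N.Normal] (g : G) :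
    Nat.card (centralizer ({(g : G ⧸ N)} : Set (G ⧸ N))) ≤ Nat.card (centralizer ({g} : Set G)) := by
  classical
  rw [← Nat.cast_le (α := ℝ), ← sum_norm_sq_eq_card_centralizer, ← sum_norm_sq_eq_card_centralizer]
  exact (sum_map univ ⟨_, Subtype.val_injective.comp (irrQuotientEquiv N).injective⟩
    fun χ : IrrCharacter G => ‖(χ : G → ℂ) g‖ ^ 2).ge.trans
    (sum_le_sum_of_subset_of_nonneg (subset_univ _) fun _ _ _ => by positivity)

/-- Brauer–Fowler: an involution with a small centralizer gives a small nontrivial class. -/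
theorem exists_small_class {t : G} (ht : orderOf t = 2) : ∃ x : G, x ≠ 1 ∧
    (centralizer ({x} : Set G)).index ≤ 2 * Nat.card (centralizer ({t} : Set G)) ^ 2 := by
  classical
  have := Fintype.ofFinite G
  set n := Nat.card (centralizer ({t} : Set G)) with hn
  have hmn := card_isConj_mul t
  rw [← hn] at hmn
  set m := Nat.card {y : G // IsConj t y} with hm
  have hn0 : 0 < n := Nat.card_pos
  have hm0 : 0 < m := card_pos_of (IsConj.refl t)
  by_cases hm1 : m = 1
  · exact ⟨t, ne_one_of_two ht, by rw [← card_isConj, ← hm, hm1]; nlinarith⟩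
  obtain ⟨x, hx, hmax⟩ := exists_max_image (univ.filter fun x : G => x ≠ 1)
    (fun x => Nat.card (centralizer ({x} : Set G))) ⟨t, by simpa using ne_one_of_two ht⟩
  simp only [mem_filter, mem_univ, true_and] at hx hmax
  refine ⟨x, hx, ?_⟩
  have hkc := (centralizer ({x} : Set G)).index_mul_card
  set k := (centralizer ({x} : Set G)).index
  set c := Nat.card (centralizer ({x} : Set G))
  have hcount : m * m ≤ m + (Nat.card G - 1) * c := by
    rw [hm, ← card_prod_and, card_split _ (fun p : G × G => p.1 * p.2 = 1)]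
    apply Nat.add_le_add
    · refine card_le_of_inj Prod.fst (fun p hp => hp.1.1) ?_
      rintro ⟨u, v⟩ ⟨u', v'⟩ ⟨-, h1⟩ ⟨-, h2⟩ h3
      simp only at h1 h2 h3
      subst h3
      rw [mul_left_cancel (h1.trans h2.symm)]
    · have e : Nat.card G - 1 = Nat.card {y : G // y ≠ 1} := by
        have := card_remove (p := fun _ : G => True) (a := 1) trivial
        rw [card_true, card_congr_iff (q := fun y : G => y ≠ 1) (fun y => by simp)] at this
        omega
      rw [e]
      refine card_le_mul_of_fibers (fun p : G × G => p.1 * p.2) (fun p hp => hp.2) fun y hy => ?_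
      refine le_trans ?_ ((Cfsg.Agent.S0238.result y).1.trans (hmax y hy))
      exact card_le_of_imp fun p hp => ⟨(orderOf_of_isConj hp.1.1.1).symm.trans ht,
        (orderOf_of_isConj hp.1.1.2).symm.trans ht, hp.2⟩
  obtain ⟨m', hm'⟩ : ∃ m', m = m' + 2 := ⟨m - 2, by omega⟩
  have hG : Nat.card G - 1 + 1 = Nat.card G := Nat.sub_add_cancel Nat.card_pos
  generalize Nat.card G - 1 = g at *
  rw [← hG] at hmn hkc
  rw [hm'] at hcount hmn
  have h1 : (m' + 2) * (m' + 1) ≤ g * c := by nlinarith
  have h2 : (m' + 2) * (k * (m' + 1)) ≤ (m' + 2) * (n * g) := by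
    calc (m' + 2) * (k * (m' + 1)) = k * ((m' + 2) * (m' + 1)) := by ring
      _ ≤ k * (g * c) := Nat.mul_le_mul_left _ h1
      _ = g * ((m' + 2) * n) := by rw [hmn, ← hkc]; ring
      _ = _ := by ring
  have h3 := Nat.le_of_mul_le_mul_left h2 (by omega)
  have h4 : g ≤ 2 * n * (m' + 1) := by nlinarith
  have h5 : k * (m' + 1) ≤ 2 * n ^ 2 * (m' + 1) := by
    calc _ ≤ n * g := h3
      _ ≤ n * (2 * n * (m' + 1)) := Nat.mul_le_mul_left _ h4
      _ = _ := by ring
  exact Nat.le_of_mul_le_mul_right h5 (by omega)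

/-- A normal subgroup of odd order is bounded by the centralizers of a four-group. -/
theorem card_le_of_odd {a b : G} (ha : a * a = 1) (hb : b * b = 1) (hab : Commute a b) {c : ℕ}
    (h1 : Nat.card (centralizer ({a} : Set G)) ≤ c) (h2 : Nat.card (centralizer ({b} : Set G)) ≤ c)
    (h3 : Nat.card (centralizer ({a * b} : Set G)) ≤ c) (O : Subgroup G) [hO : O.Normal]
    (ho : Odd (Nat.card O)) : Nat.card O ≤ c * c * c := by
  have h4 : ∀ o ∈ O, ∃ w, (Commute w a ∧ IsConj (a * b) w) ∧ Commute (o * b * o⁻¹) w := fun o hoO => by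
    have hv : o * b * o⁻¹ * (o * b * o⁻¹) = 1 := by rw [conj_mul, hb]; simp
    have e : ((a * (o * b * o⁻¹) : G) : G ⧸ O) = (a * b : G) := by
      simp [(QuotientGroup.eq_one_iff o).2 hoO]
    have hab2 : a * b * (a * b) = 1 := by rw [← sq, hab.mul_pow, sq, sq, ha, hb, one_mul]
    obtain ⟨k, hk⟩ := ho
    have h5 : (a * (o * b * o⁻¹)) ^ (2 * k + 1) * (a * (o * b * o⁻¹)) ^ (2 * k + 1) = 1 := by
      rw [← pow_add, ← two_mul, pow_mul, ← hk, ← orderOf_dvd_iff_pow_eq_one]
      refine orderOf_dvd_natCard _ ((QuotientGroup.eq_one_iff _).1 ?_)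
      rw [QuotientGroup.mk_pow, e, ← QuotientGroup.mk_pow, sq, hab2, QuotientGroup.mk_one]
    refine ⟨(a * (o * b * o⁻¹)) ^ (2 * k + 1), ⟨commute_of_inverts
      (conj_pow_of_inv (left_inverts ha hv) _) h5, isConj_of_odd hab2 h5 (Odd.of_dvd_nat ⟨k, hk⟩
        (orderOf_dvd_natCard _ ((QuotientGroup.eq_one_iff _).1 ?_)))⟩,
      (commute_of_inverts (conj_pow_of_inv (right_inverts ha hv) _) h5).symm⟩
    rw [QuotientGroup.mk_mul, QuotientGroup.mk_pow, e, ← QuotientGroup.mk_pow, ← QuotientGroup.mk_mul,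
      ← pow_succ', show 2 * k + 1 + 1 = 2 * (k + 1) by ring, pow_mul, sq, hab2, one_pow, QuotientGroup.mk_one]
  choose! w hw using h4
  refine (card_le_mul_of_fibers (p := (· ∈ O)) (q := fun y : G × G =>
    (Commute y.1 a ∧ IsConj (a * b) y.1) ∧ Commute y.2 y.1 ∧ IsConj b y.2) (fun o => (w o, o * b * o⁻¹))
    (fun o h => ⟨(hw o h).1, (hw o h).2, isConj_conj o b⟩) (k := c) fun y hy => ?_).trans
    (Nat.mul_le_mul_right _ ((card_rel_le_mul_left (p := fun x => Commute x a ∧ IsConj (a * b) x)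
      (r := fun x y : G => Commute y x ∧ IsConj b y) (k := c)
      fun x hx => ?_).trans (Nat.mul_le_mul_right _ ?_)))
  · exact (card_le_of_imp fun o h => congrArg Prod.snd h.2).trans ((card_conjugators hy.2.2).le.trans h2)
  · exact (card_le_of_imp fun y h => mem_cent.2 h.1).trans
      ((card_centralizer_eq_of_isConj hx.2).ge.trans h3)
  · exact (card_le_of_imp fun y h => mem_cent.2 h.1).trans h1

theorem exists_small_normal (hO : oddCore G = ⊥) {x : G} (hx : x ≠ 1) : ∃ R : Subgroup G, R.Normal ∧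
    R ≠ ⊥ ∧ Nat.card R ≤ (centralizer ({x} : Set G)).index.factorial * 2 ^ (Nat.card G).factorization 2 := by
  set R := normalClosure ({x} : Set G)
  set N := (centralizer ({x} : Set G)).normalCore
  have hRN : R ≤ centralizer N := normalClosure_le_normal (Set.singleton_subset_iff.2
    fun n hn => mem_centralizer_singleton_iff.1 (normalCore_le _ hn))
  refine ⟨R, inferInstance, fun e => hx (mem_bot.1 (e ▸ subset_normalClosure rfl)), ?_⟩
  have hab : IsMulCommutative ↥(N ⊓ R) := ⟨⟨fun a b => Subtype.ext (hRN b.2.2 a a.2.1)⟩⟩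
  have : Group.IsNilpotent ↥(N ⊓ R) := ⟨⟨1, upperCentralSeries_one_eq_top_iff.2 hab⟩⟩
  have h2 : IsPGroup 2 ↥(N ⊓ R) := (Core.isPGroup_pCore 2 G).to_le (by
    simpa [show pPrimeCore 2 G = ⊥ from hO] using
      Core.le_pCore_sup_pPrimeCore_of_normal_nilpotent Nat.prime_two (N ⊓ R))
  rw [← card_mul_relIndex (inf_le_right : N ⊓ R ≤ R), mul_comm, inf_relIndex_right]
  obtain ⟨k, hk⟩ := IsPGroup.iff_card.1 h2
  refine Nat.mul_le_mul (Nat.le_of_dvd (Nat.factorial_pos _) ((relIndex_dvd_index_of_normal N R).trans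
    (Coprime.index_normalCore_dvd _))) ?_
  rw [hk]
  exact Nat.pow_le_pow_right two_pos ((Nat.prime_two.pow_dvd_iff_le_factorization Nat.card_pos.ne').1
    (hk ▸ card_subgroup_dvd_card _))

/-- A group with Sylow `2`-subgroups of bounded order and a four-group with bounded centralizers has
bounded order. -/
theorem exists_bound_of_four_group (c n : ℕ) : ∃ N : ℕ, ∀ (G : Type u) [Group G] [Finite G],
    (Nat.card G).factorization 2 < n → ∀ a b : G, orderOf a = 2 → orderOf b = 2 → a ≠ b → Commute a b →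
    Nat.card (centralizer ({a} : Set G)) ≤ c → Nat.card (centralizer ({b} : Set G)) ≤ c →
    Nat.card (centralizer ({a * b} : Set G)) ≤ c → Nat.card G ≤ N := by
  induction n with
  | zero => exact ⟨0, fun G _ _ h => absurd h (by omega)⟩
  | succ n ih =>
    obtain ⟨N, hN⟩ := ih
    refine ⟨c * c * c * ((2 * c ^ 2).factorial * 2 ^ n) * (c + N), fun G _ _ hG a b ha hb hne hab h1 h2 h3 => ?_⟩
    have hO := Core.odd_card_oddCore G
    have q : ∀ (R : Subgroup G) [R.Normal] {t : G}, orderOf t = 2 → t ∉ R → orderOf (t : G ⧸ R) = 2 :=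
      fun R _ t ht h => two_of_mul_self (by rw [← QuotientGroup.mk_mul, mul_self_of_two ht]; rfl)
        (mt (QuotientGroup.eq_one_iff t).1 h)
    obtain ⟨x, hx, hi⟩ := exists_small_class (q _ ha fun h => odd_card_iff.1 hO a h ha)
    obtain ⟨R', hR', hR0, hc⟩ := exists_small_normal Core.pPrimeCore_quotient_pPrimeCore hx
    set R := R'.comap (QuotientGroup.mk' (oddCore G))
    have e : Nat.card R = Nat.card (oddCore G) * Nat.card R' := (Core.card_comap_mk' _ _).trans (mul_comm _ _)
    have hR : Nat.card R ≤ c * c * c * ((2 * c ^ 2).factorial * 2 ^ n) := by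
      rw [e]
      refine Nat.mul_le_mul (card_le_of_odd (mul_self_of_two ha) (mul_self_of_two hb) hab h1 h2 h3 _ hO)
        (hc.trans (Nat.mul_le_mul (Nat.factorial_le (hi.trans ?_)) (Nat.pow_le_pow_right two_pos ?_)))
      · gcongr
        exact (card_centralizer_quotient_le _ a).trans h1
      · exact Nat.le_of_lt_succ ((Nat.factorization_le_factorization_of_dvd_right
          (card_quotient_dvd_card _) Nat.card_pos.ne' Nat.card_pos.ne').trans_lt hG)
    have key : ∀ t ∈ R, Nat.card (centralizer ({t} : Set G)) ≤ c →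
        Nat.card G ≤ c * c * c * ((2 * c ^ 2).factorial * 2 ^ n) * (c + N) := fun t ht h => by
      rw [← card_isConj_mul t]
      refine Nat.mul_le_mul ((card_le_of_imp fun y hy => ?_).trans hR) (h.trans (Nat.le_add_right _ _))
      obtain ⟨g, rfl⟩ := isConj_iff.1 hy
      exact (inferInstance : R.Normal).conj_mem _ ht g
    by_cases haR : a ∈ R
    · exact key a haR h1
    by_cases hbR : b ∈ R
    · exact key b hbR h2
    by_cases habR : a * b ∈ R
    · exact key _ habR h3
    rw [← R.card_mul_index]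
    refine Nat.mul_le_mul hR (le_add_left (hN (G ⧸ R) ?_ a b (q R ha haR) (q R hb hbR) (fun h => habR ?_)
      (hab.map (QuotientGroup.mk' R)) ((card_centralizer_quotient_le _ a).trans h1)
      ((card_centralizer_quotient_le _ b).trans h2) ((card_centralizer_quotient_le _ (a * b)).trans h3)))
    · have h4 : 2 ∣ Nat.card R := by
        rw [e]
        refine Dvd.dvd.mul_left ?_ _
        by_contra h
        exact hR0 (Core.eq_bot_of_pPrimeCore_eq_bot Core.pPrimeCore_quotient_pPrimeCore
          ((Nat.prime_two.coprime_iff_not_dvd.2 h).symm))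
      have h5 := Nat.prime_two.factorization_pos_of_dvd Nat.card_pos.ne' h4
      rw [← R.card_mul_index, Nat.factorization_mul Nat.card_pos.ne' index_ne_zero_of_finite] at hG
      simp only [Finsupp.add_apply] at hG
      exact show R.index.factorization 2 < n by omega
    · rwa [QuotientGroup.eq, inv_of_two ha] at h

end Cfsg.Lib.Clifford
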