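import Cfsg.Agent.Lib.Clifford.PBlk
import Cfsg.Agent.Lib.Amalg.Bridge

/-! Groups with two character degrees (Isaacs, Chapter 12). -/

set_option autoImplicit false

namespace Cfsg.Lib.Clifford

open Cfsg Cfsg.Lib.Char Subgroup Finset
open scoped ComplexConjugate commutatorElement

variable {Γ : Type*} [Group Γ] [Finite Γ] {H K N T A : Subgroup Γ} {φ ψ θ χ : Γ → ℂ} {m : ℕ}

theorem comm_of_forall_deg (h : ∀ θ ∈ Irr N, charDegree θ = 1) : ∀ a ∈ N, ∀ b ∈ N, a * b = b * a := by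
  intro a ha b hb
  by_contra hc
  obtain ⟨β, hβ, hne⟩ := exists_IrrKer_ne (K := N) (N := ⊥) bot_le (nrm_of_normal _ _)
    (x := a * b * a⁻¹ * b⁻¹) fun e => hc (by
      rw [Subgroup.mem_bot, mul_inv_eq_one, mul_inv_eq_iff_eq_mul] at e; exact e)
  have hl := (irrOn_of_mem (IrrKer_subset hβ)).charOn.linOn_of_deg (h β (IrrKer_subset hβ))
  exact hne (by rw [hl.map_commutator ha hb, hl.2])

theorem commutator_le_of_deg (hT : T ≤ K)
    (h : ∀ χ ∈ Irr K, charDegree χ = 1 ∨ T.relIndex K ≤ charDegree χ) : ⁅K, K⁆ ≤ T := fun x hx => by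
  have hc := (charOn_one T).ind hT
  refine ((charOn_one T).mem_of_ind_eq (K := K) one_ne_zero (hc.classOn.eq_of_forall
    (commutator_le_self K hx) fun χ hχ hd => ?_)).1
  have hi := irrOn_of_mem hχ
  refine hi.linOn_iff.1 (hi.charOn.linOn_of_deg ?_) x hx
  by_contra h1
  have h2 := hc.sub_irr (irrOn_one K) (by
    rw [dot_ind_left hT _ (classOn_one K), (irrOn_one T).dot_self]; exact one_ne_zero)
  have h3 := h2.deg_le_of_dot hi (by
    rwa [dot_sub_left, (irrOn_one K).dot_eq_zero hi fun e => h1 (charDegree_of_eq (by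
      rw [← e 1 K.one_mem]; simp)), sub_zero])
  have h4 := h2.one_eq
  rw [Pi.sub_apply, ind_one hT, Pi.one_apply, mul_one, sub_eq_iff_eq_add] at h4
  have h5 : T.relIndex K = charDegree (ind T K 1 - 1) + 1 := by exact_mod_cast h4
  have := (h χ hχ).resolve_left h1
  omega

theorem le_centralizer_of_invOn (hab : ∀ a ∈ A, ∀ b ∈ A, a * b = b * a)
    (h : ∀ θ ∈ Irr A, InvOn T A θ) : T ≤ centralizer (A : Set Γ) := fun t ht =>
  Amalg.mem_centralizer_comm.2 fun a ha => by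
    obtain ⟨g, hg, e⟩ := exists_conj_of_irr_eq ha fun φ hφ => h φ hφ t ht a ha
    rw [hab g hg a ha, mul_inv_cancel_right, eq_mul_inv_iff_mul_eq] at e
    exact e

/-- if all linear characters of `A` have inertia index `1` or `m`, with normal inertia groups, the
non-invariant ones have the same inertia group -/
theorem invOn_of_index [A.Normal] (hc : A.index.Coprime (Nat.card A))
    (h : ∀ θ, LinOn A θ → (inertia ⊤ A θ).Normal ∧
      ((inertia ⊤ A θ).index = 1 ∨ (inertia ⊤ A θ).index = m))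
    (hθ : LinOn A θ) (h0 : inertia ⊤ A θ ≠ ⊤) (hφ : LinOn A φ) : inertia ⊤ A θ ≤ inertia ⊤ A φ := by
  have hn := nrm_of_normal ⊤ A
  have mem : ∀ {ψ g}, g ∈ inertia ⊤ A ψ ↔ ∀ n ∈ A, ψ (g * n * g⁻¹) = ψ n :=
    (mem_inertia hn).trans (and_iff_right trivial)
  have key : ∀ α β, LinOn A α → LinOn A β → inertia ⊤ A α ≤ inertia ⊤ A β → inertia ⊤ A β ≠ ⊤ →
      inertia ⊤ A β ≤ inertia ⊤ A α := fun α β hα hβ h1 h2 => by
    have h3 := (h β hβ).2.resolve_left (index_eq_one.not.2 h2)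
    have h4 := (h α hα).2.resolve_left (index_eq_one.not.2 fun e => h2 (top_le_iff.1 (e.ge.trans h1)))
    have h5 := relIndex_mul_index h1
    rw [h3, h4, ← h4, mul_eq_right₀ index_ne_zero_of_finite, relIndex_eq_one] at h5
    exact h5
  by_contra h1
  have h2 : inertia ⊤ A (θ * φ) ≤ inertia ⊤ A θ ⊓ inertia ⊤ A φ := fun t ht => by
    have hs : LinOn A (cj t θ * star θ) := (((hθ.irrOn.cj hn (mem_top t)).linOn
      (by rw [cj_at_one, hθ.2])).mul hθ.star)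
    have e1 : ∀ n ∈ A, θ (t * n * t⁻¹) * φ (t * n * t⁻¹) = θ n * φ n := mem.1 ht
    have e2 : ∀ n ∈ A, (cj t θ * star θ) n = φ n * conj (φ (t * n * t⁻¹)) := fun n hn' => by
      have a1 := hθ.mul_conj hn'
      have a2 := hφ.mul_conj (hn t trivial n hn')
      rw [Pi.mul_apply, cj_apply, Pi.star_apply, RCLike.star_def]
      linear_combination conj (θ n) * conj (φ (t * n * t⁻¹)) * e1 n hn' -
        θ (t * n * t⁻¹) * conj (θ n) * a2 + φ n * conj (φ (t * n * t⁻¹)) * a1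
    have e3 : ∀ ψ, LinOn A ψ → ∀ g ∈ inertia ⊤ A ψ, ∀ n ∈ A,
        ψ (t * (g * n * g⁻¹) * t⁻¹) = ψ (t * n * t⁻¹) := fun ψ hψ g hg n hn' => by
      rw [← mem.1 ((h ψ hψ).1.conj_mem g hg t) _ (hn t trivial n hn')]
      congr 1; group
    have e4 : inertia ⊤ A (cj t θ * star θ) = ⊤ := by
      by_contra e4
      have a1 := key θ _ hθ hs (fun g hg => mem.2 fun n hn' => by
        simp only [Pi.mul_apply, cj_apply, Pi.star_apply, e3 θ hθ g hg n hn', mem.1 hg n hn']) e4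
      have a2 : inertia ⊤ A φ ≤ inertia ⊤ A θ := le_trans (fun g hg => mem.2 fun n hn' => by
        rw [e2 _ (hn g trivial n hn'), e2 n hn', e3 φ hφ g hg n hn', mem.1 hg n hn']) a1
      exact h1 (key φ θ hφ hθ a2 h0)
    have e5 : ∀ k : ℕ, ∀ n ∈ A, θ (t ^ k * n * (t ^ k)⁻¹) = θ n * (cj t θ * star θ) n ^ k := by
      intro k
      induction k with
      | zero => simp
      | succ k ih =>
        intro n hn'
        have a1 := hθ.mul_conj hn'
        rw [show t ^ (k + 1) * n * (t ^ (k + 1))⁻¹ = t ^ k * (t * n * t⁻¹) * (t ^ k)⁻¹ by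
          rw [pow_succ]; group, ih _ (hn t trivial n hn'), mem.1 (e4.ge (mem_top t)) n hn', pow_succ]
        simp only [Pi.mul_apply, cj_apply, Pi.star_apply, RCLike.star_def]
        linear_combination -(θ (t * n * t⁻¹) * (θ (t * n * t⁻¹) * conj (θ n)) ^ k) * a1
    have e6 : ∀ n ∈ A, θ (t * n * t⁻¹) = θ n := fun n hn' => by
      have a1 := e5 A.index n hn'
      rw [hθ.classOn _ (A.pow_index_mem t) n hn', left_eq_mul₀ (hθ.ne_zero hn')] at a1
      simpa [eq_one_of_pow_of_coprime hc a1 (hs.pow_card hn')] using e5 1 n hn'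
    exact ⟨mem.2 e6, mem.2 fun n hn' => mul_left_cancel₀ (hθ.ne_zero hn') (by rw [← e1 n hn', e6 n hn'])⟩
  exact h1 ((key _ θ (hθ.mul hφ) hθ (h2.trans inf_le_left) h0).trans (h2.trans inf_le_right))

theorem cd_two (hcd : ∀ χ ∈ Irr (⊤ : Subgroup Γ), charDegree χ = 1 ∨ charDegree χ = m)
    (hm : ∃ χ ∈ Irr (⊤ : Subgroup Γ), charDegree χ = m) (hm1 : m ≠ 1) :
    (∃ A : Subgroup Γ, A.Normal ∧ (∀ a ∈ A, ∀ b ∈ A, a * b = b * a) ∧ A.index = m) ∨
    ∃ p e : ℕ, p.Prime ∧ m = p ^ e ∧ ∃ P A : Subgroup Γ, P.Normal ∧ A.Normal ∧ IsPGroup p P ∧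
      (∀ a ∈ A, ∀ b ∈ A, a * b = b * a) ∧ P ⊓ A = ⊥ ∧ P ⊔ A = ⊤ := by
  have hp : ∀ p : ℕ, p.Prime → p ∣ m → ¬ p ∣ Nat.card (Transfer.resOf p (⊤ : Subgroup Γ)) :=
    fun p hp h => have := Fact.mk hp
      thompson_pnil fun χ hχ h1 => (hcd χ hχ).resolve_left h1 ▸ h
  have hR : ∀ p, (Transfer.resOf p (⊤ : Subgroup Γ)).Normal := fun p => Transfer.resOf_normal ⊤
  have hD : ∀ s : Set ℕ, (⨅ p ∈ s, Transfer.resOf p (⊤ : Subgroup Γ)).Normal := fun s =>
    normal_iInf_normal fun p => normal_iInf_normal fun _ => hR p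
  have hle : ∀ r : ℕ, r.Prime → ∀ Q : Subgroup Γ, IsPGroup r Q → ∀ p : ℕ, p.Prime → p ≠ r →
      Q ≤ Transfer.resOf p ⊤ := fun r hr Q hQ p hp h => Transfer.le_resOf_of_coprime le_top
    (Core.coprime_card_of_isPGroup hr hQ ((Nat.coprime_primes hp hr).2 h))
  set A := ⨅ p ∈ {p : ℕ | p.Prime ∧ p ∣ m}, Transfer.resOf p (⊤ : Subgroup Γ)
  have := hD {p : ℕ | p.Prime ∧ p ∣ m}
  have hn := nrm_of_normal ⊤ A
  have h1 : ∀ p : ℕ, p.Prime → p ∣ m → ¬ p ∣ Nat.card A := fun p a b c =>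
    hp p a b (c.trans (card_dvd_of_le (iInf₂_le p ⟨a, b⟩)))
  have hc : A.index.Coprime (Nat.card A) := Nat.coprime_of_dvd fun r hr a b => by
    have := Fact.mk hr
    obtain ⟨Q, hQ⟩ := Amalg.exists_syl r (⊤ : Subgroup Γ)
    exact hQ.not_dvd_index (a.trans (index_dvd_of_le (le_iInf₂ fun p h =>
      hle r hr Q hQ.isPGroup p h.1 fun e => h1 p h.1 h.2 (e ▸ b))))
  have hc' : ∀ T, A ≤ T → (A.relIndex T).Coprime (Nat.card A) := fun T h =>
    hc.coprime_dvd_left (relIndex_dvd_index_of_le h)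
  have hab : ∀ a ∈ A, ∀ b ∈ A, a * b = b * a := comm_of_forall_deg fun θ hθ => by
    have hi := irrOn_of_mem hθ
    obtain ⟨χ, hχ, hd⟩ := hi.exists_over le_top
    have h2 := deg_dvd_of_dot le_top hn (irrOn_of_mem hχ) hi hd
    by_contra h3
    obtain ⟨r, hr, h4⟩ := Nat.exists_prime_and_dvd h3
    rcases hcd χ hχ with e | e <;> rw [e] at h2
    · exact hr.not_dvd_one (h4.trans h2)
    · exact h1 r hr (h4.trans h2) (h4.trans hi.deg_dvd_card)
  have hI : ∀ θ, LinOn A θ → ∀ ψ ∈ IrrOver (inertia ⊤ A θ) A θ,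
      (inertia ⊤ A θ).index * charDegree ψ = 1 ∨ (inertia ⊤ A θ).index * charDegree ψ = m :=
    fun θ hθ ψ hψ => by
      obtain ⟨a, b⟩ := mem_IrrOver.1 hψ
      have := hcd _ (mem_Irr_top.2 (irrOn_top.1 (irrOn_ind_inertia le_top hn hθ.irrOn (irrOn_of_mem a) b)))
      rwa [(irrOn_of_mem a).charOn.deg_ind le_top, relIndex_top_right] at this
  have hE : ∀ θ, LinOn A θ → ∀ T, A ≤ T → InvOn T A θ → ∃ ψ ∈ IrrOver T A θ, LinOn T ψ :=
    fun θ hθ T a b => by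
      obtain ⟨ψ, c, d⟩ := exists_ext_of_hall a (hn.mono le_top) hθ.irrOn b (hc' T a)
      exact ⟨ψ, mem_IrrOver.2 ⟨c, by rw [dot_congr_left d, hθ.irrOn.dot_self]; exact one_ne_zero⟩,
        (irrOn_of_mem c).linOn ((d 1 A.one_mem).trans hθ.2)⟩
  have hI' : ∀ θ, LinOn A θ → (inertia ⊤ A θ).index = 1 ∨ (inertia ⊤ A θ).index = m := fun θ hθ => by
    obtain ⟨ψ, a, b⟩ := hE θ hθ _ (le_inertia le_top hn hθ.classOn) (invOn_inertia hn)
    simpa [b.deg] using hI θ hθ ψ a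
  have hG : ∀ θ, LinOn A θ → ⁅(⊤ : Subgroup Γ), ⊤⁆ ≤ inertia ⊤ A θ := fun θ hθ => by
    rcases hI' θ hθ with e | e
    · exact le_top.trans (index_eq_one.1 e).ge
    · exact commutator_le_of_deg le_top fun χ hχ => (hcd χ hχ).imp_right fun a => by
        rw [relIndex_top_right, e, a]
  by_cases h0 : ∀ θ ∈ Irr A, InvOn ⊤ A θ
  · right
    obtain ⟨p, hp', hpm⟩ := Nat.exists_prime_and_dvd hm1
    have := Fact.mk hp'
    obtain ⟨P, hP⟩ := Amalg.exists_syl p (⊤ : Subgroup Γ)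
    have hZ := le_centralizer_of_invOn hab h0
    set D := ⨅ q ∈ {q : ℕ | q.Prime ∧ q ∣ m ∧ q ≠ p}, Transfer.resOf q (⊤ : Subgroup Γ)
    have := hD {q : ℕ | q.Prime ∧ q ∣ m ∧ q ≠ p}
    have hPD := hP.of_le (le_iInf₂ fun q h => hle p hp' P hP.isPGroup q h.1 h.2.2 : P ≤ D) le_top
    obtain ⟨k, hk⟩ := Transfer.relIndex_eq_pow_of_pow_mem (p := p) (H := D) (K := A)
      Amalg.le_normalizer_of_normal' fun x hx => by
        obtain ⟨k, hk⟩ := Transfer.exists_pow_mem_resOf (p := p) (mem_top x)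
        refine ⟨k, mem_iInf.2 fun q => mem_iInf.2 fun h => ?_⟩
        rcases eq_or_ne q p with rfl | e
        exacts [hk, (iInf₂_le q ⟨h.1, h.2, e⟩ : D ≤ _) (D.pow_mem hx _)]
    have h2 := hPD.sup_eq_of_relIndex_pow (le_iInf₂ fun q h => iInf₂_le q ⟨h.1, h.2.1⟩) hk
    have h3 := hPD.frattini le_top Amalg.le_normalizer_of_normal'
    have hPn : P.Normal := Amalg.normal_of_top_le_normalizer (h3 ▸ sup_le (h2 ▸ sup_le
      ((Amalg.le_cent_symm (le_top.trans hZ)).trans (Amalg.cent_le_norm P)) le_normalizer) inf_le_right)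
    have h4 : P ⊓ Transfer.resOf p ⊤ = ⊥ := Transfer.PNil.disjoint (hp p hp' hpm) hP.isPGroup
    have h5 : P ⊔ Transfer.resOf p ⊤ = ⊤ := (sup_comm _ _).trans hP.sylowIn.resOf_sup
    obtain ⟨j, hj⟩ := Transfer.relIndex_resOf (p := p) (⊤ : Subgroup Γ)
    have h6 : ∀ a ∈ Transfer.resOf p (⊤ : Subgroup Γ), ∀ b ∈ Transfer.resOf p ⊤, a * b = b * a :=
      comm_of_forall_deg fun θ hθ => by
        have hi := irrOn_of_mem hθ
        obtain ⟨χ, a, b⟩ := exists_ext_of_hall le_top (nrm_resOf ⊤) hi (fun g _ n hn' => by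
          obtain ⟨u, hu, w, hw, rfl⟩ := exists_mul_of_mem_sup_nrm (nrm_of_normal P _) (h5 ▸ mem_top g)
          have e := Amalg.mem_centralizer_comm.1 (Amalg.comm_eq_bot_iff.1 (le_bot_iff.1
            (h4 ▸ commutator_le_inf _ _)) hu) _ ((hR p).conj_mem n hn' w)
          rw [show u * w * n * (u * w)⁻¹ = u * (w * n * w⁻¹) * u⁻¹ by group, ← e, mul_inv_cancel_right,
            hi.classOn w hw n hn'])
          (hj ▸ ((Nat.Prime.coprime_iff_not_dvd hp').2 (hp p hp' hpm)).pow_left j)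
        have e : charDegree χ = charDegree θ := by simp only [charDegree, b 1 (one_mem _)]
        exact (e ▸ hcd χ a).resolve_right fun c => hp p hp' hpm ((c ▸ hpm).trans hi.deg_dvd_card)
    obtain ⟨χ, a, rfl⟩ := hm
    obtain ⟨e, -, he⟩ := (Nat.dvd_prime_pow hp').1
      (hj ▸ (irrOn_of_mem a).deg_dvd_relIndex_of_comm le_top (nrm_resOf ⊤) h6)
    exact ⟨p, e, hp', he, P, _, hPn, hR p, hP.isPGroup, h6, h4, h5⟩
  push Not at h0
  obtain ⟨θ, hθ, h0⟩ := h0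
  have hθ := (irrOn_of_mem hθ).linOn_of_comm hab
  rw [← inertia_eq_iff hn] at h0
  have hN := fun θ (h : LinOn A θ) => (nrm_of_commutator_le le_top (hG θ h)).normal
  have h2 := (hI' θ hθ).resolve_left (index_eq_one.not.2 h0)
  have h3 := le_inertia le_top hn hθ.classOn
  refine .inl ⟨_, hN θ hθ, comm_of_forall_deg fun ψ hψ => ?_, h2⟩
  have hi := irrOn_of_mem hψ
  obtain ⟨φ, a, b⟩ := hi.exists_under h3
  have hφ := (irrOn_of_mem a).linOn_of_comm hab
  obtain ⟨η, c, d⟩ := hE φ hφ _ h3 ((invOn_inertia hn).mono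
    (invOn_of_index hc (fun θ h => ⟨hN θ h, hI' θ h⟩) hθ h0 hφ) le_rfl)
  obtain ⟨ξ, c', d'⟩ := hE θ hθ _ h3 (invOn_inertia hn)
  have hη := (d.mono h3).irrOn
  obtain ⟨β, e, f⟩ := exists_mul_ext h3 (hn.mono le_top) d.charOn hη hi (by
    rwa [dot_congr_right _ (hη.eq_of_dot_ne_zero hφ.irrOn (mem_IrrOver.1 c).2)])
  obtain ⟨e1, e2⟩ := mem_IrrKer.1 e
  have h4 := hI θ hθ (β * ξ) (mem_IrrOver.2 ⟨mul_lin_mem_Irr e1 d', by
    rw [← dot_congr_right _ ((d'.mono h3).irrOn.eq_of_dot_ne_zero hθ.irrOn (mem_IrrOver.1 c').2),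
      e2.dot_mul_ext (d'.mono h3).irrOn]
    exact (irrOn_of_mem e1).one_ne_zero⟩)
  rw [h2, show charDegree (β * ξ) = charDegree ψ by
    simp only [charDegree, Pi.mul_apply, f 1 (one_mem _), d.2, d'.2]] at h4
  rcases h4 with h4 | h4
  · exact Nat.eq_one_of_mul_eq_one_left h4
  · exact (mul_eq_left₀ (h2 ▸ index_ne_zero_of_finite)).1 h4

end Cfsg.Lib.Clifford
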