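import Cfsg.Agent.Lib.Clifford.Cover
import Cfsg.Agent.Lib.Block.BrauerInd
import Cfsg.Agent.Lib.Amalg.CD

/-! Dade's theorem on invariant characters under a `p`-group quotient (Isaacs 8.24, 8.26). -/

set_option autoImplicit false

namespace Cfsg.Lib.Clifford

open Cfsg Cfsg.Lib.Char Subgroup Finset
open scoped commutatorElement

variable {Γ : Type*} [Group Γ] [Finite Γ] {D E N : Subgroup Γ} {α β θ : Γ → ℂ} {p k : ℕ}

theorem dvd_sum_Irr (hD : Nrm E D) {d : ℕ} (F : (Γ → ℂ) → ℕ) (hF : ∀ φ ∈ Irr D, ∀ g ∈ E, F (cj g φ) = F φ)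
    (h : ∀ φ ∈ Irr D, d ∣ (inertia E D φ).relIndex E * F φ) : d ∣ ∑ φ ∈ Irr D, F φ := by
  classical
  rw [← sum_fiberwise_of_maps_to (g := orb E D) (t := (Irr D).image (orb E D)) fun _ h => mem_image_of_mem _ h]
  refine dvd_sum fun O hO => ?_
  obtain ⟨θ, hθ, rfl⟩ := mem_image.1 hO
  have : (Irr D).filter (fun φ => orb E D φ = orb E D θ) = orb E D θ := by
    ext φ
    rw [mem_filter]
    refine ⟨fun h => ?_, fun h => ⟨orb_subset hD (irrOn_of_mem hθ) h, orb_eq_of_mem hD h⟩⟩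
    rw [← h.2, ← cut_of_mem_Irr h.1, orb_eq_of_mem hD cut_mem_orb]
    exact cut_mem_orb
  rw [this, sum_congr rfl fun φ hφ => (?_ : F φ = F θ), sum_const, card_orb]
  · exact h θ hθ
  · obtain ⟨g, hg, rfl⟩ := mem_orb.1 hφ
    rw [cut_of_mem_Irr hθ, hF θ hθ g hg]

theorem InvOn.mult_cj (h : InvOn E D α) (hD : Nrm E D) {g : Γ} (hg : g ∈ E) (φ : Γ → ℂ) :
    mult D α (Clifford.cj g φ) = mult D α φ := by
  rw [mult, mult, ← dot_cj hD hg α φ, dot_congr_left (φ := Clifford.cj g α) (h g hg)]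

theorem exists_invOn_not_dvd (hp : p.Prime) (hDE : D ≤ E) (hD : Nrm E D) (hk : D.relIndex E ∣ p ^ k)
    (hα : CharOn D α) (hβ : CharOn D β) (iα : InvOn E D α) (iβ : InvOn E D β) (h : ¬ p ∣ mult D α β) :
    ∃ φ ∈ Irr D, InvOn E D φ ∧ ¬ p ∣ mult D α φ ∧ ¬ p ∣ mult D β φ := by
  by_contra h'
  refine h (hα.mult_eq_sum hβ ▸ dvd_sum_Irr hD _ (fun φ _ g hg => by rw [iα.mult_cj hD hg, iβ.mult_cj hD hg])
    fun φ hφ => by_contra fun h0 => h' ⟨φ, hφ, ?_⟩)
  simp only [hp.dvd_mul, not_or] at h0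
  refine ⟨(inertia_eq_iff hD).1 (le_antisymm inertia_le (relIndex_eq_one.1 ?_)), h0.2⟩
  obtain ⟨_ | j, -, e⟩ := (Nat.dvd_prime_pow hp).1 ((relIndex_dvd_of_le_left _
    (le_inertia hDE hD (irrOn_of_mem hφ).classOn)).trans hk)
  · exact e
  · exact absurd (e ▸ dvd_pow_self p j.succ_ne_zero) h0.1

theorem dade (hp : p.Prime) [N.Normal] (hk : N.index = p ^ k) (hθ : IrrOn N θ) (hinv : InvOn ⊤ N θ) :
    ∃ E : Subgroup Γ, IsElementary p E ∧ E ⊔ N = ⊤ ∧
      ∃ φ ∈ Irr (E ⊓ N), InvOn E (E ⊓ N) φ ∧ ¬ p ∣ mult (E ⊓ N) θ φ := by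
  have := Fact.mk hp
  have := Fintype.ofFinite Γ
  by_contra h
  have hw : ClassOn ⊤ (cut N (θ * star θ)) := (hinv.mul hinv.star).cut' (nrm_of_normal _ _) _
  have key : ∀ f ∈ Submodule.span ℤ (Block.elemSet Γ p), ∃ n : ℤ, dot N (cut N (θ * star θ)) f = p * n := by
    intro f hf
    induction hf using Submodule.span_induction with
    | mem f hf =>
      obtain ⟨E, l, hE, hl, rfl⟩ := hf
      have hc := (charOn_extendByZero.2 hl).mono (inf_le_left : E ⊓ N ≤ E)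
      have ht := hθ.charOn.mono (inf_le_right : E ⊓ N ≤ N)
      have e : (E ⊓ N).relIndex E * (E ⊔ N).index = N.index := by
        rw [inf_relIndex_left, ← relIndex_sup_right, relIndex_mul_index le_sup_right]
      suffices p ∣ (E ⊔ N).index * mult (E ⊓ N) θ (extendByZero E l * θ) by
        obtain ⟨n, hn⟩ := this
        refine ⟨n, ?_⟩
        rw [dot_of_supp le_top fun x _ hx => cut_of_notMem _ hx, indFun_eq_ind, dot_ind_right le_top hw,
          relIndex_top_right, ← e, Nat.cast_mul, mul_right_comm, ← dot_of_supp inf_le_left fun x hx hx' =>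
          cut_of_notMem _ fun h => hx' ⟨hx, h⟩, dot_congr_left (H := E ⊓ N) (φ' := θ * star θ) fun x hx => cut_of_mem _ hx.2, ← dot_mul_right,
          ht.dot_eq_mult (hc.mul ht), ← Nat.cast_mul, mul_comm, hn]
        simp
      by_contra h0
      rw [hp.dvd_mul, not_or] at h0
      have hn : Nrm E (E ⊓ N) := (nrm_self E).inf (nrm_of_normal _ _)
      obtain ⟨φ, h1, h2, h3, -⟩ := exists_invOn_not_dvd hp inf_le_left hn (hk ▸ Dvd.intro _ e) ht (hc.mul ht)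
        (hinv.mono le_top inf_le_right) (((charOn_extendByZero.2 hl).classOn.mono le_rfl inf_le_left).mul
          (hinv.mono le_top inf_le_right)) h0.2
      refine h ⟨E, hE, index_eq_one.1 ?_, φ, h1, h2, h3⟩
      obtain ⟨_ | j, -, e⟩ := (Nat.dvd_prime_pow hp).1 (hk ▸ Dvd.intro_left _ e)
      · exact e
      · exact absurd (e ▸ dvd_pow_self p j.succ_ne_zero) h0.1
    | zero => exact ⟨0, by simp [dot_zero_right]⟩
    | add x y _ _ hx hy =>
      obtain ⟨a, ha⟩ := hx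
      obtain ⟨b, hb⟩ := hy
      exact ⟨a + b, by rw [dot_add_right, ha, hb]; push_cast; ring⟩
    | smul c x _ hx =>
      obtain ⟨a, ha⟩ := hx
      exact ⟨c * a, by rw [← Int.cast_smul_eq_zsmul ℂ, dot_smul_right, ha, map_intCast]; push_cast; ring⟩
  obtain ⟨n, hn⟩ := key _ Block.ordCompl_mem_span
  rw [dot_cut_left, ← dot_mul_right, show (fun _ => ((ordCompl[p] (Nat.card Γ) : ℕ) : ℂ)) * θ =
    ((ordCompl[p] (Nat.card Γ) : ℕ) : ℂ) • θ from rfl, dot_smul_right, hθ.dot_self, mul_one, map_natCast] at hn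
  exact Nat.not_dvd_ordCompl hp (Nat.card_pos (α := Γ)).ne' (Int.natCast_dvd_natCast.1 ⟨n, Int.cast_injective (α := ℂ) (by
    rw [Int.cast_natCast, hn, Int.cast_mul, Int.cast_natCast])⟩)

theorem exists_ext_of_not_dvd {K : Subgroup Γ} {χ : Γ → ℂ} (hp : p.Prime) (hNK : N ≤ K) (hN : Nrm K N)
    (hk : N.relIndex K ∣ p ^ k) (hθ : IrrOn N θ) (hinv : InvOn K N θ) (hχ : CharOn K χ) (h : ¬ p ∣ mult N χ θ) :
    ∃ ψ ∈ Irr K, ∀ n ∈ N, ψ n = θ n := by
  by_contra h'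
  rw [← mult_of_eq ((dot_ind_right hNK hχ.classOn θ).trans ((hχ.mono hNK).dot_eq_mult hθ.charOn)),
    hχ.mult_eq_sum (hθ.charOn.ind hNK)] at h
  refine h (dvd_sum fun ψ hψ => Dvd.dvd.mul_left ?_ _)
  have hi := irrOn_of_mem hψ
  have hc := hi.charOn.mono hNK
  rw [mult_of_eq ((dot_ind_left hNK θ hi.classOn).trans ((hθ.charOn.dot_comm hc).trans (hc.dot_eq_mult hθ.charOn)))]
  rcases eq_or_ne (mult N ψ θ) 0 with e | e
  · simp [e]
  have h0 := (hc.mult_ne_zero hθ.charOn).1 e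
  obtain ⟨_ | j, -, e⟩ := (Nat.dvd_prime_pow hp).1 ((mult_dvd_of_invOn hNK hN hi hθ hinv h0).trans hk)
  · exact absurd ⟨ψ, hψ, fun n hn => by simp [clifford_invOn hNK hN hi hθ hinv h0 hn, e]⟩ h'
  · exact e ▸ dvd_pow_self p j.succ_ne_zero

theorem exists_ext_of_sylow_commutator [hp : Fact p.Prime] [N.Normal] (hk : N.index = p ^ k) {P : Subgroup Γ}
    (hP : Amalg.Syl p P ⊤) (h : ⁅P, P⁆ ⊓ N = ⊥) (hθ : IrrOn N θ) (hinv : InvOn ⊤ N θ) :
    ∃ ψ ∈ Irr (⊤ : Subgroup Γ), ∀ n ∈ N, ψ n = θ n := by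
  obtain ⟨E, ⟨x, hx, -, j, hj⟩, hE, φ, h1, -, h2⟩ := dade hp.out hk hθ hinv
  have hc : ∀ y ∈ ⁅E, E⁆, y ∈ N → y = 1 := fun y hy hy' => by
    obtain ⟨Q, hQ⟩ := Amalg.exists_syl p E
    obtain ⟨g, -, hg⟩ := hP.exists_conj_le hQ.isPGroup le_top
    have e := hQ.sup_eq_of_relIndex_pow (zpowers_le_of_mem x.2) (k := j) (by
      rw [← hj, relIndex, ← comap_subtype, show (x : Γ) = E.subtype x from rfl, ← MonoidHom.map_zpowers,
        comap_map_eq_self_of_injective E.subtype_injective])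
    rw [sup_comm] at e
    rw [← e, Amalg.comm_sup_cent_self (e.symm ▸ zpowers_le_of_mem fun z hz =>
      congrArg Subtype.val (mem_center_iff.1 hx ⟨z, hz⟩))] at hy
    have : g * y * g⁻¹ ∈ ⁅P, P⁆ ⊓ N := ⟨commutator_mono hg hg ((map_commutator Q Q _).le (mem_map_of_mem _ hy)),
      Normal.conj_mem inferInstance y hy' g⟩
    exact conj_eq_one_iff.1 (h.le this)
  have hl := (irrOn_of_mem h1).linOn_of_comm fun a ha b hb => commutatorElement_eq_one_iff_mul_comm.1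
    (hc _ (commutator_mem_commutator ha.1 hb.1) (commutator_le_self N (commutator_mem_commutator ha.2 hb.2)))
  obtain ⟨μ, hμ, e⟩ := hl.exists_ext_of_commutator inf_le_left fun y hy hy' => by rw [hc y hy hy'.2, hl.2]
  refine exists_ext_of_not_dvd hp.out le_top (nrm_of_normal _ _) (N.relIndex_top_right.trans hk).dvd hθ hinv
    (hμ.charOn.ind le_top) ?_
  have ht := hθ.charOn.mono (inf_le_right : E ⊓ N ≤ N)
  rwa [mult_of_eq (n := mult (E ⊓ N) θ φ)]
  rw [dot_congr_left fun g hg => ind_mackey le_top le_top (fun k _ => exists_mul_of_mem_sup_nrm (nrm_of_normal E N)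
    (hE.ge (mem_top k))) hμ.classOn hg, dot_ind_left inf_le_right _ hθ.classOn, dot_congr_left e,
    hl.charOn.dot_comm ht, ht.dot_eq_mult hl.charOn]

end Cfsg.Lib.Clifford
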