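import Cfsg.Agent.Lib.Clifford.JustNab
import Cfsg.Agent.Lib.Clifford.Dade
import Cfsg.Agent.S4458

/-! Tools for groups with few character degrees: Taketa's step, Burnside-Brauer closure, a single relative degree. -/

set_option autoImplicit false

namespace Cfsg.Lib.Clifford

open Cfsg Cfsg.Lib.Char Subgroup Finset
open scoped ComplexConjugate commutatorElement

variable {Γ : Type*} [Group Γ] [Finite Γ] {D H K L N : Subgroup Γ} {φ ψ θ χ lam : Γ → ℂ} {d m n : ℕ}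

theorem isCd_sub : IsCd (⊤ : Subgroup N) d ↔ IsCd N d :=
  ⟨fun ⟨χ, h, e⟩ => by
    have := (irrOn_extendByZero.2 (mem_Irr_top.1 h)).isCd
    rwa [← charDegree_res N, res_extendByZero, e] at this,
  fun ⟨χ, h, e⟩ => ⟨res N χ, mem_Irr_top.2 (irrOn_of_mem h), e⟩⟩

theorem IsCd.of_quo [D.Normal] (h : IsCd (⊤ : Subgroup (Γ ⧸ D)) d) :
    ∃ χ ∈ Irr (⊤ : Subgroup Γ), Triv D χ ∧ charDegree χ = d := by
  obtain ⟨χ, h, e⟩ := h
  exact ⟨_, mem_Irr_top.2 (mem_Irr_top.1 h).inflate, fun x hx => congrArg χ ((QuotientGroup.eq_one_iff x).2 hx), e⟩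

theorem le_of_forall_triv [D.Normal] (h : ∀ χ ∈ Irr (⊤ : Subgroup Γ), Triv D χ → Triv N χ) : N ≤ D := fun x hx =>
  by_contra fun e => by
    obtain ⟨β, h1, h2⟩ := exists_IrrKer_ne (K := ⊤) le_top (nrm_of_normal _ D) e
    exact h2 (h β (IrrKer_subset h1) (mem_IrrKer.1 h1).2 x hx)

theorem IrrOn.triv_of_deg (h : IrrOn K χ) (e : charDegree χ = 1) : Triv ⁅K, K⁆ χ :=
  h.linOn_iff.1 (h.charOn.linOn_of_deg e)

theorem dl_two (h : ∀ d, IsCd (⊤ : Subgroup Γ) d → d = 1 ∨ d = m) : ⁅commutator Γ, commutator Γ⁆ = ⊥ := by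
  by_cases h1 : IsCd (⊤ : Subgroup Γ) m ∧ m ≠ 1
  · exact eq_bot_iff.2 (commutator_le.2 fun a ha b hb => commutatorElement_eq_one_iff_mul_comm.2
      (Agent.S4458.result m (fun χ => h _ (isCd_top.2 ⟨χ, rfl⟩)) (isCd_top.1 h1.1) h1.2 a ha b hb))
  · refine eq_bot_iff.2 ((commutator_le_self _).trans (le_of_forall_triv fun χ hχ _ =>
      (irrOn_of_mem hχ).triv_of_deg (by_contra fun e => ?_)))
    have := (h _ ⟨χ, hχ, rfl⟩).resolve_left e
    exact h1 ⟨⟨χ, hχ, this⟩, this ▸ e⟩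

theorem dl_two_sub (h : ∀ d, IsCd N d → d = 1 ∨ d = m) : ⁅⁅N, N⁆, ⁅N, N⁆⁆ = ⊥ := by
  rw [← map_subtype_commutator N, ← Subgroup.map_commutator, dl_two fun d hd => h d (isCd_sub.1 hd), Subgroup.map_bot]

theorem dl_two_quo [D.Normal] (h : ∀ χ ∈ Irr (⊤ : Subgroup Γ), Triv D χ → charDegree χ = 1 ∨ charDegree χ = m) :
    ⁅commutator Γ, commutator Γ⁆ ≤ D := by
  rw [← Core.map_mk'_eq_bot_iff, Subgroup.map_commutator, map_commutator_eq,
    MonoidHom.range_eq_top.2 (QuotientGroup.mk'_surjective D)]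
  exact dl_two (m := m) fun d hd => let ⟨χ, h1, h2, e⟩ := hd.of_quo; e ▸ h χ h1 h2

/-- Taketa's step. -/
theorem triv_commutator_of_ind [D.Normal] (hl : LinOn H lam) (e : ind H ⊤ lam = χ)
    (h : ∀ ψ ∈ Irr (⊤ : Subgroup Γ), charDegree ψ < charDegree χ → Triv D ψ) : Triv ⁅D, D⁆ χ := by
  have h1 : CharOn ⊤ (ind H ⊤ (1 : Γ → ℂ)) := (charOn_one H).ind le_top
  have hdeg : charDegree (ind H ⊤ (1 : Γ → ℂ)) = charDegree χ := by
    rw [← e, hl.charOn.deg_ind le_top, (charOn_one H).deg_ind le_top, hl.deg, (linOn_one H).deg]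
  have h2 := h1.sub_irr (irrOn_one ⊤) (by
    rw [dot_ind_left le_top _ (classOn_one _), (irrOn_one H).dot_self]; exact one_ne_zero)
  have hD : D ≤ H := fun k hk => ((charOn_one H).mem_of_ind_eq (K := ⊤) one_ne_zero
    (h1.classOn.eq_of_forall (mem_top _) fun ψ hψ hd => by
      by_cases hψ1 : ∀ x ∈ (⊤ : Subgroup Γ), ψ x = (1 : Γ → ℂ) x
      · rw [hψ1 k (mem_top _), hψ1 1 (mem_top _)]; rfl
      refine h ψ hψ ?_ k hk
      have h3 := h2.deg_le_of_dot (irrOn_of_mem hψ) (by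
        rwa [dot_sub_left, (irrOn_one ⊤).dot_eq_zero (irrOn_of_mem hψ) (fun h => hψ1 fun x hx => (h x hx).symm),
          sub_zero])
      have h4 := h2.one_eq
      rw [Pi.sub_apply, h1.one_eq, hdeg, Pi.one_apply, sub_eq_iff_eq_add] at h4
      have h5 : charDegree χ = charDegree (ind H ⊤ (1 : Γ → ℂ) - 1) + 1 := by exact_mod_cast h4
      omega)).1
  exact e ▸ Triv.ind ((triv_kerOn (K := H)).mono ((commutator_mono hD hD).trans hl.commutator_le))
    ((commutator_le_self D).trans hD) (nrm_of_normal _ _)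

theorem Chief.prime_of_pow {p k : ℕ} (hp : p.Prime) (h : Chief H K L) (hi : L.relIndex H = p ^ k) :
    (L.relIndex K).Prime := by
  have := Fact.mk hp
  have := h.nL.normal_subgroupOf
  have := h.nK.normal_subgroupOf
  have := (IsPGroup.of_card (G := H ⧸ L.subgroupOf H) hi).isNilpotent
  have : Group.IsNilpotent (⊤ : Subgroup (H ⧸ L.subgroupOf H)) := inferInstance
  have hLK : L.subgroupOf H ≤ K.subgroupOf H := comap_mono h.lt.le
  have hc : Chief ⊤ ((K.subgroupOf H).map (QuotientGroup.mk' (L.subgroupOf H))) ⊥ := by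
    refine ⟨bot_lt_iff_ne_bot.2 fun e => h.lt.not_ge fun x hx => (Core.map_mk'_eq_bot_iff _ _).1 e
      (show (⟨x, h.le hx⟩ : H) ∈ K.subgroupOf H from hx), le_top,
      @nrm_of_normal _ _ _ _ (Core.normal_map_mk' _ _), nrm_of_normal _ _, fun M _ h1 h2 => ?_⟩
    have := h2.normal
    have h3 : M.comap (QuotientGroup.mk' _) ≤ K.subgroupOf H := (comap_mono h1).trans
      (by rw [Core.comap_map_mk', sup_eq_right.2 hLK])
    refine (h.max ((M.comap (QuotientGroup.mk' _)).map H.subtype) (fun x hx => ⟨⟨x, h.le (h.lt.le hx)⟩,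
      Core.le_comap_mk' _ _ hx, rfl⟩) (map_le_iff_le_comap.2 h3) (by
        rintro g hg _ ⟨x, hx, rfl⟩
        exact ⟨_, Normal.conj_mem inferInstance x hx ⟨g, hg⟩, rfl⟩)).imp (fun e => ?_) fun e => ?_
    · rw [← Core.map_comap_mk' _ M, Core.map_mk'_eq_bot_iff]
      exact map_le_iff_le_comap.1 e.le
    · refine h1.antisymm (map_le_iff_le_comap.2 fun x hx => ?_)
      obtain ⟨y, h4, h5⟩ := e.ge hx
      rwa [← Subtype.ext h5]
  have := hc.prime_of_nilpotent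
  rwa [relIndex_bot_left, Core.card_map_mk'_eq_relIndex, relIndex_subgroupOf h.le] at this

/-- Characters of an abelian-by-`p` group are monomial. -/
theorem IrrOn.exists_lin_of_pow {p k : ℕ} (hp : p.Prime) (hχ : IrrOn K χ) (hLK : L ≤ K) (hL : Nrm K L)
    (hi : L.relIndex K = p ^ k) (hab : ∀ a ∈ L, ∀ b ∈ L, a * b = b * a) :
    ∃ H ≤ K, ∃ lam, LinOn H lam ∧ ind H K lam = cut K χ := by
  have := Fact.mk hp
  obtain ⟨H, -, h2, ψ, hψ, e, h⟩ := hχ.exists_relM hLK hL (by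
    have := hL.normal_subgroupOf
    have := (IsPGroup.of_card (G := K ⧸ L.subgroupOf K) hi).isNilpotent
    obtain ⟨n, hn⟩ := solvMod_of_quotient (N := L.subgroupOf K) inferInstance ⊤
    refine ⟨n, ?_⟩
    have : ∀ n, (fun X : Subgroup Γ => ⁅X, X⁆)^[n] K = ((fun X : Subgroup K => ⁅X, X⁆)^[n] ⊤).map K.subtype :=
      fun n => by
        induction n with
        | zero => exact (range_subtype K).symm.trans (MonoidHom.range_eq_map _)
        | succ n ih => rw [Function.iterate_succ_apply', Function.iterate_succ_apply', ih, Subgroup.map_commutator]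
    exact this n ▸ map_le_iff_le_comap.2 hn) fun H A B h1 h2 hc => by
      obtain ⟨j, hj⟩ := relIndex_eq_pow_of_pow_mem hp hc.nL fun x hx => ⟨k, h2 (hi ▸ pow_relIndex_mem hL (h1 hx))⟩
      exact (hc.prime_of_pow hp hj).prime.not_isSquare
  exact ⟨H, h2, ψ, ⟨(irrOn_of_mem hψ).charOn, h.degree_one_of_comm hab⟩, e⟩

/-- Burnside-Brauer. -/
theorem forall_of_closed (P : (Γ → ℂ) → Prop) (hχ : ClassOn N χ) (hf : ∀ x ∈ N, χ x = χ 1 → x = 1)
    (h1 : P (cut N 1)) (h : ∀ α ∈ Irr N, P α → ∀ θ ∈ Irr N, dot N (χ * α) θ ≠ 0 → P θ) : ∀ θ ∈ Irr N, P θ := by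
  classical
  have key : ∀ s : Finset Γ, ClassOn N (∏ x ∈ s, (χ - χ x • 1)) ∧
      ∀ θ ∈ Irr N, ¬ P θ → dot N (∏ x ∈ s, (χ - χ x • 1)) θ = 0 := fun s => by
    induction s using Finset.induction_on with
    | empty => exact ⟨classOn_one N, fun θ hθ hP => by_contra fun e => hP (eq_of_dot_ne_zero (cut_one_mem N) hθ
        (by rwa [dot_cut_left]) ▸ h1)⟩
    | insert x s hx ih =>
      rw [prod_insert hx]
      refine ⟨(hχ.sub ((classOn_one N).smul _)).mul ih.1, fun θ hθ hP => ?_⟩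
      rw [sub_mul, smul_mul_assoc, one_mul, dot_sub_left, dot_smul_left, ih.2 θ hθ hP, mul_zero, sub_zero, mul_comm,
        dot_mul_left, ih.1.dot_eq_sum]
      refine sum_eq_zero fun α hα => ?_
      by_cases ha : P α
      · rw [← dot_mul_left, mul_comm α, not_not.1 (mt (h α hα ha θ hθ) hP), mul_zero]
      · rw [ih.2 α hα ha, zero_mul]
  intro θ hθ
  by_contra hP
  have h2 := dot_of_supp (H := ⊥) (K := N) (φ := ∏ x ∈ (elems N).erase 1, (χ - χ x • 1)) bot_le (fun x hx e => by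
    rw [Finset.prod_apply]
    exact prod_eq_zero (mem_erase.2 ⟨e, mem_elems.2 hx⟩) (by simp)) θ
  rw [(key _).2 θ hθ hP, mul_zero, dot_bot, Finset.prod_apply, mul_eq_zero, map_eq_zero, prod_eq_zero_iff] at h2
  rcases h2 with ⟨x, h3, h4⟩ | h2
  · exact (mem_erase.1 h3).1 (hf x (mem_elems.1 (mem_erase.1 h3).2) (by simpa [sub_eq_zero, eq_comm] using h4))
  · exact (irrOn_of_mem hθ).one_ne_zero h2

theorem CharOn.card_dvd_deg (h : CharOn N χ) (h0 : ∀ x ∈ N, x ≠ 1 → χ x = 0) : Nat.card N ∣ charDegree χ := by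
  have h1 := dot_of_supp (H := ⊥) (K := N) bot_le h0 1
  rw [dot_bot, relIndex_bot_left, h.dot_eq_mult (charOn_one _), h.one_eq, Pi.one_apply, map_one, mul_one] at h1
  exact ⟨mult N χ 1, by exact_mod_cast h1⟩

theorem CharOn.dvd_deg (h : CharOn K φ) (hd : ∀ θ ∈ Irr K, dot K φ θ ≠ 0 → d ∣ charDegree θ) : d ∣ charDegree φ := by
  rw [h.deg_eq_sum]
  refine dvd_sum fun θ hθ => ?_
  by_cases e : mult K φ θ = 0
  · rw [e, zero_mul]; exact dvd_zero d
  · exact (hd θ hθ ((h.mult_ne_zero (irrOn_of_mem hθ).charOn).1 e)).mul_left _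

/-- A prime dividing the order of a perfect normal subgroup misses some degree over it. -/
theorem exists_not_dvd_of_perfect [N.Normal] (hN : ⁅N, N⁆ = N) {q : ℕ} (hq : q.Prime) (h : q ∣ Nat.card N) :
    ∃ χ ∈ Irr (⊤ : Subgroup Γ), ¬ Triv N χ ∧ ¬ q ∣ charDegree χ := by
  classical
  by_contra! hc
  have := Fact.mk hq
  obtain ⟨Q⟩ : Nonempty (Sylow q Γ) := inferInstance
  have hE := nrm_of_normal (Q ⊔ N) N
  obtain ⟨k, hk⟩ : ∃ k, N.relIndex (Q ⊔ N) = q ^ k := by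
    obtain ⟨k, hk⟩ := Q.isPGroup'.exists_card_eq
    obtain ⟨j, -, hj⟩ := (Nat.dvd_prime_pow hq).1 (hk ▸ relIndex_dvd_card N (Q : Subgroup Γ))
    exact ⟨j, by rwa [relIndex_sup_right]⟩
  have h1 := dvd_sum_Irr hE (d := q) (fun φ => if Triv N φ then 0 else charDegree φ ^ 2) (fun φ hφ g hg => by
    rw [charDegree_cj]
    refine if_congr ⟨fun h x hx => ?_, fun h x hx => by rw [cj_apply, cj_at_one, h _ (hE g hg x hx)]⟩ rfl rfl
    have := h _ ((hE.mem_iff' hg x).2 hx)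
    rwa [cj_apply, cj_at_one, show g * (g⁻¹ * x * g) * g⁻¹ = x by group] at this) fun φ hφ => by
    have hi := irrOn_of_mem hφ
    split_ifs with ht
    · exact dvd_zero q
    by_contra h2
    rw [hq.dvd_mul, not_or] at h2
    obtain ⟨j, -, hj⟩ := (Nat.dvd_prime_pow hq).1 (hk ▸ relIndex_dvd_of_le_left _
      (le_inertia le_sup_right hE hi.classOn))
    obtain _ | j := j
    swap
    · exact h2.1 (hj ▸ dvd_pow_self q j.succ_ne_zero)
    have h3 : ¬ q ∣ charDegree φ := fun h => h2.2 (h.pow two_ne_zero)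
    obtain ⟨η, h4, h5, -⟩ := exists_ext_of_coprime le_sup_right hE hi
      ((inertia_eq_iff hE).1 (inertia_le.antisymm (relIndex_eq_one.1 hj))) (by
        rw [Nat.dvd_one.1 (ordOn_dvd_iff.2 fun x hx => by
          rw [pow_one, (linOn_detOn N φ).mem_kerOn.1 ((linOn_detOn N φ).commutator_le (hN.ge hx)) |>.2]), one_mul, hk]
        exact ((Nat.Prime.coprime_iff_not_dvd hq).2 h3).pow_left _)
    have h6 := (irrOn_of_mem h4).charOn
    have h7 := (h6.ind le_top).dvd_deg (d := q) fun χ hχ e => hc χ hχ fun h => ht fun x hx => by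
      rw [dot_ind_left le_top _ (irrOn_of_mem hχ).classOn, Ne, dot_eq_zero_comm] at e
      rw [← h5 x hx, ← h5 1 N.one_mem]
      exact h.of_dot ((irrOn_of_mem hχ).charOn.mono le_top) le_sup_right (irrOn_of_mem h4) e x hx
    rw [h6.deg_ind le_top, hq.dvd_mul, relIndex_top_right, charDegree_of_eq ((h5 1 N.one_mem).trans hi.one_eq)] at h7
    exact h7.elim (fun h => Q.not_dvd_index (h.trans (index_dvd_of_le le_sup_left))) h3
  rw [← sum_deg_sq, ← add_sum_erase _ _ (cut_one_mem N)] at h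
  rw [← add_sum_erase _ _ (cut_one_mem N), if_pos ((irr_eq_one_iff_triv (cut_one_mem N)).1 rfl), zero_add,
    sum_congr rfl fun φ hφ => if_neg (mt (irr_eq_one_iff_triv (mem_of_mem_erase hφ)).2 (ne_of_mem_erase hφ))] at h1
  rw [Nat.dvd_add_left h1, charDegree_of_eq (n := 1) (by rw [cut_of_mem _ N.one_mem]; simp), one_pow] at h
  exact hq.not_dvd_one h

theorem CharOn.deg_eq_add (h : CharOn K φ) (hd : ∀ θ ∈ Irr K, dot K φ θ ≠ 0 → charDegree θ = m ∨ charDegree θ = n) :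
    ∃ a b, charDegree φ = a * m + b * n ∧ ∀ θ ∈ Irr K, dot K φ θ ≠ 0 →
      (charDegree θ = m → a ≠ 0) ∧ (charDegree θ ≠ m → b ≠ 0) := by
  classical
  refine ⟨∑ θ ∈ Irr K with charDegree θ = m, mult K φ θ, ∑ θ ∈ Irr K with charDegree θ ≠ m, mult K φ θ, ?_,
    fun θ hθ e => ?_⟩
  · rw [h.deg_eq_sum, ← sum_filter_add_sum_filter_not _ (charDegree · = m), sum_mul, sum_mul]
    refine congrArg₂ _ (sum_congr rfl fun θ hθ => by rw [(mem_filter.1 hθ).2]) (sum_congr rfl fun θ hθ => ?_)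
    obtain ⟨h1, h2⟩ := mem_filter.1 hθ
    by_cases e : mult K φ θ = 0
    · rw [e, zero_mul, zero_mul]
    · rw [(hd θ h1 ((h.mult_ne_zero (irrOn_of_mem h1).charOn).1 e)).resolve_left h2]
  · have := (h.mult_ne_zero (irrOn_of_mem hθ).charOn).2 e
    exact ⟨fun e' e'' => this (sum_eq_zero_iff.1 e'' θ (mem_filter.2 ⟨hθ, e'⟩)),
      fun e' e'' => this (sum_eq_zero_iff.1 e'' θ (mem_filter.2 ⟨hθ, e'⟩))⟩

omit [Finite Γ] in
theorem CharOn.deg_mul (h : CharOn K φ) (h' : CharOn K ψ) : charDegree (φ * ψ) = charDegree φ * charDegree ψ :=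
  charDegree_of_eq (by rw [Pi.mul_apply, h.one_eq, h'.one_eq, Nat.cast_mul])

omit [Finite Γ] in
theorem CharOn.deg_star (h : CharOn K φ) : charDegree (Star.star φ) = charDegree φ :=
  charDegree_of_eq (by rw [Pi.star_apply, h.one_eq, star_natCast])

theorem eq_of_dot_mul_lin (hφ : IrrOn K φ) (hψ : IrrOn K ψ) (hl : LinOn K lam) (h : dot K (φ * ψ) lam ≠ 0) :
    ∀ x ∈ K, φ x = lam x * conj (ψ x) :=
  hφ.eq_of_dot_ne_zero (hψ.star.lin_mul hl) (by rwa [dot_mul_left] at h)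

theorem not_perfect_of_coprime [N.Normal] (hN : ⁅N, N⁆ = N) (h0 : N ≠ ⊥)
    (hmin : ∀ M : Subgroup Γ, M.Normal → M ≤ N → M = ⊥ ∨ M = N) (hc : m.Coprime n) (hmn : m < n)
    (h : ∀ d, IsCd (⊤ : Subgroup Γ) d → d = 1 ∨ d = m ∨ d = n) : False := by
  have nN := nrm_of_normal ⊤ N
  have hNG : N ≤ ⁅⊤, ⊤⁆ := hN.ge.trans (commutator_mono le_top le_top)
  have t1 : ∀ {χ}, IrrOn ⊤ χ → charDegree χ = 1 → Triv N χ := fun h e => (h.triv_of_deg e).mono hNG
  have t2 : ∀ {χ θ}, IrrOn ⊤ χ → IrrOn N θ → dot N χ θ ≠ 0 → (Triv N χ ↔ Triv N θ) := fun a b c =>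
    triv_iff_of_dot le_top le_rfl nN a b c
  have t3 : ∀ {θ}, IrrOn N θ → charDegree θ ∣ m → charDegree θ ∣ n → Triv N θ := fun a b c =>
    (a.triv_of_deg (Nat.eq_one_of_dvd_coprimes hc b c)).mono hN.ge
  have t4 : ∀ {χ}, IrrOn ⊤ χ → ¬ Triv N χ → ∀ x ∈ N, χ x = χ 1 → x = 1 := fun {χ} a b x c d => by
    have := (irrOn_top.1 a).charKer_normal
    exact mem_bot.1 (((hmin (N ⊓ charKer χ) inferInstance inf_le_left).resolve_right fun e => b fun y hy =>
      apply_eq_of_mem_charKer (e.ge hy).2).le ⟨c, (irrOn_top.1 a).mem_charKer.2 d⟩)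
  have star : ∀ {χ ξ ψ}, IrrOn ⊤ χ → IrrOn ⊤ ξ → IrrOn ⊤ ψ → charDegree χ = m → charDegree ξ = m →
      charDegree ψ = n → dot ⊤ (χ * ξ) ψ ≠ 0 → Triv N ψ := fun {χ ξ ψ} a b c d e f g => by
    have hφ := c.charOn.mul a.star.charOn
    have hm : 0 < m := d ▸ a.deg_pos
    obtain ⟨u, v, h1, h2⟩ := hφ.deg_eq_add (m := m) (n := n) fun η h1 h2 =>
      (h _ ⟨η, h1, rfl⟩).resolve_left fun h3 => hmn.ne' (by
        have hl := (irrOn_of_mem h1).charOn.linOn_of_deg h3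
        have := eq_of_dot_mul_lin c a.star hl h2 1 trivial
        rw [hl.2, one_mul, Pi.star_apply, a.one_eq, c.one_eq, d, f] at this
        simpa using this)
    rw [c.charOn.deg_mul a.star.charOn, a.charOn.deg_star, d, f] at h1
    have h3 := (h2 _ b.cut_mem (by
      rwa [dot_cut_right, Ne, dot_eq_zero_comm, ← dot_mul_left, mul_comm])).1
      (charDegree_of_eq ((cut_of_mem _ (mem_top _)).trans (e ▸ b.one_eq)))
    have h4 := Nat.le_of_dvd (Nat.pos_of_ne_zero h3) (hc.symm.dvd_of_dvd_mul_right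
      ((Nat.dvd_add_left (dvd_mul_left n v)).1 (h1 ▸ dvd_mul_right n m)))
    have h5 : v = 0 := by_contra fun e => by
      have := Nat.mul_le_mul_right m h4
      have := Nat.mul_pos (Nat.pos_of_ne_zero e) (hm.trans hmn)
      omega
    have h6 : ∀ η ∈ Irr ⊤, dot ⊤ (ψ * Star.star χ) η ≠ 0 → ∀ x ∈ N, η x = conj (χ x) := fun η h6 h7 => by
      have hi := irrOn_of_mem h6
      have hψ := hi.charOn.mul a.charOn
      by_contra h8
      obtain ⟨u, v, h9, h10⟩ := hψ.deg_eq_add (m := m) (n := n) fun l h1 h2 =>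
        (h _ ⟨l, h1, rfl⟩).resolve_left fun h3 => h8 fun x hx => by
          have hl := (irrOn_of_mem h1).charOn.linOn_of_deg h3
          rw [eq_of_dot_mul_lin hi a hl h2 x trivial, t1 hl.irrOn h3 x hx, hl.2, one_mul]
      rw [hi.charOn.deg_mul a.charOn, d, not_not.1 (mt (h2 η h6 h7).2 (not_not.2 h5))] at h9
      have h11 := (h10 _ c.cut_mem (by rwa [dot_cut_right, dot_mul_left, Ne, dot_eq_zero_comm])).2 (by
        rw [charDegree_of_eq ((cut_of_mem _ (mem_top _)).trans (f ▸ c.one_eq))]; exact hmn.ne')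
      have := Nat.mul_le_mul_right n (Nat.le_of_dvd (Nat.pos_of_ne_zero h11) (hc.dvd_of_dvd_mul_right
        ((Nat.dvd_add_right (dvd_mul_left m u)).1 (h9 ▸ dvd_mul_right m m))))
      have := Nat.mul_lt_mul_of_pos_left hmn hm
      omega
    have h7 : ∀ x ∈ N, ψ x * conj (χ x) = (∑ η ∈ Irr ⊤, dot ⊤ (ψ * Star.star χ) η) * conj (χ x) := fun x hx => by
      rw [sum_mul]
      refine (hφ.classOn.eq_sum (mem_top x)).trans (sum_congr rfl fun η h => ?_)
      by_cases e : dot ⊤ (ψ * Star.star χ) η = 0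
      · rw [e, zero_mul, zero_mul]
      · rw [h6 η h e x hx]
    by_contra h8
    have h9 := (a.charOn.mono le_top).card_dvd_deg fun x hx e => by_contra fun e' => e (t4 c h8 x hx (by
      rw [mul_right_cancel₀ ((map_ne_zero _).2 e') (h7 x hx),
        mul_right_cancel₀ ((map_ne_zero _).2 a.one_ne_zero) (h7 1 N.one_mem)]))
    obtain ⟨θ, h10, h11⟩ := c.exists_under (H := N) le_top
    have hi := irrOn_of_mem h10
    exact h8 ((t2 c hi h11).2 (t3 hi (hi.deg_dvd_card.trans (d ▸ h9)) (f ▸ deg_dvd_of_dot le_top nN c hi h11)))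
  obtain ⟨d, hd⟩ : ∃ d, ∀ χ ∈ Irr (⊤ : Subgroup Γ), ¬ Triv N χ → charDegree χ = d := by
    by_cases h1 : ∃ χ ∈ Irr (⊤ : Subgroup Γ), ¬ Triv N χ ∧ charDegree χ = m
    swap
    · exact ⟨n, fun χ a b => ((h _ ⟨χ, a, rfl⟩).resolve_left (mt (t1 (irrOn_of_mem a)) b)).resolve_left
        fun e => h1 ⟨χ, a, b, e⟩⟩
    obtain ⟨χ, a, b, c⟩ := h1
    have a := irrOn_of_mem a
    have key := forall_of_closed (fun θ => Triv N θ ∨ ∃ ξ, IrrOn ⊤ ξ ∧ charDegree ξ = m ∧ dot N ξ θ ≠ 0)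
      (a.classOn.mono' le_top) (t4 a b) (.inl ((irr_eq_one_iff_triv (cut_one_mem N)).1 rfl)) (by
        rintro α h1 (h2 | ⟨ξ, h2, h3, h4⟩) θ h5 h6
        · refine .inr ⟨χ, a, c, by
            rwa [dot_congr_left fun x hx => by rw [Pi.mul_apply, (irrOn_of_mem h1).eq_one_of_triv h2 x hx, mul_one]] at h6⟩
        have h7 := (a.charOn.mono le_top).mul ((h2.charOn.mono le_top).sub_irr (irrOn_of_mem h1) h4)
        rw [mul_sub] at h7
        obtain ⟨η, h8, h9, h10⟩ := exists_between le_top (a.charOn.mul h2.charOn).classOn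
          (((a.charOn.mono le_top).mul (irrOn_of_mem h1).charOn).dot_ne_zero_of_sub h7 (irrOn_of_mem h5).charOn h6)
        have hi := irrOn_of_mem h8
        rcases h _ ⟨η, h8, rfl⟩ with e | e | e
        exacts [.inl ((t2 hi (irrOn_of_mem h5) h10).1 (t1 hi e)), .inr ⟨η, hi, e, h10⟩,
          .inl ((t2 hi (irrOn_of_mem h5) h10).1 (star a h2 hi c h3 e h9))])
    refine ⟨m, fun ψ h1 h2 => ((h _ ⟨ψ, h1, rfl⟩).resolve_left (mt (t1 (irrOn_of_mem h1)) h2)).resolve_right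
      fun e => h2 ?_⟩
    have h1 := irrOn_of_mem h1
    obtain ⟨θ, h3, h4⟩ := h1.exists_under (H := N) le_top
    have hi := irrOn_of_mem h3
    refine (t2 h1 hi h4).2 ((key θ h3).elim id fun ⟨ξ, h5, h6, h7⟩ => ?_)
    exact t3 hi (h6 ▸ deg_dvd_of_dot le_top nN h5 hi h7) (e ▸ deg_dvd_of_dot le_top nN h1 hi h4)
  obtain ⟨θ, h1, h2⟩ : ∃ θ ∈ Irr N, charDegree θ ≠ 1 := by
    by_contra! e
    exact h0 (hN ▸ eq_bot_iff.2 (commutator_le.2 fun a ha b hb =>
      commutatorElement_eq_one_iff_mul_comm.2 (comm_of_forall_deg e a ha b hb)))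
  have hi := irrOn_of_mem h1
  obtain ⟨χ, h3, h4⟩ := hi.exists_over le_top
  obtain ⟨ψ, h5, h6, h7⟩ := exists_not_dvd_of_perfect hN (Nat.minFac_prime h2)
    ((Nat.minFac_dvd _).trans hi.deg_dvd_card)
  refine h7 ((Nat.minFac_dvd _).trans ?_)
  rw [hd ψ h5 h6, ← hd χ h3 fun e => h2 (charDegree_of_eq ((hi.eq_one_of_triv ((t2 (irrOn_of_mem h3) hi h4).1 e) 1
    N.one_mem).trans Nat.cast_one.symm))]
  exact deg_dvd_of_dot le_top nN (irrOn_of_mem h3) hi h4

theorem dl_three_of_mono (hmn : m ≤ n) (h : ∀ d, IsCd (⊤ : Subgroup Γ) d → d = 1 ∨ d = m ∨ d = n)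
    (hM : ∀ χ ∈ Irr (⊤ : Subgroup Γ), ∃ H lam, LinOn H lam ∧ ind H ⊤ lam = χ) : derivedSeries Γ 3 = ⊥ := by
  have h1 : ∀ χ ∈ Irr (⊤ : Subgroup Γ), charDegree χ ≤ m ∨ charDegree χ = 1 → Triv (derivedSeries Γ 2) χ := fun χ hχ e => by
    obtain ⟨H, lam, hl, e'⟩ := hM χ hχ
    exact triv_commutator_of_ind (D := derivedSeries Γ 1) hl e' fun ψ hψ c => (irrOn_of_mem hψ).triv_of_deg (by
      have := h _ ⟨ψ, hψ, rfl⟩; have := (irrOn_of_mem hψ).deg_pos; omega)
  refine eq_bot_iff.2 (le_of_forall_triv fun χ hχ _ => ?_)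
  obtain ⟨H, lam, hl, e'⟩ := hM χ hχ
  refine triv_commutator_of_ind (D := derivedSeries Γ 2) hl e' fun ψ hψ c => h1 ψ hψ ?_
  have := h _ ⟨ψ, hψ, rfl⟩
  have := h _ ⟨χ, hχ, rfl⟩
  have := (irrOn_of_mem hψ).deg_pos
  omega

theorem dl_three_of_coprime (hs : Group.IsSolvable Γ) (hc : m.Coprime n)
    (h : ∀ d, IsCd (⊤ : Subgroup Γ) d → d = 1 ∨ d = m ∨ d = n) : derivedSeries Γ 3 = ⊥ := by
  have two : ∀ a, (∀ d, IsCd (⊤ : Subgroup Γ) d → d = 1 ∨ d = a) → derivedSeries Γ 3 = ⊥ := fun a h =>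
    eq_bot_iff.2 ((commutator_le_self _).trans (dl_two h).le)
  by_cases hn : commutator Γ = ⊥
  · exact eq_bot_iff.2 ((commutator_le_self _).trans ((commutator_le_self _).trans hn.le))
  have key : ∀ {a d}, a ≠ 1 → IsCd (⊤ : Subgroup Γ) a → IsCd (⊤ : Subgroup Γ) d → IsCd (⊤ : Subgroup Γ) (a * d) →
      d ≠ 1 → False := fun {a d} h1 h2 h3 h4 h5 => by
    obtain ⟨χ, h6, h7⟩ := id h4
    have h8 := h7 ▸ (irrOn_of_mem h6).deg_pos
    have h9 : a * d ≠ a := fun e => h5 ((mul_eq_left₀ (by rintro rfl; simp at h8)).1 e)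
    rcases (h _ h2).resolve_left h1 with rfl | rfl <;> rcases h _ h4 with e | e | e
    exacts [h1 (Nat.eq_one_of_mul_eq_one_right e), h9 e, h1 (hc.eq_one_of_dvd ⟨d, e.symm⟩),
      h1 (Nat.eq_one_of_mul_eq_one_right e), h1 (hc.symm.eq_one_of_dvd ⟨d, e.symm⟩), h9 e]
  have one : ∀ K : Subgroup Γ, IsCd K 1 := fun K => (linOn_one K).deg ▸ (irrOn_one K).isCd
  obtain ⟨p, hp, ⟨k, h1⟩ | ⟨N, _, h1, h2, h3, h4⟩⟩ := cd_just hs hn
  · have h2 := mul_one (p ^ (k + 1)) ▸ h1 1 (one _) hp.not_dvd_one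
    have h3 := (Nat.one_lt_pow k.succ_ne_zero hp.one_lt).ne'
    refine two (p ^ (k + 1)) fun d hd => by_contra fun e => ?_
    rw [not_or] at e
    refine key h3 h2 hd (h1 d hd fun h4 => hp.one_lt.ne' ?_) e.1
    have h5 := dvd_pow_self p k.succ_ne_zero
    rcases (h _ h2).resolve_left h3 with a | a <;> rcases (h _ hd).resolve_left e.1 with b | b
    exacts [(e.2 (b.trans a.symm)).elim, Nat.eq_one_of_dvd_coprimes hc (a ▸ h5) (b ▸ h4),
      Nat.eq_one_of_dvd_coprimes hc (b ▸ h4) (a ▸ h5), (e.2 (b.trans a.symm)).elim]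
  have h5 := mul_one N.index ▸ h4 1 (one _) hp.not_dvd_one
  have h6 := index_eq_one.not.2 h2
  obtain ⟨g, h7, h8⟩ : ∃ g, N.index.Coprime g ∧ ∀ d, IsCd (⊤ : Subgroup Γ) d → d = 1 ∨ d = N.index ∨ d = g := by
    rcases (h _ h5).resolve_left h6 with a | a
    exacts [⟨n, a ▸ hc, a ▸ h⟩, ⟨m, a ▸ hc.symm, fun d hd => by have := h d hd; omega⟩]
  refine eq_bot_iff.2 ((commutator_mono ?_ ?_).trans (dl_two_sub (N := N) (m := g) fun d ⟨ψ, hψ, e⟩ => ?_).le)
  iterate 2 exact commutator_mono h1 h1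
  have hi := irrOn_of_mem hψ
  obtain ⟨χ, a, b⟩ := hi.exists_over le_top
  have c := e ▸ deg_dvd_of_dot le_top (nrm_of_normal _ _) (irrOn_of_mem a) hi b
  have c' := e ▸ deg_dvd_relIndex_mul le_top (nrm_of_normal _ _) (irrOn_of_mem a) hi b
  rw [relIndex_top_right] at c'
  refine or_iff_not_imp_left.2 fun h9 => ?_
  by_cases h10 : p ∣ d
  · rcases h8 _ ⟨χ, a, rfl⟩ with f | f | f <;> rw [f] at c c'
    exacts [(h9 (Nat.dvd_one.1 c)).elim, (h3 (h10.trans c)).elim,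
      Nat.dvd_antisymm c (h7.symm.dvd_of_dvd_mul_left c')]
  · rcases h8 _ (h4 d ⟨ψ, hψ, e⟩ h10) with f | f | f
    exacts [(h6 (Nat.eq_one_of_mul_eq_one_right f)).elim, (h9 ((mul_eq_left₀ index_ne_zero_of_finite).1 f)).elim,
      (h6 (h7.eq_one_of_dvd ⟨d, f.symm⟩)).elim]

universe u in
/-- Isaacs 12.15. -/
theorem dl_three {G : Type u} [Group G] [Finite G] {m n : ℕ}
    (h : ∀ d, IsCd (⊤ : Subgroup G) d → d = 1 ∨ d = m ∨ d = n) : derivedSeries G 3 = ⊥ := by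
  induction hc : Nat.card G using Nat.strong_induction_on generalizing G m n with
  | _ c ih =>
  wlog hmn : m ≤ n generalizing m n
  · exact this (m := n) (n := m) (fun d hd => by have := h d hd; omega) (by omega)
  by_cases h1 : m.Coprime n
  · refine dl_three_of_coprime (by_contra fun hs => ?_) h1 h
    rcases hmn.eq_or_lt with rfl | hmn
    · exact hs ⟨2, dl_two (m := m) fun d hd => by have := h d hd; omega⟩
    obtain ⟨N, _, h2, -, h3⟩ := Core.exists_minimal_normal_le (derivedSeries G 3) fun e => hs ⟨3, e⟩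
    refine not_perfect_of_coprime ((h3 _ inferInstance (commutator_le_self N)).resolve_left fun e => hs ?_) h2 h3 h1 hmn h
    have : Group.IsSolvable N := Group.isSolvable_of_comm fun a b => Subtype.ext
      (commutatorElement_eq_one_iff_mul_comm.1 (mem_bot.1 (e.le (commutator_mem_commutator a.2 b.2))))
    have : Group.IsSolvable (G ⧸ N) := ⟨3, ih _ (hc ▸ Core.card_quotient_lt h2)
      (fun d hd => let ⟨χ, h4, _, e⟩ := hd.of_quo; h d ⟨χ, h4, e⟩) rfl⟩
    exact Core.isSolvable_of_normal_of_quotient N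
  obtain ⟨p, hp, h2, h3⟩ := Nat.Prime.not_coprime_iff_dvd.1 h1
  have := Fact.mk hp
  have hL : ¬ p ∣ Nat.card (Transfer.resOf p (⊤ : Subgroup G)) := thompson_pnil fun χ hχ e => by
    rcases (h _ ⟨χ, hχ, rfl⟩).resolve_left e with e | e <;> rwa [e]
  obtain ⟨k, hk⟩ := Transfer.relIndex_resOf (p := p) (⊤ : Subgroup G)
  have := Transfer.resOf_normal (p := p) (⊤ : Subgroup G)
  generalize Transfer.resOf p (⊤ : Subgroup G) = L at *
  have nL := nrm_of_normal ⊤ L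
  have a0 : ∀ {χ θ}, IrrOn ⊤ χ → IrrOn L θ → dot L χ θ ≠ 0 → ordCompl[p] (charDegree χ) = charDegree θ :=
    fun a b c => by
      obtain ⟨e, h4, h5⟩ := exists_deg_eq_mul le_top nL a b c
      obtain ⟨j, -, rfl⟩ := (Nat.dvd_prime_pow hp).1 (hk ▸ h4)
      rw [h5, Nat.ordCompl_mul, Nat.ordCompl_self_pow hp, one_mul, Nat.ordCompl_eq_self_iff_zero_or_not_dvd _ hp]
      exact .inr fun e => hL (e.trans b.deg_dvd_card)
  have a1 : ∀ d, IsCd L d → d = 1 ∨ d = ordCompl[p] m ∨ d = ordCompl[p] n := fun d ⟨θ, hθ, e⟩ => by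
    obtain ⟨χ, a, b⟩ := (irrOn_of_mem hθ).exists_over le_top
    rw [← e, ← a0 (irrOn_of_mem a) (irrOn_of_mem hθ) b]
    rcases h _ ⟨χ, a, rfl⟩ with f | f | f <;> simp [f]
  have a2 : ∀ χ ∈ Irr (⊤ : Subgroup G), Triv ⁅L, L⁆ χ → ordCompl[p] (charDegree χ) = 1 := fun χ hχ ht => by
    have hi := irrOn_of_mem hχ
    obtain ⟨θ, a, b⟩ := hi.exists_under (H := L) le_top
    have a := irrOn_of_mem a
    rw [a0 hi a b, (a.linOn_iff.2 ((triv_iff_of_dot le_top (commutator_le_self L) (nrm_of_normal _ _) hi a b).1 ht)).deg]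
  have a3 : ∀ a b, (∀ d, IsCd (⊤ : Subgroup G) d → d = 1 ∨ d = a ∨ d = b) → ordCompl[p] b ≠ 1 →
      (∀ d, IsCd L d → d = 1 ∨ d = ordCompl[p] b) → derivedSeries G 3 = ⊥ := fun a b h4 h5 h6 => by
    have h7 := dl_two_quo (D := ⁅L, L⁆) (m := a) fun χ hχ ht => (h4 _ ⟨χ, hχ, rfl⟩).imp_right fun e =>
      e.resolve_right fun e => h5 (e ▸ a2 χ hχ ht)
    exact eq_bot_iff.2 ((commutator_mono h7 h7).trans (dl_two_sub h6).le)
  by_cases b1 : ordCompl[p] m = 1 <;> by_cases b2 : ordCompl[p] n = 1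
  · refine dl_three_of_mono hmn h fun χ hχ => ?_
    obtain ⟨H, -, lam, h4, h5⟩ := (irrOn_of_mem hχ).exists_lin_of_pow hp le_top nL hk
      (comm_of_forall_deg fun θ hθ => by have := a1 _ ⟨θ, hθ, rfl⟩; omega)
    exact ⟨H, lam, h4, h5.trans (cut_top _)⟩
  · exact a3 m n h b2 fun d hd => by have := a1 d hd; omega
  · exact a3 n m (fun d hd => by have := h d hd; omega) b1 fun d hd => by have := a1 d hd; omega
  have h4 : commutator G ≤ ⁅L, L⁆ := le_of_forall_triv fun χ hχ ht => (irrOn_of_mem hχ).triv_of_deg (by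
    have := a2 χ hχ ht
    rcases h _ ⟨χ, hχ, rfl⟩ with e | e | e
    exacts [e, (b1 (e ▸ this)).elim, (b2 (e ▸ this)).elim])
  by_cases h5 : L = ⊤
  · refine eq_bot_iff.2 ((commutator_le_self _).trans (dl_two (m := 1) fun d ⟨χ, hχ, e⟩ => .inl (by_contra fun f =>
      hL (Dvd.dvd.trans ?_ (h5 ▸ e ▸ (irrOn_of_mem hχ).deg_dvd_card)))).le)
    rcases (h _ ⟨χ, hχ, e⟩).resolve_left f with e | e <;> rwa [e]
  have h6 := congrArg (Subgroup.map L.subtype) (ih _ (hc ▸ Core.card_lt_of_ne_top h5)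
    (fun d hd => a1 d (isCd_sub.1 hd)) rfl)
  rw [Subgroup.map_bot, derivedSeries_succ, derivedSeries_succ, Subgroup.map_commutator, Subgroup.map_commutator,
    derivedSeries_one, map_subtype_commutator] at h6
  have h7 := commutator_mono h4 h4
  exact eq_bot_iff.2 ((commutator_mono h7 h7).trans h6.le)

end Cfsg.Lib.Clifford
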