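import Cfsg.Agent.Lib.Clifford.PSolLin
import Cfsg.Agent.Lib.Clifford.Frobenius
import Cfsg.Agent.Lib.FG.ExtraChar
import Cfsg.Agent.Lib.Coprime.Glaub

/-! Feit–Thompson on linear groups (Isaacs 14.9). -/

set_option autoImplicit false

namespace Cfsg.Lib.Clifford

open Cfsg Cfsg.Lib.Char Subgroup Finset
open scoped ComplexConjugate

variable {Γ : Type*} [Group Γ] [Finite Γ] {H N : Subgroup Γ} {χ : Γ → ℂ}

theorem sum_normSq_ti (hχ : IrrOn ⊤ χ) {X : Finset Γ} (hX : X ⊆ elems N) (h1 : 1 ∉ X)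
    (h : ∀ a ∈ X, ∀ x, x * a * x⁻¹ ∈ X ↔ x ∈ N) : ∑ x ∈ X, ‖χ x‖ ^ 2 < Nat.card N := by
  classical
  set f : Γ → ℂ := fun x => if x ∈ X then 1 else 0
  have hf : ClassOn N f := fun g hg n _ => if_congr ⟨fun e => by simpa [mul_assoc] using (h _ e g⁻¹).2 (inv_mem hg),
    fun e => (h n e g).2 hg⟩ rfl rfl
  have h2 : ∀ g, ind N ⊤ f g = 0 ∨ (g ≠ 1 ∧ ind N ⊤ f g = 1) := fun g => by
    refine or_iff_not_imp_left.2 fun h0 => ?_
    obtain ⟨x, hx⟩ : ∃ x, x * g * x⁻¹ ∈ X := by_contra fun h' => h0 (ind_eq_zero fun x _ _ => if_neg fun e => h' ⟨x, e⟩)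
    refine ⟨fun e => h1 (by simpa [e] using hx), ?_⟩
    rw [← ind_conj N f (mem_top x), ind_apply_of_ti le_top hf (mem_elems.1 (hX hx)) fun y _ hy _ =>
      if_neg fun e => hy ((h _ hx y).1 e)]
    exact if_pos hx
  have h3 := dot_ind_left le_top f (hχ.classOn.mul hχ.classOn.star) (H := N)
  have h4 := hχ.dot_self
  have e : ∀ x, conj ((χ * star χ) x) = (‖χ x‖ ^ 2 : ℝ) := fun x => by
    simp [Complex.mul_conj']
  simp only [dot, e] at h3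
  rw [dot_self_eq, Complex.ofReal_eq_one] at h4
  have h5 : ∑ x ∈ elems N, f x * (‖χ x‖ ^ 2 : ℝ) = (∑ x ∈ X, ‖χ x‖ ^ 2 : ℝ) := by
    simp [f, inter_eq_right.2 hX]
  have h6 := congrArg Complex.re h3
  rw [h5, ← Complex.ofReal_natCast, ← Complex.ofReal_natCast, ← Complex.ofReal_inv, ← Complex.ofReal_inv,
    Complex.re_ofReal_mul, Complex.re_ofReal_mul, Complex.ofReal_re, Complex.re_sum] at h6
  rw [← inv_mul_lt_one₀ (Nat.cast_pos.2 Nat.card_pos), ← h6, ← h4]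
  refine mul_lt_mul_of_pos_left (sum_lt_sum (fun x _ => ?_) ⟨1, mem_elems.2 trivial, ?_⟩) (inv_pos.2
    (Nat.cast_pos.2 Nat.card_pos))
  · obtain e | ⟨-, e⟩ := h2 x <;> simp [e, -Complex.ofReal_pow]
  · simpa [(h2 1).resolve_right (by simp), sq_pos_iff] using hχ.one_ne_zero

theorem ft_lin (hab : ∀ a ∈ H, ∀ b ∈ H, a * b = b * a) (hZ : H ⊓ center Γ = ⊥)
    (hone : ∀ g ∉ center Γ, ∀ x, (∃ h ∈ H, h ≠ 1 ∧ g * h = h * g) →
      (∃ h ∈ H, h ≠ 1 ∧ x * g * x⁻¹ * h = h * (x * g * x⁻¹)) → x ∈ normalizer (H : Set Γ))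
    (hχ : IrrOn ⊤ χ) (ht : ¬ Triv H χ) : Nat.card H * mult H χ 1 ^ 2 < charDegree χ ^ 2 := by
  classical
  set N := normalizer (H : Set Γ)
  have hHN : H ≤ N := le_normalizer
  have hN : Nrm N H := nrm_of_le_normalizer le_rfl
  have hZN : center Γ ≤ N := center_le_normalizer _
  obtain ⟨h₀, h0, h0'⟩ : ∃ h ∈ H, h ≠ 1 := by
    by_contra! h; exact ht fun x hx => by rw [h x hx]
  set Y := (elems N).filter fun g => ∃ h ∈ H, h ≠ 1 ∧ g * h = h * g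
  have hY : ∀ g, g ∈ Y ↔ ∃ h ∈ H, h ≠ 1 ∧ g * h = h * g := fun g => ⟨fun h => (mem_filter.1 h).2,
    fun ⟨h, a, b, c⟩ => mem_filter.2 ⟨mem_elems.2 (hone h (fun e => b (hZ.le ⟨a, e⟩)) g ⟨h, a, b, rfl⟩
      ⟨h, a, b, by rw [c, mul_inv_cancel_right]⟩), h, a, b, c⟩⟩
  have h1 := sum_normSq_ti hχ (X := Y \ elems (center Γ)) (sdiff_subset.trans (filter_subset _ _))
    (by simp [mem_elems]) fun a ha x => by
      simp only [mem_sdiff, mem_elems, hY] at ha ⊢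
      refine ⟨fun h => hone a ha.2 x ha.1 h.1, fun hx => ⟨?_, fun h => ha.2 ((nrm_of_normal ⊤ _).mem_iff trivial _ |>.1 h)⟩⟩
      obtain ⟨h, b, c, d⟩ := ha.1
      exact ⟨_, hN x hx h b, mt conj_eq_one_iff.1 c, by simp [mul_assoc, ← mul_assoc a, d]⟩
  have hc := hχ.charOn.mono (le_top : N ≤ ⊤)
  set χ₀ := ∑ β ∈ IrrKer N H, (mult N χ β : ℂ) • β
  have c0 : CharOn N χ₀ := charOn_sum _ fun β hβ => (irrOn_of_mem (mem_IrrKer.1 hβ).1).charOn.smul _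
  have e0 : ∀ x ∈ N, χ₀ x = (Nat.card H : ℂ)⁻¹ * ∑ h ∈ elems H, χ (h * x) := fun x hx => by
    rw [hc.classOn.avg_coset hHN hN hx]
    exact (Finset.sum_apply ..).trans <| sum_congr rfl fun β hβ => by
      rw [hc.dot_eq_mult (irrOn_of_mem (mem_IrrKer.1 hβ).1).charOn]; rfl
  have e1 : ∀ h ∈ H, ∀ z ∈ center Γ, ‖χ₀ (h * z)‖ = mult H χ 1 := fun h hh z hz => by
    obtain ⟨c, c1, c2⟩ := FG.irr_central hχ (mem_top z) fun y _ => mem_center_iff.1 hz y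
    rw [e0 _ (mul_mem (hHN hh) (hZN hz)), sum_congr rfl fun y _ => by
      rw [← mul_assoc, mem_center_iff.1 hz, c2 _ trivial], ← mul_sum, sum_elems_mul_right hh,
      (hc.mono hHN).sum_eq, mul_left_comm, inv_mul_cancel_left₀ (card_ne_zero H), norm_mul, c1, one_mul,
      Complex.norm_natCast]
  have e2 : ∀ x ∈ N, x ∉ Y → (χ - χ₀) x = 0 := fun x hx hx' => by
    rw [Pi.sub_apply, e0 x hx, sum_congr rfl fun h hh => (?_ : _ = χ x), sum_const, card_elems, nsmul_eq_mul,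
      inv_mul_cancel_left₀ (card_ne_zero H), sub_self]
    obtain ⟨m, -, e⟩ := exists_conj_of_centralizer_eq_bot hN hx (fun n hn e => by_contra fun h =>
      hx' ((hY x).2 ⟨n, hn, h, e.symm⟩)) (mem_elems.1 hh)
    rw [← e, hχ.classOn m trivial x trivial]
  have e3 : dot N (χ - χ₀) χ₀ = 0 := by
    rw [dot_sum_right]
    refine sum_eq_zero fun β hβ => ?_
    rw [dot_smul_right, dot_sub_left, dot_sum_smul_irr' IrrKer_subset _ (mem_IrrKer.1 hβ).1, if_pos hβ,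
      hc.dot_eq_mult (irrOn_of_mem (mem_IrrKer.1 hβ).1).charOn, sub_self, mul_zero]
  have e4 : (Nat.card N : ℝ) ≤ ∑ x ∈ Y, ‖(χ - χ₀) x‖ ^ 2 := by
    obtain ⟨n, hn⟩ := (hc.genOn.sub c0.genOn).dot_int (hc.genOn.sub c0.genOn)
    have h2 : n ≠ 0 := by
      rintro rfl
      refine ht ((hc.mono hHN).triv_of_dot_one ?_)
      rw [sub_eq_zero.1 (dot_self_eq_zero.1 (hn.trans Int.cast_zero) 1 (one_mem N)), e0 1 (one_mem N), dot]
      simp
    rw [dot_self_eq, ← Complex.ofReal_intCast, Complex.ofReal_inj, inv_mul_eq_iff_eq_mul₀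
      (Nat.cast_ne_zero.2 Nat.card_pos.ne')] at hn
    rw [sum_subset (filter_subset _ _) fun x hx hx' => by simp [e2 x (mem_elems.1 hx) hx'], hn]
    have h3 : (0 : ℝ) ≤ Nat.card N * n := hn ▸ sum_nonneg fun _ _ => sq_nonneg _
    have h4 : (0 : ℝ) < Nat.card N := Nat.cast_pos.2 Nat.card_pos
    have h5 : 0 ≤ n := by exact_mod_cast nonneg_of_mul_nonneg_right h3 h4
    exact le_mul_of_one_le_right h4.le (by exact_mod_cast (by omega : 1 ≤ n))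
  have e5 : ∑ x ∈ Y, ‖χ x‖ ^ 2 = ∑ x ∈ Y, ‖χ₀ x‖ ^ 2 + ∑ x ∈ Y, ‖(χ - χ₀) x‖ ^ 2 := by
    rw [dot, mul_eq_zero_iff_left (inv_ne_zero (card_ne_zero N)), ← sum_subset (filter_subset _ _) fun x hx hx' =>
      by rw [e2 x (mem_elems.1 hx) hx', zero_mul]] at e3
    have h2 := congrArg (fun z => 2 * Complex.re z) e3
    simp only [Complex.re_sum, mul_sum, Complex.zero_re, mul_zero] at h2
    rw [← add_zero (_ + _), ← h2, ← sum_add_distrib, ← sum_add_distrib]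
    refine sum_congr rfl fun x _ => ?_
    simp only [← Complex.normSq_eq_norm_sq, add_comm (Complex.normSq (χ₀ x)), ← Complex.normSq_add]
    simp
  have hD : ∀ k ∈ H ⊔ center Γ, ∃ h ∈ H, ∃ m ∈ center Γ, k = h * m := fun k hk =>
    exists_mul_of_mem_sup_nrm (nrm_of_normal _ _) hk
  have e6 : (Nat.card H * Nat.card (center Γ) : ℕ) * (mult H χ 1 : ℝ) ^ 2 ≤ ∑ x ∈ Y, ‖χ₀ x‖ ^ 2 := by
    rw [card_mul_card_of_prod le_sup_left le_sup_right hD, hZ, card_bot, one_mul, ← card_elems, ← nsmul_eq_mul,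
      ← sum_const, sum_congr rfl fun x hx => (?_ : _ = ‖χ₀ x‖ ^ 2)]
    · refine sum_le_sum_of_subset_of_nonneg (fun x hx => (hY x).2 ⟨h₀, h0, h0', ?_⟩) fun _ _ _ => sq_nonneg _
      obtain ⟨h, a, z, b, rfl⟩ := hD x (mem_elems.1 hx)
      rw [mul_assoc, ← mem_center_iff.1 b, ← mul_assoc, hab h a _ h0, mul_assoc]
    · obtain ⟨h, a, z, b, rfl⟩ := hD x (mem_elems.1 hx)
      rw [e1 h a z b]
  have e7 := sum_sdiff (f := fun x => ‖χ x‖ ^ 2) (s₂ := Y) (s₁ := elems (center Γ)) fun z hz =>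
    (hY z).2 ⟨h₀, h0, h0', (mem_center_iff.1 (mem_elems.1 hz) _).symm⟩
  rw [sum_congr rfl fun z (hz : z ∈ elems (center Γ)) => (?_ : _ = (charDegree χ : ℝ) ^ 2), sum_const, card_elems,
    nsmul_eq_mul] at e7
  · have h4 : (0 : ℝ) < Nat.card (center Γ) := Nat.cast_pos.2 Nat.card_pos
    push_cast at e6
    exact_mod_cast lt_of_mul_lt_mul_left (a := (Nat.card (center Γ) : ℝ))
      (by linarith : _ * ((Nat.card H : ℝ) * (mult H χ 1 : ℝ) ^ 2) < _ * (charDegree χ : ℝ) ^ 2) h4.le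
  · obtain ⟨c, c1, c2⟩ := FG.irr_central hχ (mem_top z) fun y _ => mem_center_iff.1 (mem_elems.1 hz) y
    rw [← mul_one z, c2 1 trivial, norm_mul, c1, one_mul, hχ.one_eq, Complex.norm_natCast]

theorem ft_lin' (hab : ∀ a ∈ H, ∀ b ∈ H, a * b = b * a) (hZ : H ⊓ center Γ = ⊥)
    (hone : ∀ g ∉ center Γ, ∀ x, (∃ h ∈ H, h ≠ 1 ∧ g * h = h * g) →
      (∃ h ∈ H, h ≠ 1 ∧ x * g * x⁻¹ * h = h * (x * g * x⁻¹)) → x ∈ normalizer (H : Set Γ))
    (hχ : IrrOn ⊤ χ) (h1 : χ 1 ≠ 1) (hM : ∀ M : Subgroup Γ, M.Normal → H ≤ M → M = ⊤) :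
    Nat.card H < (1 + charDegree χ) ^ 2 := by
  classical
  have hc := hχ.charOn.mul hχ.charOn.star
  have hm := cut_one_mem (⊤ : Subgroup Γ)
  rw [cut_top] at hm
  have e1 : mult ⊤ (χ * star χ) 1 = 1 := mult_of_eq (by rw [dot_mul_left, star_star, one_mul, hχ.dot_self, Nat.cast_one])
  have e2 := hc.deg_eq_sum
  have e3 : charDegree χ ≤ ∑ ψ ∈ Irr ⊤, mult ⊤ (χ * star χ) ψ * mult H ψ 1 := by
    have hH := hχ.charOn.mono (le_top : H ≤ ⊤)
    rw [← Coprime.mult_trans hc le_top (charOn_one H), mult_of_eq (n := mult H χ χ) (by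
      rw [dot_mul_left, star_star, one_mul, hH.dot_eq_mult hH]), hH.mult_eq_sum hH, hH.deg_eq_sum]
    exact sum_le_sum fun θ hθ => by
      rw [((irrOn_of_mem hθ).linOn_of_comm hab).deg, mul_one]; exact Nat.le_mul_self _
  rw [← add_sum_erase _ _ hm, e1, one_mul] at e2 e3
  rw [(linOn_one ⊤).deg, charDegree_of_eq (n := charDegree χ ^ 2) (by simp [hχ.one_eq, sq])] at e2
  rw [mult_of_eq (n := 1) (by rw [(irrOn_one H).dot_self, Nat.cast_one])] at e3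
  have hd : 1 < charDegree χ := lt_of_le_of_ne hχ.deg_pos fun e => h1 (by rw [hχ.one_eq, ← e, Nat.cast_one])
  have key : ∀ ψ ∈ (Irr ⊤).erase 1, √(Nat.card H) * mult H ψ 1 < charDegree ψ := fun ψ hψ => by
    have hi := irrOn_of_mem (mem_of_mem_erase hψ)
    refine lt_of_pow_lt_pow_left₀ 2 (Nat.cast_nonneg _) ?_
    rw [mul_pow, Real.sq_sqrt (Nat.cast_nonneg _)]
    exact_mod_cast ft_lin hab hZ hone hi fun ht => ne_of_mem_erase hψ (funext fun x => hi.eq_one_of_triv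
      (triv_kerOn.mono (hM _ hi.classOn.nrm_kerOn.normal ((hi.charOn.le_kerOn le_top).2 ht)).ge) x trivial)
  obtain ⟨ψ, h2, h3⟩ := exists_ne_zero_of_sum_ne_zero (by nlinarith :
    ∑ ψ ∈ (Irr ⊤).erase 1, mult ⊤ (χ * star χ) ψ * charDegree ψ ≠ 0)
  have e4 := sum_lt_sum (fun ψ hψ => mul_le_mul_of_nonneg_left (key ψ hψ).le
    (Nat.cast_nonneg (mult ⊤ (χ * star χ) ψ))) ⟨ψ, h2, mul_lt_mul_of_pos_left (key ψ h2)
      (Nat.cast_pos.2 (Nat.pos_of_ne_zero (left_ne_zero_of_mul h3)))⟩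
  simp_rw [mul_left_comm _ (√_), ← mul_sum, ← Nat.cast_mul, ← Nat.cast_sum] at e4
  have e5 : √(Nat.card H) < 1 + charDegree χ := by
    rify at e2 e3 hd
    push_cast at e4
    nlinarith [Real.sqrt_nonneg (Nat.card H)]
  exact_mod_cast (Real.sqrt_lt' (by positivity)).1 e5

end Cfsg.Lib.Clifford
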