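import Cfsg.Agent.Lib.Clifford.Gallagher
import Mathlib.GroupTheory.GroupAction.MultipleTransitivity
import Mathlib.Data.Fintype.CardEmbedding

/-! Three irreducible characters of a 4-transitive permutation group (Frobenius). -/

set_option autoImplicit false
set_option linter.unusedSectionVars false
open Cfsg Cfsg.Lib.Char MulAction Finset

namespace Cfsg.Lib.Clifford

variable {G : Type*} [Group G] [Finite G] {X : Type*} [MulAction G X] [Finite X]

theorem sum_card_smul_eq [Fintype G] [IsPretransitive G X] [Nonempty X] (f : X → X) :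
    ∑ g : G, Nat.card {z : X // g • z = f z} = Nat.card G := by
  classical
  have := Fintype.ofFinite X
  have h1 : ∀ z : X, (univ.filter fun g : G => g • z = f z).card * Nat.card X = Nat.card G := fun z => by
    obtain ⟨h, hh⟩ := exists_smul_eq G z (f z)
    rw [← (stabilizer G z).card_mul_index, index_stabilizer_of_transitive, Nat.card_eq_fintype_card (α := stabilizer G z),
      Fintype.card_subtype]
    congr 1
    refine card_bij (fun g _ => h⁻¹ * g) (fun g hg => ?_) (fun a _ b _ e => mul_left_cancel e) fun b hb => ⟨h * b, ?_, by simp⟩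
    · simp only [mem_filter, mem_univ, true_and, mem_stabilizer_iff] at hg ⊢
      rw [mul_smul, hg, ← hh, inv_smul_smul]
    · simp only [mem_filter, mem_univ, true_and, mem_stabilizer_iff] at hb ⊢
      rw [mul_smul, hb, hh]
  refine Nat.eq_of_mul_eq_mul_right (Nat.card_pos (α := X)) ?_
  simp only [Nat.card_eq_fintype_card (α := {z : X // _}), Fintype.card_subtype, card_filter]
  rw [sum_comm, sum_mul]
  simp only [← card_filter, h1]
  rw [sum_const, card_univ, smul_eq_mul, ← Nat.card_eq_fintype_card, mul_comm]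

variable (X) in
/-- Number of fixed points. -/
noncomputable def fx (g : G) : ℕ := Nat.card (fixedBy X g)

variable (X) in
/-- Number of points in cycles of length two. -/
noncomputable def tw (g : G) : ℕ := Nat.card {x : X // g • x ≠ x ∧ g • g • x = x}

theorem card_fix_emb (k : ℕ) (g : G) : Nat.card {z : Fin k ↪ X // g • z = z} = (fx X g).descFactorial k := by
  classical
  have := Fintype.ofFinite X
  have := Fintype.ofFinite (fixedBy X g)
  have e : {z : Fin k ↪ X // g • z = z} ≃ (Fin k ↪ fixedBy X g) :=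
    { toFun := fun z => ⟨fun i => ⟨z.1 i, DFunLike.congr_fun z.2 i⟩, fun i j h => z.1.injective (congrArg Subtype.val h)⟩
      invFun := fun z => ⟨z.trans (Function.Embedding.subtype _), by ext i; exact (z i).2⟩
      left_inv := fun z => rfl
      right_inv := fun z => rfl }
  rw [Nat.card_congr e, Nat.card_eq_fintype_card, Fintype.card_embedding_eq, Fintype.card_fin, fx,
    Nat.card_eq_fintype_card]

theorem card_swap_two (g : G) :
    Nat.card {z : Fin 2 ↪ X // g • z = (Equiv.swap 0 1).toEmbedding.trans z} = tw X g := by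
  refine Nat.card_congr
    { toFun := fun z => ⟨z.1 0, ?_⟩
      invFun := fun x => ⟨⟨![x.1, g • x.1], ?_⟩, ?_⟩
      left_inv := fun z => ?_
      right_inv := fun z => rfl }
  · have h0 : g • z.1 0 = z.1 1 := DFunLike.congr_fun z.2 0
    have h1 : g • z.1 1 = z.1 0 := DFunLike.congr_fun z.2 1
    exact ⟨h0 ▸ z.1.injective.ne (by decide), by rw [h0, h1]⟩
  · have := x.2.1
    intro i j
    fin_cases i <;> fin_cases j <;> simp [this, this.symm]
  · ext i
    fin_cases i
    · rfl
    · exact x.2.2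
  · ext i
    fin_cases i
    · rfl
    · exact DFunLike.congr_fun z.2 0

theorem card_swap_three (g : G) :
    Nat.card {z : Fin 3 ↪ X // g • z = (Equiv.swap 0 1).toEmbedding.trans z} = tw X g * fx X g := by
  rw [tw, fx, ← Nat.card_prod]
  refine Nat.card_congr
    { toFun := fun z => (⟨z.1 0, ?_⟩, ⟨z.1 2, DFunLike.congr_fun z.2 2⟩)
      invFun := fun x => ⟨⟨![x.1.1, g • x.1.1, x.2.1], ?_⟩, ?_⟩
      left_inv := fun z => ?_
      right_inv := fun z => rfl }
  · have h0 : g • z.1 0 = z.1 1 := DFunLike.congr_fun z.2 0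
    have h1 : g • z.1 1 = z.1 0 := DFunLike.congr_fun z.2 1
    exact ⟨h0 ▸ z.1.injective.ne (by decide), by rw [h0, h1]⟩
  · have h1 := x.1.2.1
    have h0 : g • x.2.1 = x.2.1 := x.2.2
    have h2 : x.1.1 ≠ x.2.1 := fun e => h1 (by rw [e, h0])
    have h3 : g • x.1.1 ≠ x.2.1 := fun e => h2 (smul_left_cancel g (e.trans h0.symm))
    intro i j
    fin_cases i <;> fin_cases j <;> simp [h1, h2, h3, h1.symm, h2.symm, h3.symm]
  · ext i
    fin_cases i
    · rfl
    · exact x.1.2.2
    · exact x.2.2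
  · ext i
    fin_cases i
    · rfl
    · exact DFunLike.congr_fun z.2 0
    · rfl

theorem charOn_avg {C : Type*} [Group C] [Fintype C] {φ : G × C → ℂ} (h : IsCharacter (G × C) φ) :
    CharOn ⊤ fun g : G => (Nat.card C : ℂ)⁻¹ * ∑ c, φ (g, c) := by
  classical
  let N : Subgroup (G × C) := (MonoidHom.inr G C).range
  have hN : Nrm ⊤ N := by
    rintro g - _ ⟨c, rfl⟩
    exact ⟨g.2 * c * g.2⁻¹, by ext <;> simp⟩
  have h1 := charOn_top.2 h
  have h2 : CharOn ⊤ (∑ β ∈ IrrKer ⊤ N, (mult ⊤ φ β : ℂ) • β) :=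
    charOn_sum _ fun β hβ => (irrOn_of_mem (IrrKer_subset hβ)).charOn.smul _
  refine (h2.comp (MonoidHom.inl G C) fun _ _ => trivial).congr fun g _ => ?_
  have := h1.classOn.avg_coset le_top hN (Subgroup.mem_top (g, 1))
  rw [Function.comp_apply, Finset.sum_apply]
  refine Eq.trans (sum_congr rfl fun β hβ => ?_) (this.symm.trans ?_)
  · rw [h1.dot_eq_mult (irrOn_of_mem (IrrKer_subset hβ)).charOn]; rfl
  have hi : Function.Injective (MonoidHom.inr G C) := fun a b e => congrArg Prod.snd e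
  rw [← Nat.card_congr (MonoidHom.ofInjective hi).toEquiv]
  congr 1
  refine (sum_bij (fun c _ => ((1 : G), c)) (fun c _ => mem_elems.2 (MonoidHom.mem_range.2 ⟨c, rfl⟩)) (fun a _ b _ e => congrArg Prod.snd e)
    (fun b hb => ?_) fun c _ => by simp).symm
  obtain ⟨c, rfl⟩ := mem_elems.1 hb
  exact ⟨c, mem_univ _, rfl⟩

theorem charOn_pairs : (CharOn ⊤ fun g : G => ((fx X g : ℂ) * (fx X g - 1) + tw X g) / 2) ∧
    CharOn ⊤ fun g : G => ((fx X g : ℂ) * (fx X g - 1) - tw X g) / 2 := by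
  let _ : MulAction (G × Equiv.Perm (Fin 2)) (Fin 2 ↪ X) :=
    { smul := fun g z => g.1 • g.2.symm.toEmbedding.trans z
      one_smul := fun z => by ext i; exact one_smul G _
      mul_smul := fun a b z => by ext i; exact mul_smul _ _ _ }
  have h := isCharacter_fixedBy (G := G × Equiv.Perm (Fin 2)) (Fin 2 ↪ X)
  have e1 : ∀ g : G, (Nat.card (fixedBy (Fin 2 ↪ X) (g, (1 : Equiv.Perm (Fin 2)))) : ℂ) =
      (fx X g : ℂ) * (fx X g - 1) := fun g => by
    rw [show Nat.card (fixedBy (Fin 2 ↪ X) (g, (1 : Equiv.Perm (Fin 2)))) = _ from card_fix_emb 2 g,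
      Nat.cast_descFactorial_two]
  have e2 : ∀ g : G, Nat.card (fixedBy (Fin 2 ↪ X) (g, (Equiv.swap 0 1 : Equiv.Perm (Fin 2)))) = tw X g := fun g => by
    rw [← card_swap_two]
    refine Nat.card_congr (Equiv.subtypeEquivRight fun z => ⟨fun h => ?_, fun h => ?_⟩)
    · ext i
      fin_cases i
      exacts [DFunLike.congr_fun h 1, DFunLike.congr_fun h 0]
    · ext i
      fin_cases i
      exacts [DFunLike.congr_fun h 1, DFunLike.congr_fun h 0]
  have hu : (univ : Finset (Equiv.Perm (Fin 2))) = {1, Equiv.swap 0 1} := by decide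
  have hc : (Nat.card (Equiv.Perm (Fin 2)) : ℂ) = 2 := by rw [Nat.card_perm]; simp
  constructor
  · refine (charOn_avg h).congr fun g _ => ?_
    rw [hu, sum_pair (by decide), e1, e2, hc]; ring
  · have hs : LinOn (⊤ : Subgroup (G × Equiv.Perm (Fin 2))) fun x => ((Equiv.Perm.sign x.2 : ℤ) : ℂ) :=
      linOn_of_map_mul (by simp) fun x _ y _ => by simp
    refine (charOn_avg (charOn_top.1 ((charOn_top.2 h).mul hs.charOn))).congr fun g _ => ?_
    rw [hu, sum_pair (by decide), Pi.mul_apply, Pi.mul_apply, e1, e2, hc]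
    simp
    ring

theorem irr_of_four [IsMultiplyPretransitive G X 4] (hX : 4 ≤ Nat.card X) :
    (IsIrrCharacter G fun g => (fx X g : ℂ) - 1) ∧
    (IsIrrCharacter G fun g => ((fx X g : ℂ) * (fx X g - 1) + tw X g) / 2 - fx X g) ∧
    IsIrrCharacter G fun g => ((fx X g : ℂ) * (fx X g - 1) - tw X g) / 2 - (fx X g - 1) := by
  classical
  have := Fintype.ofFinite G
  have := Fintype.ofFinite X
  have key : ∀ k ≤ 4, ∀ f : (Fin k ↪ X) → Fin k ↪ X,
      ∑ g : G, (Nat.card {z : Fin k ↪ X // g • z = f z} : ℂ) = Nat.card G := fun k hk f => by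
    have : IsPretransitive G (Fin k ↪ X) := isMultiplyPretransitive_of_le hk hX
    have : Nonempty (Fin k ↪ X) := Function.Embedding.nonempty_of_card_le (by
      rw [Fintype.card_fin, ← Nat.card_eq_fintype_card]; omega)
    exact_mod_cast sum_card_smul_eq (G := G) f
  have cd : ∀ a k : ℕ, (a.descFactorial k : ℂ) = ∏ i ∈ Finset.range k, ((a : ℂ) - i) := fun a k => by
    rw [← descPochhammer_eval_eq_descFactorial, descPochhammer_eval_eq_prod_range]
  have s1 := key 1 (by norm_num) id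
  have s2 := key 2 (by norm_num) id
  have s3 := key 3 (by norm_num) id
  have s4 := key 4 (by norm_num) id
  have s5 := key 2 (by norm_num) fun z => (Equiv.swap 0 1).toEmbedding.trans z
  have s6 := key 3 (by norm_num) fun z => (Equiv.swap 0 1).toEmbedding.trans z
  simp only [id, card_fix_emb, cd, prod_range_succ, card_swap_two, card_swap_three, Nat.cast_mul] at s1 s2 s3 s4 s5 s6
  have hG := Lib.Char.card_ne_zero G
  have E : ∀ (φ ψ : G → ℂ) (c0 c1 c2 c3 c4 c5 c6 : ℂ) (n : ℕ), (∀ g, ∀ a b : ℕ, a = fx X g → b = tw X g →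
      φ g * (starRingEnd ℂ) (ψ g) = c0 + c1 * a + c2 * (a * (a - 1)) + c3 * (a * (a - 1) * (a - 2)) +
        c4 * (a * (a - 1) * (a - 2) * (a - 3)) + c5 * b + c6 * (b * a)) → c0 + c1 + c2 + c3 + c4 + c5 + c6 = n →
      dot ⊤ φ ψ = n := fun φ ψ c0 c1 c2 c3 c4 c5 c6 n h hn => by
    rw [dot, elems_top, Subgroup.card_top, sum_congr rfl fun g _ => h g _ _ rfl rfl, inv_mul_eq_iff_eq_mul₀ hG, ← hn]
    simp only [sum_add_distrib, ← mul_sum, sum_const, card_univ, ← Nat.card_eq_fintype_card, nsmul_eq_mul]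
    simp only [prod_range_zero, one_mul, Nat.cast_zero, sub_zero, Nat.cast_one, Nat.cast_ofNat] at s1 s2 s3 s4
    rw [s1, s2, s3, s4, s5, s6]; ring
  have a1 : (fx X (1 : G) : ℂ) = Nat.card X := by simp [fx]
  have b1 : (tw X (1 : G) : ℂ) = 0 := by simp [tw]
  have c0 : CharOn ⊤ fun g : G => (fx X g : ℂ) := charOn_top.2 (isCharacter_fixedBy X)
  have c1 : CharOn ⊤ ((fun g : G => (fx X g : ℂ)) - 1) := c0.sub_irr (irrOn_one _) (by
    rw [E _ _ 0 1 0 0 0 0 0 1 (fun g a b ha hb => by simp [ha]) (by simp)]; simp)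
  have i1 : IrrOn ⊤ ((fun g : G => (fx X g : ℂ)) - 1) := c1.irrOn_of_dot_self (by
    rw [E _ _ 1 (-1) 1 0 0 0 0 1 (fun g a b ha hb => by simp [← ha]; ring) (by simp)]; simp)
  obtain ⟨p1, p2⟩ := charOn_pairs (G := G) (X := X)
  have q1 := (p1.sub_irr (irrOn_one _) (by
    rw [E _ _ 0 0 (1 / 2) 0 0 (1 / 2) 0 1 (fun g a b ha hb => by simp [← ha, ← hb]; ring) (by norm_num)]
    simp)).sub_irr i1 (by
    rw [E _ _ 1 (-1) (1 / 2) (1 / 2) 0 (-1 / 2) (1 / 2) 1 (fun g a b ha hb => by simp [← ha, ← hb]; ring) (by norm_num)]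
    simp)
  have q2 := p2.sub_irr i1 (by
    rw [E _ _ 0 0 (1 / 2) (1 / 2) 0 (1 / 2) (-1 / 2) 1 (fun g a b ha hb => by simp [← ha, ← hb]; ring) (by norm_num)]
    simp)
  have e := (q1.add q2).dot_eq_mult (q1.add q2)
  have e' := e
  rw [E _ _ 1 0 0 0 1 0 0 2 (fun g a b ha hb => by simp [← ha, ← hb, map_ofNat]; ring) (by norm_num)] at e'
  rw [← e', dot_add_left, dot_add_right, dot_add_right, q1.dot_eq_mult q1, q1.dot_eq_mult q2, q2.dot_eq_mult q1,
    q2.dot_eq_mult q2] at e
  have h4 : (4 : ℝ) ≤ Nat.card X := by exact_mod_cast hX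
  have n1 := (q1.mult_ne_zero q1).2 fun h => by
    have := dot_self_eq_zero.1 h 1 trivial
    simp only [Pi.sub_apply, Pi.one_apply, a1, b1] at this
    have : ((Nat.card X : ℝ) * (Nat.card X - 1) + 0) / 2 - 1 - (Nat.card X - 1) = 0 := by exact_mod_cast this
    nlinarith
  have n2 := (q2.mult_ne_zero q2).2 fun h => by
    have := dot_self_eq_zero.1 h 1 trivial
    simp only [Pi.sub_apply, Pi.one_apply, a1, b1] at this
    have : ((Nat.card X : ℝ) * (Nat.card X - 1) - 0) / 2 - (Nat.card X - 1) = 0 := by exact_mod_cast this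
    nlinarith
  rw [← Nat.cast_add, ← Nat.cast_add, ← Nat.cast_add, Nat.cast_inj] at e
  refine ⟨irrOn_top.1 i1, irrOn_top.1 ((q1.irrOn_of_dot_self ?_).congr fun g _ => by simp), irrOn_top.1
    (q2.irrOn_of_dot_self ?_)⟩
  · rw [q1.dot_eq_mult q1, Nat.cast_eq_one]; omega
  · rw [q2.dot_eq_mult q2, Nat.cast_eq_one]; omega

end Cfsg.Lib.Clifford
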