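import Cfsg.Agent.Lib.Clifford.Count
import Cfsg.Agent.Lib.Core.Nilpotent

/-! Gagola characters: irreducible characters that are nonzero on exactly two conjugacy classes. -/

set_option autoImplicit false
open scoped ComplexConjugate
open Cfsg Cfsg.Lib.Char Finset

namespace Cfsg.Lib.Clifford

variable {G : Type*} [Group G] [Finite G]

/-- `χ` is a nonprincipal irreducible character that is nonzero exactly at `1` and on the class of `x`. -/
structure Gag (χ : G → ℂ) (x : G) : Prop where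
  irr : IsIrrCharacter G χ
  ne : x ≠ 1
  iff : ∀ g, χ g ≠ 0 ↔ g = 1 ∨ IsConj x g
  ne_one : χ ≠ fun _ => 1

theorem exists_gag (hG : 2 < Nat.card G) {χ : G → ℂ} (hχ : IsIrrCharacter G χ)
    (h : Nat.card {C : ConjClasses G // ∃ g ∈ C.carrier, χ g ≠ 0} = 2) : ∃ x, Gag χ x := by
  classical
  let m : ∀ g : G, χ g ≠ 0 → {C : ConjClasses G // ∃ g ∈ C.carrier, χ g ≠ 0} :=
    fun g hg => ⟨ConjClasses.mk g, g, ConjClasses.mem_carrier_mk, hg⟩
  obtain ⟨⟨C, x, hx, hx0⟩, hne, hu⟩ := (Nat.card_eq_two_iff' (m 1 hχ.apply_one_ne_zero)).1 h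
  obtain rfl := ConjClasses.mem_carrier_iff_mk_eq.1 hx
  have hx1 : x ≠ 1 := fun e => hne (by subst e; rfl)
  have hiff : ∀ g, χ g ≠ 0 ↔ g = 1 ∨ IsConj x g := fun g => by
    constructor
    · intro hg
      by_cases e : m g hg = m 1 hχ.apply_one_ne_zero
      · exact Or.inl (isConj_one_left.1 (ConjClasses.mk_eq_mk_iff_isConj.1 (congrArg Subtype.val e)))
      · exact Or.inr (ConjClasses.mk_eq_mk_iff_isConj.1 (congrArg Subtype.val (hu _ e))).symm
    · rintro (rfl | hg)
      · exact hχ.apply_one_ne_zero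
      · rwa [← hχ.isClassFunction.eq_of_isConj hg]
  refine ⟨x, hχ, hx1, hiff, fun e => ?_⟩
  have := Fintype.ofFinite G
  have h1 := card_filter_isConj x
  have h2 : univ.filter (IsConj x) = univ.erase 1 := by
    ext g
    simp only [mem_filter, mem_univ, true_and, mem_erase, and_true]
    refine ⟨fun hg e => hx1 (isConj_one_left.1 (e ▸ hg)), fun hg => ?_⟩
    exact ((hiff g).1 (by rw [e]; simp)).resolve_left hg
  rw [h2, card_erase_of_mem (mem_univ _), card_univ, ← Nat.card_eq_fintype_card] at h1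
  have h3 : Nat.card G - 1 ∣ Nat.card G := h1 ▸ Subgroup.index_dvd_card _
  have h4 : Nat.card G - 1 ∣ 1 := by
    have := Nat.dvd_sub h3 (dvd_refl (Nat.card G - 1))
    rwa [show Nat.card G - (Nat.card G - 1) = 1 by omega] at this
  have := Nat.dvd_one.1 h4
  omega

namespace Gag

variable {χ ψ : G → ℂ} {x : G} (h : Gag χ x)
include h

theorem sum_eq [Fintype G] {f : G → ℂ} (hf : IsClassFunction G f) (h0 : ∀ g, χ g = 0 → f g = 0) :
    ∑ g, f g = f 1 + (Subgroup.centralizer ({x} : Set G)).index * f x := by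
  classical
  rw [← hf.sum_filter_isConj, ← sum_insert (s := univ.filter (IsConj x)) (a := 1) (f := f)
    (fun e => h.ne (isConj_one_left.1 (mem_filter.1 e).2))]
  refine (sum_subset (subset_univ _) fun g _ hg => h0 g ?_).symm
  by_contra e
  exact hg (by simpa using (h.iff g).1 e)

theorem val : χ 1 + (Subgroup.centralizer ({x} : Set G)).index * χ x = 0 := by
  have := Fintype.ofFinite G
  rw [← h.sum_eq h.irr.isClassFunction fun _ e => e, h.irr.sum_eq_zero h.ne_one]

theorem apply_eq (hψ : IsIrrCharacter G ψ) (hne : ψ ≠ χ) : ψ x = ψ 1 := by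
  have := Fintype.ofFinite G
  have h1 := card_mul_classInner ψ χ
  rw [hψ.classInner_of_ne h.irr hne, mul_zero,
    h.sum_eq (f := fun g => ψ g * conj (χ g)) (hψ.isClassFunction.mul h.irr.isClassFunction.conj)
      fun g e => by simp [e]] at h1
  have h2 := congrArg conj h.val
  simp only [map_add, map_mul, map_natCast, map_zero] at h2
  have h3 : conj (χ 1) ≠ 0 := by simpa using h.irr.apply_one_ne_zero
  apply mul_right_cancel₀ h3
  linear_combination h1 + ψ x * h2

theorem faithful {g : G} (e : χ g = χ 1) : g = 1 := by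
  by_contra hg
  have h1 := ((h.iff g).1 (e ▸ h.irr.apply_one_ne_zero)).resolve_left hg
  have h2 := h.val
  rw [h.irr.isClassFunction.eq_of_isConj h1, e, ← one_add_mul, mul_eq_zero,
    or_iff_left h.irr.apply_one_ne_zero] at h2
  norm_cast at h2
  omega

theorem eq_of_faithful (hψ : IsIrrCharacter G ψ) (hf : ∀ g, ψ g = ψ 1 → g = 1) : ψ = χ := by
  by_contra hne
  exact h.ne (hf x (h.apply_eq hψ hne))

theorem exists_subgroup : ∃ N : Subgroup G, N.Normal ∧ ∀ g, g ∈ N ↔ χ g ≠ 0 := by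
  classical
  refine ⟨⨅ ψ : {ψ : IrrCharacter G // ψ.1 ≠ χ}, charKer ψ.1.1,
    Subgroup.normal_iInf_normal fun ψ => ψ.1.2.charKer_normal, fun g => ?_⟩
  rw [Subgroup.mem_iInf]
  constructor
  · intro hg e
    have hg1 : g ≠ 1 := fun e' => h.irr.apply_one_ne_zero (e' ▸ e)
    have h1 := sum_degree_mul_apply g
    rw [regChar_of_ne hg1, ← add_sum_erase _ _ (mem_univ (⟨χ, h.irr⟩ : IrrCharacter G))] at h1
    simp only [e, mul_zero, zero_add] at h1
    rw [sum_congr rfl (g := fun ψ : IrrCharacter G => ((charDegree ψ.1 ^ 2 : ℕ) : ℂ)) fun ψ hψ => by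
      rw [ψ.2.mem_charKer.1 (hg ⟨ψ, fun e => (mem_erase.1 hψ).1 (Subtype.ext e)⟩),
        (irrOn_top.2 ψ.2).one_eq]; push_cast; ring, ← Nat.cast_sum, Nat.cast_eq_zero,
      sum_eq_zero_iff] at h1
    have := h1 (principalIrr G) (mem_erase.2 ⟨fun e => h.ne_one (congrArg Subtype.val e).symm, mem_univ _⟩)
    exact (pow_pos (irrOn_top.2 (principalIrr G).2).deg_pos 2).ne' this
  · intro hg ψ
    rcases (h.iff g).1 hg with rfl | hc
    · exact one_mem _
    · rw [ψ.1.2.mem_charKer, ← ψ.1.2.isClassFunction.eq_of_isConj hc, h.apply_eq ψ.1.2 ψ.2]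

variable {N : Subgroup G} (hN : ∀ g, g ∈ N ↔ χ g ≠ 0)
include hN

theorem mem : x ∈ N := (hN x).2 ((h.iff x).2 (Or.inr (IsConj.refl x)))

theorem isConj {g : G} (hg : g ∈ N) (h1 : g ≠ 1) : IsConj x g :=
  ((h.iff g).1 ((hN g).1 hg)).resolve_left h1

theorem le_charKer (hψ : IsIrrCharacter G ψ) (hne : ψ ≠ χ) : N ≤ charKer ψ := fun g hg => by
  by_cases h1 : g = 1
  · exact h1 ▸ one_mem _
  · rw [hψ.mem_charKer, ← hψ.isClassFunction.eq_of_isConj (h.isConj hN hg h1), h.apply_eq hψ hne]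

theorem le_of_normal (K : Subgroup G) [hK : K.Normal] (h0 : K ≠ ⊥) : N ≤ K := by
  classical
  obtain ⟨⟨k, hk⟩, hk1⟩ := Subgroup.ne_bot_iff_exists_ne_one.1 h0
  have h1 := (irrOn_top.2 h.irr).sum_coset_eq_zero le_top (nrm_of_normal ⊤ K)
    (fun ht => hk1 (Subtype.ext (h.faithful (ht k hk)))) (Subgroup.mem_top 1)
  obtain ⟨y, hy, hy1, hy0⟩ : ∃ y ∈ K, y ≠ 1 ∧ χ y ≠ 0 := by
    by_contra hc
    push Not at hc
    rw [sum_eq_single_of_mem 1 (mem_elems.2 K.one_mem) fun y hy hy1 => by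
      rw [mul_one]; exact hc y (mem_elems.1 hy) hy1, mul_one] at h1
    exact h.irr.apply_one_ne_zero h1
  intro g hg
  by_cases h1 : g = 1
  · exact h1 ▸ one_mem _
  · obtain ⟨c, rfl⟩ := isConj_iff.1 ((((h.iff y).1 hy0).resolve_left hy1).symm.trans (h.isConj hN hg h1))
    exact hK.conj_mem _ hy c

theorem exists_prime [N.Normal] : ∃ p : ℕ, p.Prime ∧ IsElementaryAbelian p N := by
  have hN0 : N ≠ ⊥ := fun e => h.ne (Subgroup.mem_bot.1 (e ▸ h.mem hN))
  obtain ⟨p, hp, hd⟩ := Nat.exists_prime_and_dvd (Subgroup.card_eq_one.not.2 hN0)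
  have := Fact.mk hp
  obtain ⟨y, hy⟩ := exists_prime_orderOf_dvd_card' (G := N) p hd
  have hy' : orderOf (y : G) = p := by rw [Subgroup.orderOf_coe, hy]
  have hy1 : (y : G) ≠ 1 := fun e => by rw [e, orderOf_one] at hy'; exact hp.one_lt.ne hy'
  have hpow : ∀ a ∈ N, a ^ p = 1 := fun a ha => by
    by_cases h1 : a = 1
    · simp [h1]
    · obtain ⟨c, rfl⟩ := isConj_iff.1 ((h.isConj hN y.2 hy1).symm.trans (h.isConj hN ha h1))
      rw [conj_pow, ← hy', pow_orderOf_eq_one]; simp
  have hP : IsPGroup p N := fun a => ⟨1, Subtype.ext (by simpa using hpow a a.2)⟩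
  refine ⟨p, hp, ?_, hpow⟩
  have h1 := h.le_of_normal hN (N ⊓ Subgroup.centralizer N)
    (Core.inf_centralizer_ne_bot_of_isPGroup hP hP Subgroup.le_normalizer hN0)
  exact Subgroup.le_centralizer_iff_isMulCommutative.1 (h1.trans inf_le_right)

theorem index_centralizer : (Subgroup.centralizer ({x} : Set G)).index + 1 = Nat.card N := by
  classical
  have := Fintype.ofFinite G
  rw [← card_filter_isConj, ← card_elems,
    ← card_insert_of_notMem (a := 1) (fun e => h.ne (isConj_one_left.1 (mem_filter.1 e).2))]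
  congr 1
  ext g
  rw [mem_elems, hN, h.iff, mem_insert, mem_filter, and_iff_right (mem_univ _)]

theorem card_centralizer_quotient [N.Normal] {g : G} (hg : g ∉ N) :
    Nat.card (Subgroup.centralizer ({g} : Set G)) =
      Nat.card (Subgroup.centralizer ({(g : G ⧸ N)} : Set (G ⧸ N))) := by
  classical
  have h1 := sum_norm_sq_eq_card_centralizer g
  have h2 := sum_norm_sq_eq_card_centralizer (g : G ⧸ N)
  rw [← Nat.cast_inj (R := ℝ), ← h1, ← h2, ← add_sum_erase _ _ (mem_univ (⟨χ, h.irr⟩ : IrrCharacter G))]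
  have h0 : χ g = 0 := by by_contra e; exact hg ((hN g).2 e)
  simp only [h0, norm_zero, ne_eq, OfNat.ofNat_ne_zero, not_false_eq_true, zero_pow, zero_add]
  rw [← (irrQuotientEquiv N).symm.sum_comp,
    sum_subtype (p := fun ψ : IrrCharacter G => N ≤ charKer ψ.1) (univ.erase ⟨χ, h.irr⟩)]
  · refine sum_congr rfl fun ψ _ => ?_
    rw [← irrQuotientEquiv_apply, Equiv.apply_symm_apply]
  · intro ψ
    simp only [mem_erase, mem_univ, and_true]
    refine ⟨fun e => h.le_charKer hN ψ.2 fun e' => e (Subtype.ext e'), fun hle e => ?_⟩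
    subst e
    exact h.ne (h.faithful (h.irr.mem_charKer.1 (hle (h.mem hN))))

/-- `|C(x)| = |N| χ(x)²`. -/
theorem card_centralizer : (Nat.card (Subgroup.centralizer ({x} : Set G)) : ℂ) = Nat.card N * χ x ^ 2 := by
  have := Fintype.ofFinite G
  have h1 := card_mul_classInner χ χ
  rw [h.irr.classInner_self, mul_one,
    h.sum_eq (f := fun g => χ g * conj (χ g)) (h.irr.isClassFunction.mul h.irr.isClassFunction.conj)
      fun g e => by simp [e]] at h1
  have h2 := h.val
  have hn : ((Subgroup.centralizer ({x} : Set G)).index : ℂ) ≠ 0 :=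
    Nat.cast_ne_zero.2 Subgroup.index_ne_zero_of_finite
  have h3 : conj (χ 1) = χ 1 := by rw [(irrOn_top.2 h.irr).one_eq]; simp
  have h4 : conj (χ x) = χ x := by
    have := congrArg conj h2
    simp only [map_add, map_mul, map_natCast, map_zero, h3] at this
    exact mul_left_cancel₀ hn (by linear_combination this - h2)
  rw [h3, h4, ← (Subgroup.centralizer ({x} : Set G)).index_mul_card] at h1
  rw [← h.index_centralizer hN]
  apply mul_left_cancel₀ hn
  push_cast at h1 ⊢
  linear_combination h1 + (χ 1 - (Subgroup.centralizer ({x} : Set G)).index * χ x) * h2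

theorem isPGroup_centralizer {p : ℕ} [hp : Fact p.Prime] (hNp : IsPGroup p N) :
    IsPGroup p (Subgroup.centralizer ({x} : Set G)) := by
  classical
  obtain ⟨e, he⟩ : ∃ e : ℤ, χ x = e := exists_int_of_isIntegral_of_rat (h.irr.isCharacter.isIntegral x)
    ⟨-(charDegree χ : ℚ) / (Subgroup.centralizer ({x} : Set G)).index, by
      have hn : ((Subgroup.centralizer ({x} : Set G)).index : ℂ) ≠ 0 :=
        Nat.cast_ne_zero.2 Subgroup.index_ne_zero_of_finite
      have := h.val
      rw [(irrOn_top.2 h.irr).one_eq] at this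
      push_cast
      rw [eq_div_iff hn]; linear_combination this⟩
  obtain ⟨a, ha⟩ := hNp.exists_card_eq
  have hc : Nat.card (Subgroup.centralizer ({x} : Set G)) = p ^ a * e.natAbs ^ 2 := by
    have := h.card_centralizer hN
    rw [he, ha] at this
    have h2 : (Nat.card (Subgroup.centralizer ({x} : Set G)) : ℤ) = p ^ a * e ^ 2 := by
      exact_mod_cast this
    zify
    rw [h2, sq_abs]
  have he0 : e.natAbs ≠ 0 := fun e0 => by
    rw [e0] at hc; exact Nat.card_pos.ne' (by simpa using hc)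
  refine IsPGroup.of_card (Nat.eq_prime_pow_of_unique_prime_dvd Nat.card_pos.ne' fun {q} hq hd => ?_)
  by_contra hqp
  have := Fact.mk hq
  obtain ⟨S⟩ : Nonempty (Sylow q (Subgroup.centralizer ({x} : Set G))) := inferInstance
  set Q := (S : Subgroup _).map (Subgroup.centralizer ({x} : Set G)).subtype with hQ
  have hQc : Nat.card Q = q ^ (2 * e.natAbs.factorization q) := by
    rw [hQ, Core.card_map_subtype, S.card_eq_multiplicity, hc,
      Nat.factorization_mul (pow_ne_zero _ hp.out.ne_zero) (pow_ne_zero _ he0), Nat.factorization_pow,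
      Nat.factorization_pow]
    simp [hp.out.factorization, Finsupp.single_apply, Ne.symm hqp]
  have hQx : ∀ y ∈ Q, y * x = x * y := fun y hy => by
    obtain ⟨z, -, rfl⟩ := hy
    exact Subgroup.mem_centralizer_singleton_iff.1 z.2
  have hx : x ∈ Subgroup.normalizer (Q : Set G) :=
    Core.mem_normalizer_of_conj_mem fun y hy => by rwa [← hQx y hy, mul_inv_cancel_right]
  have hχ : CharOn (Subgroup.normalizer (Q : Set G)) χ := (irrOn_top.2 h.irr).charOn.mono le_top
  have h1 := hχ.classOn.avg_coset Subgroup.le_normalizer (nrm_of_le_normalizer le_rfl) hx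
  rw [sum_eq_single_of_mem 1 (mem_elems.2 Q.one_mem) fun y hy hy1 => by
    by_contra e0
    have h2 := (N.mul_mem_cancel_right (h.mem hN)).1 ((hN _).2 e0)
    have h3 := IsPGroup.disjoint_of_ne q p hqp Q N (S.2.map _) hNp
    exact hy1 (Subgroup.disjoint_def.1 h3 (mem_elems.1 hy) h2), one_mul, he] at h1
  have h2 : IsIntegral ℤ ((e : ℂ) / ((Nat.card Q : ℤ) : ℂ)) := by
    rw [div_eq_inv_mul, Int.cast_natCast, h1]
    refine IsIntegral.sum _ fun β hβ => ?_
    have hβ := irrOn_of_mem (IrrKer_subset hβ)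
    rw [hχ.dot_eq_mult hβ.charOn]
    exact (isIntegral_natCast _).mul (hβ.genOn.isIntegral hx)
  have h3 := Int.natCast_dvd.1 (int_dvd_of_isIntegral_div (by exact_mod_cast Nat.card_pos.ne') h2)
  rw [hQc, hq.pow_dvd_iff_le_factorization he0] at h3
  have h4 : e.natAbs.factorization q = 0 := by omega
  rw [hc, hq.dvd_mul] at hd
  rcases hd with hd | hd
  · exact hqp ((Nat.prime_dvd_prime_iff_eq hq hp.out).1 (hq.dvd_of_dvd_pow hd))
  · exact (hq.factorization_pos_of_dvd he0 (hq.dvd_of_dvd_pow hd)).ne' h4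

theorem not_dvd_index {p : ℕ} [hp : Fact p.Prime] (hNp : IsPGroup p N) :
    ¬ p ∣ (Subgroup.centralizer ({x} : Set G)).index := fun hd => by
  have hN0 : N ≠ ⊥ := fun e => h.ne (Subgroup.mem_bot.1 (e ▸ h.mem hN))
  have h1 : p ∣ Nat.card N := by
    obtain ⟨a, ha⟩ := hNp.exists_card_eq
    rcases a with _ | a
    · exact absurd (Subgroup.card_eq_one.1 (by simpa using ha)) hN0
    · exact ha ▸ dvd_pow_self _ a.succ_ne_zero
  rw [← h.index_centralizer hN] at h1
  exact hp.out.one_lt.ne' (Nat.dvd_one.1 ((Nat.dvd_add_right hd).1 h1))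

theorem dot_ne_zero [N.Normal] {μ : G → ℂ} (hμ : μ ∈ Irr N) (h1 : μ ≠ cut N 1) : dot N χ μ ≠ 0 := by
  obtain ⟨ψ, hψ, hd⟩ := (irrOn_of_mem hμ).exists_over (K := ⊤) le_top
  by_cases e : ψ = χ
  · exact e ▸ hd
  · have ht := (irr_le_charKer_iff' hψ le_top).1 (h.le_charKer hN (mem_Irr_top.1 hψ) e)
    exact absurd ((irr_eq_one_iff_triv hμ).2 ((triv_iff_of_dot le_top le_rfl (nrm_of_normal ⊤ N)
      (irrOn_of_mem hψ) (irrOn_of_mem hμ) hd).1 ht)) h1

theorem index_inertia [N.Normal] {μ : G → ℂ} (hμ : μ ∈ Irr N) (h1 : μ ≠ cut N 1) :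
    (inertia ⊤ N μ).index = (Subgroup.centralizer ({x} : Set G)).index := by
  classical
  have hn := nrm_of_normal ⊤ N
  have h2 : orb ⊤ N μ = (Irr N).erase (cut N 1) := by
    ext ν
    rw [mem_erase]
    constructor
    · intro hν
      refine ⟨fun e => h1 ?_, orb_subset hn (irrOn_of_mem hμ) hν⟩
      have h3 := cut_mem_orb (K := ⊤) (N := N) (θ := μ)
      rw [← orb_eq_of_mem hn hν, e, orb_of_invOn hn ((invOn_one ⊤ N).cut' hn N), mem_singleton,
        cut_of_mem_Irr hμ, cut_of_mem_Irr (cut_one_mem N)] at h3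
      exact h3
    · rintro ⟨h3, hν⟩
      have := mem_orb_of_dot le_top hn (irrOn_top.2 h.irr) (irrOn_of_mem hμ) (irrOn_of_mem hν)
        (h.dot_ne_zero hN hμ h1) (h.dot_ne_zero hN hν h3)
      rwa [cut_of_mem_Irr hν] at this
  obtain ⟨p, -, hc, -⟩ := h.exists_prime hN
  have h3 : (Irr N).card = Nat.card N := by
    rw [← sum_deg_sq, card_eq_sum_ones]
    refine sum_congr rfl fun θ hθ => ?_
    rw [charDegree_of_eq (n := 1) (by
      rw [(irrOn_of_mem hθ).degree_one_of_comm fun a ha b hb =>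
        congrArg Subtype.val (mul_comm' (⟨a, ha⟩ : N) ⟨b, hb⟩)]; simp)]
    simp
  rw [← Subgroup.relIndex_top_right, ← card_orb, h2, card_erase_of_mem (cut_one_mem N), h3,
    ← h.index_centralizer hN, Nat.add_sub_cancel]

omit hN in
theorem of_isConj {y : G} (hy : IsConj x y) : Gag χ y :=
  ⟨h.irr, fun e => h.ne (isConj_one_left.1 (e ▸ hy)), fun g => by
    rw [h.iff]; exact or_congr_right ⟨fun e => hy.symm.trans e, fun e => hy.trans e⟩, h.ne_one⟩

end Gag

end Cfsg.Lib.Clifford
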