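import Cfsg.Agent.Lib.Clifford.Cd
import Cfsg.Agent.Lib.Clifford.Amb
import Cfsg.Agent.Lib.Clifford.Mono
import Cfsg.Agent.Lib.Core.Nilpotent

/-! Just non-abelian quotients of solvable groups and character degrees (Isaacs 12.3, 12.4). -/

set_option autoImplicit false

namespace Cfsg.Lib.Clifford

open Cfsg Cfsg.Lib.Char Subgroup Finset
open scoped ComplexConjugate commutatorElement

variable {Γ : Type*} [Group Γ] [Finite Γ] {H K N : Subgroup Γ} {φ ψ θ χ : Γ → ℂ}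

theorem just_core (hs : Group.IsSolvable Γ) (hn : commutator Γ ≠ ⊥)
    (h : ∀ M : Subgroup Γ, M.Normal → M ≠ ⊥ → commutator Γ ≤ M) :
    ∃ p : ℕ, p.Prime ∧ IsPGroup p (commutator Γ) ∧ ⁅commutator Γ, commutator Γ⁆ = ⊥ ∧
      (IsPGroup p Γ ∨ FrobKer ⊤ (commutator Γ) ∧ center Γ = ⊥) := by
  have hab : ⁅commutator Γ, commutator Γ⁆ = ⊥ := by_contra fun e =>
    (Group.IsSolvable.commutator_lt_of_ne_bot hn).not_ge (h _ inferInstance e)
  have hc : ∀ a ∈ commutator Γ, ∀ b ∈ commutator Γ, a * b = b * a := fun a ha b hb =>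
    commutatorElement_eq_one_iff_mul_comm.1 (mem_bot.1 (hab.le (commutator_mem_commutator ha hb)))
  obtain ⟨p, hp, -, k, -, hk⟩ := Chief.exists_prime (H := ⊤) ⟨bot_lt_iff_ne_bot.2 hn, le_top, nrm_of_normal _ _,
    nrm_of_normal _ _, fun M _ h1 h2 => or_iff_not_imp_left.2 fun e => h1.antisymm (h M h2.normal e)⟩ hab.le
  have := Fact.mk hp
  have hP : IsPGroup p (commutator Γ) := .of_card (by rwa [relIndex_bot_left] at hk)
  refine ⟨p, hp, hP, hab, or_iff_not_imp_right.2 fun hZ => ?_⟩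
  by_cases hz : center Γ = ⊥
  · refine (hZ ⟨?_, hz⟩).elim
    have hcm : ∀ g x : Γ, g * x * g⁻¹ * x⁻¹ ∈ commutator Γ := fun g x =>
      commutator_mem_commutator (mem_top g) (mem_top x)
    have key : ∀ x : Γ, (∃ n ∈ commutator Γ, n ≠ 1 ∧ x * n = n * x) → ∀ n ∈ commutator Γ, x * n = n * x := by
      rintro x ⟨n, h1, h2, h3⟩ m hm
      refine (mem_centralizer_singleton_iff.1 (h (commutator Γ ⊓ centralizer {x}) ⟨fun a ha g => ?_⟩
        (fun e => h2 (mem_bot.1 (e.le (mem_inf.2 ⟨h1, mem_centralizer_singleton_iff.2 h3.symm⟩)))) hm).2).symm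
      have h4 := Normal.conj_mem inferInstance _ ha.1 g
      refine mem_inf.2 ⟨h4, mem_centralizer_singleton_iff.2 ?_⟩
      have h5 := mem_centralizer_singleton_iff.1 ha.2
      have h6 := hc _ ha.1 _ (hcm g⁻¹ x)
      calc g * a * g⁻¹ * x = g * (a * (g⁻¹ * x * g⁻¹⁻¹ * x⁻¹) * x) * g⁻¹ := by group
        _ = g * ((g⁻¹ * x * g⁻¹⁻¹ * x⁻¹) * (a * x)) * g⁻¹ := by rw [h6]; group
        _ = _ := by rw [h5]; group
    obtain ⟨y, hy⟩ : ∃ y : Γ, ∀ n ∈ commutator Γ, y * n = n * y → n = 1 := by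
      by_contra! e
      exact hn (eq_bot_iff.2 fun n hn => hz.le (mem_center_iff.2 fun g => key g
        ((e g).imp fun m h => ⟨h.1, h.2.2, h.2.1⟩) n hn))
    have hd : ∀ g : Γ, ∃ n ∈ commutator Γ, ∃ c, c * y = y * c ∧ g = n * c := fun g => by
      obtain ⟨⟨n, h1⟩, e⟩ := (Finite.injective_iff_surjective (f := fun n : commutator Γ =>
        (⟨n * y * (n : Γ)⁻¹ * y⁻¹, hcm _ _⟩ : commutator Γ))).1 (fun a b e => by
          have e : a * y * (a : Γ)⁻¹ * y⁻¹ = b * y * (b : Γ)⁻¹ * y⁻¹ := congrArg Subtype.val e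
          refine Subtype.ext (eq_of_inv_mul_eq_one (hy _ (mul_mem (inv_mem a.2) b.2) ?_))
          calc y * ((a : Γ)⁻¹ * b) = (a : Γ)⁻¹ * (a * y * (a : Γ)⁻¹ * y⁻¹) * y * b := by group
            _ = _ := by rw [e]; group) ⟨_, hcm g y⟩
      have e : n * y * n⁻¹ * y⁻¹ = g * y * g⁻¹ * y⁻¹ := congrArg Subtype.val e
      refine ⟨n, h1, n⁻¹ * g, ?_, by group⟩
      calc n⁻¹ * g * y = n⁻¹ * (g * y * g⁻¹ * y⁻¹) * y * g := by group
        _ = _ := by rw [← e]; group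
    intro n h1 h2 x _ h3
    obtain ⟨m, h4, c, h5, rfl⟩ := hd x
    suffices c = 1 by rwa [this, mul_one]
    refine mem_bot.1 (hz.le (mem_center_iff.2 fun g => ?_))
    obtain ⟨a, h6, b, h7, rfl⟩ := hd g
    have h8 : c * a = a * c := mul_left_cancel (a := m) (by
      rw [← mul_assoc, key _ ⟨n, h1, h2, h3⟩ a h6, ← mul_assoc, ← mul_assoc, hc a h6 m h4])
    have h9 : b * c * b⁻¹ * c⁻¹ = 1 := hy _ (hcm b c) (((show Commute b y from h7).mul_left h5).mul_left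
      (show Commute b y from h7).inv_left |>.mul_left (show Commute c y from h5).inv_left).eq.symm
    rw [mul_inv_eq_one, mul_inv_eq_iff_eq_mul] at h9
    rw [mul_assoc, h9, ← mul_assoc, ← h8, mul_assoc]
  · have : IsMulCommutative (Γ ⧸ commutator Γ) := Normal.quotient_commutative_iff_commutator_le.2 le_rfl
    have := Core.isNilpotent_of_isMulCommutative (Γ ⧸ commutator Γ)
    have := Core.isNilpotent_of_le_center_of_quotient _ (h _ inferInstance hz)
    have h1 : pPrimeCore p Γ = ⊥ := by_contra fun e => hn (Core.eq_bot_of_isPGroup_of_coprime hp hP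
      (Core.coprime_of_le (Core.coprime_card_pPrimeCore p Γ) (h _ inferInstance e)))
    have h2 := Core.pCore_sup_pPrimeCore_of_nilpotent (G := Γ) hp
    rwa [h1, sup_bot_eq, Core.pCore_eq_top_iff] at h2

theorem exists_just (hs : Group.IsSolvable Γ) (hn : commutator Γ ≠ ⊥) :
    ∃ (p : ℕ) (K : Subgroup Γ), p.Prime ∧ K.Normal ∧ ¬ commutator Γ ≤ K ∧ ((∃ k, K.index = p ^ k) ∨
      ∃ N : Subgroup Γ, N.Normal ∧ K ≤ N ∧ commutator Γ ≤ N ∧ N ≠ ⊤ ∧ (∃ k, K.relIndex N = p ^ k) ∧ ⁅N, N⁆ ≤ K ∧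
        FrobKerQ ⊤ N K) := by
  obtain ⟨K, ⟨_, h1⟩, h2⟩ := (wellFounded_gt (α := Subgroup Γ)).has_min
    {K | K.Normal ∧ ¬ commutator Γ ≤ K} ⟨⊥, inferInstance, le_bot_iff.not.2 hn⟩
  have e : (commutator Γ).map (QuotientGroup.mk' K) = commutator (Γ ⧸ K) := by
    rw [map_commutator_eq, MonoidHom.range_eq_top.2 (QuotientGroup.mk'_surjective K)]; rfl
  have hn' : commutator (Γ ⧸ K) ≠ ⊥ := e ▸ (Core.map_mk'_eq_bot_iff _ _).not.2 h1
  obtain ⟨p, hp, h3, h4, h5⟩ := just_core (Γ := Γ ⧸ K) inferInstance hn' fun M _ hM => by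
    rw [← e, map_le_iff_le_comap]
    exact by_contra fun h => h2 _ ⟨inferInstance, h⟩ ((Core.le_comap_mk' K M).lt_of_ne fun e' => hM (by
      rw [← Core.map_comap_mk' K M, ← e', Core.map_mk'_eq_bot_iff]))
  have := Fact.mk hp
  refine ⟨p, K, hp, ‹_›, h1, h5.imp IsPGroup.iff_card.1 fun ⟨h6, h7⟩ => ⟨(commutator _).comap (QuotientGroup.mk' K),
    inferInstance, Core.le_comap_mk' _ _, map_le_iff_le_comap.1 e.le, fun h => hn' ?_,
    Core.relIndex_comap_mk' K _ ▸ IsPGroup.iff_card.1 h3, ?_, fun x _ y hy h8 h9 => h6 (y : Γ ⧸ K) hy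
      (mt (QuotientGroup.eq_one_iff _).1 h8) x trivial ?_⟩⟩
  · have : commutator (Γ ⧸ K) = ⊤ := by
      rw [← Core.map_comap_mk' K (commutator _), h, ← MonoidHom.range_eq_map,
        MonoidHom.range_eq_top.2 (QuotientGroup.mk'_surjective K)]
    rwa [this] at h4
  · rw [← Core.map_mk'_eq_bot_iff, Subgroup.map_commutator, Core.map_comap_mk', h4]
  · have := (QuotientGroup.eq_one_iff _).2 h9
    rwa [QuotientGroup.mk_mul, QuotientGroup.mk_mul, QuotientGroup.mk_mul, QuotientGroup.mk_inv, QuotientGroup.mk_inv,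
      mul_inv_eq_one, mul_inv_eq_iff_eq_mul] at this

/-- Isaacs 12.4 (the case of a degree prime to `p`). -/
theorem FrobKerQ.exists_deg [N.Normal] [K.Normal] (h : FrobKerQ ⊤ N K) (hKN : K < N) (hab : ⁅N, N⁆ ≤ K)
    (hψ : IrrOn N ψ) (hψK : IrrOn K ψ) : ∃ χ ∈ Irr (⊤ : Subgroup Γ), charDegree χ = N.index * charDegree ψ := by
  classical
  by_contra! hc
  have hN := nrm_of_normal ⊤ N
  have hK := nrm_of_normal N K
  have hl : ∀ l ∈ IrrKer N K, LinOn N l := fun l h => linOn_of_mem_IrrKer hab h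
  have : ∀ l ∈ IrrKer N K, ∃ x ∈ inertia ⊤ N (l * ψ), x ∉ N := fun l h => by
    by_contra! e
    have h1 := hψ.lin_mul (hl l h)
    refine hc _ (mem_Irr_top.2 (irrOn_top.1 ((irrOn_ind_iff le_top hN h1).2 e))) ?_
    rw [h1.charOn.deg_ind le_top, relIndex_top_right]
    exact congrArg _ (charDegree_of_eq (by rw [Pi.mul_apply, (hl l h).2, one_mul, hψ.one_eq]))
  choose! x h1 h2 using this
  have := Fintype.ofFinite (Γ ⧸ N)
  have h3 := card_le_card_of_injOn (t := univ.erase (1 : Γ ⧸ N)) (fun l => (x l : Γ ⧸ N))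
    (fun l h => mem_erase.2 ⟨mt (QuotientGroup.eq_one_iff _).1 (h2 l h), mem_univ _⟩) fun l a m b e => by
      have a1 := hl l a
      have b1 := hl m b
      have a2 := ((mem_inertia hN).1 (h1 l a)).2
      have b2 := ((mem_inertia hN).1 ((mul_mem_cancel_right (le_inertia le_top hN (hψ.lin_mul b1).classOn
        (QuotientGroup.eq.1 e))).1 (show x l * ((x l)⁻¹ * x m) ∈ _ by rw [mul_inv_cancel_left]; exact h1 m b))).2
      set y := x l
      have a3 := (mem_IrrKer.1 a).2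
      have b3 := (mem_IrrKer.1 b).2
      have t : ∀ {l m}, LinOn N l → LinOn N m → Triv K l → Triv K m → IrrOn N (cj y l * m) ∧ Triv K (cj y l * m) :=
        fun {l m} a b c d => ⟨(a.irrOn.cj hN (mem_top y)).mul_lin b, fun k hk => by
          rw [Pi.mul_apply, Pi.mul_apply, cj_apply, cj_at_one, c _ (Normal.conj_mem inferInstance k hk y), d k hk]⟩
      have h4 := mul_ext_inj hKN.le hK hψ.charOn hψK (t a1 b1 a3 b3).1 (t b1 a1 b3 a3).1 (t a1 b1 a3 b3).2
        (t b1 a1 b3 a3).2 fun n hn => by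
          have a4 := a2 n hn
          have b4 := b2 n hn
          simp only [Pi.mul_apply, cj_apply] at a4 b4 ⊢
          linear_combination m (y * n * y⁻¹) * a4 - l (y * n * y⁻¹) * b4
      refine eq_of_mem_Irr (IrrKer_subset a) (IrrKer_subset b) fun n hn => ?_
      have h5 : ∀ n ∈ N, (l * star m) n = 1 := by_contra fun h5 => h2 l a (h.inertia_le le_top hN (nrm_of_normal _ _)
        (a1.irrOn.mul_lin b1.star) (fun k hk => by
          rw [Pi.mul_apply, Pi.mul_apply, Pi.star_apply, Pi.star_apply, a3 k hk.1, b3 k hk.1]) h5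
        ((mem_inertia hN).2 ⟨trivial, fun n hn => by
          have h6 := h4 n hn
          have h7 := hN y trivial n hn
          simp only [Pi.mul_apply, cj_apply, Pi.star_apply, RCLike.star_def] at h6 ⊢
          rw [b1.conj_eq_inv hn, b1.conj_eq_inv h7, ← div_eq_mul_inv (l n), ← div_eq_mul_inv (l _),
            div_eq_div_iff (b1.ne_zero h7) (b1.ne_zero hn), h6, mul_comm]⟩))
      have h6 := h5 n hn
      rwa [Pi.mul_apply, Pi.star_apply, RCLike.star_def, b1.conj_eq_inv hn, mul_inv_eq_one₀ (b1.ne_zero hn)] at h6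
  rw [card_IrrKer_of_abelian hKN.le hK hab, card_erase_of_mem (mem_univ _), card_univ, ← Nat.card_eq_fintype_card,
    ← index_eq_card] at h3
  have h4 := h.index_dvd hKN.le le_top hN (nrm_of_normal _ _)
  have h5 : K.relIndex N ≠ 1 := mt relIndex_eq_one.1 hKN.not_ge
  have h6 := relIndex_ne_zero K N
  rw [relIndex_top_right] at h4
  have := Nat.le_of_dvd (by omega) h4
  omega

/-- `d` is an irreducible character degree of `K`. -/
def IsCd (K : Subgroup Γ) (d : ℕ) : Prop := ∃ χ ∈ Irr K, charDegree χ = d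

theorem IrrOn.isCd (h : IrrOn K χ) : IsCd K (charDegree χ) :=
  ⟨_, h.cut_mem, charDegree_of_eq ((cut_of_mem _ K.one_mem).trans h.one_eq)⟩

theorem isCd_top {d : ℕ} : IsCd (⊤ : Subgroup Γ) d ↔ ∃ χ : IrrCharacter Γ, charDegree (χ : Γ → ℂ) = d :=
  ⟨fun ⟨χ, h, e⟩ => ⟨⟨χ, mem_Irr_top.1 h⟩, e⟩, fun ⟨χ, e⟩ => ⟨χ, mem_Irr_top.2 χ.2, e⟩⟩

theorem cd_just (hs : Group.IsSolvable Γ) (hn : commutator Γ ≠ ⊥) : ∃ p : ℕ, p.Prime ∧
    ((∃ k, ∀ d, IsCd (⊤ : Subgroup Γ) d → ¬ p ∣ d → IsCd (⊤ : Subgroup Γ) (p ^ (k + 1) * d)) ∨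
      ∃ N : Subgroup Γ, N.Normal ∧ commutator Γ ≤ N ∧ N ≠ ⊤ ∧ ¬ p ∣ N.index ∧
        ∀ d, IsCd N d → ¬ p ∣ d → IsCd (⊤ : Subgroup Γ) (N.index * d)) := by
  obtain ⟨p, K, hp, _, h1, h⟩ := exists_just hs hn
  have hc : ∀ {d k}, ¬ p ∣ d → d.Coprime (p ^ k) := fun h => (((Nat.Prime.coprime_iff_not_dvd hp).2 h).pow_left _).symm
  refine ⟨p, hp, h.imp (fun ⟨k, hk⟩ => ?_) fun ⟨N, _, h2, h3, h4, ⟨k, hk⟩, h5, h6⟩ => ?_⟩
  · obtain ⟨x, h2, h3⟩ := SetLike.not_le_iff_exists.1 h1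
    obtain ⟨β, hβ, h4⟩ := exists_IrrKer_ne (K := ⊤) le_top (nrm_of_normal _ _) h3
    have hi := irrOn_of_mem (IrrKer_subset hβ)
    have ht := (mem_IrrKer.1 hβ).2
    have h5 : charDegree β ∣ p ^ k := by
      have := deg_dvd_relIndex_mul le_top (nrm_of_normal ⊤ K) hi (irrOn_one K) (ht.dot_one ▸ hi.one_ne_zero)
      rwa [relIndex_top_right, hk, charDegree_of_eq (φ := (1 : Γ → ℂ)) (n := 1) Nat.cast_one.symm, mul_one] at this
    obtain ⟨_ | j, -, e⟩ := (Nat.dvd_prime_pow hp).1 h5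
    · exact (h4 (hi.linOn_iff.1 (hi.charOn.linOn_of_deg e) x h2)).elim
    refine ⟨j, fun d ⟨χ, hχ, e'⟩ hd => ?_⟩
    have hχ := irrOn_of_mem hχ
    have := (hi.mul_ext ht le_top (nrm_of_normal _ _) hχ.charOn (hχ.res_of_coprime le_top (nrm_of_normal _ _)
      (by rw [relIndex_top_right, hk, e']; exact hc hd))).isCd
    rwa [charDegree_of_eq (n := p ^ (j + 1) * d) (by rw [Pi.mul_apply, hi.one_eq, hχ.one_eq, e, e', Nat.cast_mul])]
      at this
  have hlt : K < N := h2.lt_of_ne fun e => h1 (e ▸ h3)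
  refine ⟨N, ‹_›, h3, h4, fun h => ?_, fun d ⟨ψ, hψ, e⟩ hd => e ▸ h6.exists_deg hlt h5 (irrOn_of_mem hψ)
    ((irrOn_of_mem hψ).res_of_coprime h2 (nrm_of_normal _ _) (by rw [hk, e]; exact hc hd))⟩
  have h7 := h6.index_dvd h2 le_top (nrm_of_normal _ _) (nrm_of_normal _ _)
  rw [relIndex_top_right, hk] at h7
  obtain _ | k := k
  · exact hlt.not_ge (relIndex_eq_one.1 hk)
  · exact hp.one_lt.ne' (Nat.dvd_one.1 ((Nat.dvd_sub_iff_right (Nat.one_le_pow _ _ hp.pos)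
      (dvd_pow_self p k.succ_ne_zero)).1 (h.trans h7)))

end Cfsg.Lib.Clifford
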