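import Cfsg.Agent.Lib.Clifford.PBlk

/-! Knörr's criterion for `k(GV) ≤ |V|`: combinations of characters with algebraic integer coefficients. -/

set_option autoImplicit false
open scoped ComplexConjugate
open Cfsg Cfsg.Lib.Char Cfsg.Lib.Block Finset Subgroup

namespace Cfsg.Lib.Clifford

/-- AM-GM over all conjugates of a family of nonzero algebraic integers. -/
theorem card_le_of_forall_conj {ι : Type*} (s : Finset ι) (a : ι → ℂ) (h0 : ∀ i ∈ s, a i ≠ 0)
    (hi : ∀ i ∈ s, IsIntegral ℤ (a i)) {C : ℝ} (h : ∀ σ : ℂ ≃+* ℂ, ∑ i ∈ s, ‖σ (a i)‖ ^ 2 ≤ C) :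
    (s.card : ℝ) ≤ C := by
  classical
  have hf : (Set.range fun (σ : ℂ ≃+* ℂ) (i : s) => σ (a i)).Finite :=
    (Set.Finite.pi' fun i : s => Polynomial.rootSet_finite (minpoly ℤ (a i)) ℂ).subset (by
      rintro _ ⟨σ, rfl⟩ i
      refine (Polynomial.mem_rootSet_of_ne (minpoly.ne_zero (hi _ i.2))).2 ?_
      exact (Polynomial.aeval_algHom_apply σ.toRingHom.toIntAlgHom (a i) _).trans (by simp))
  have hm : ∀ b, b ∈ hf.toFinset ↔ ∃ σ : ℂ ≃+* ℂ, (fun i : s => σ (a i)) = b := fun b => hf.mem_toFinset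
  generalize hf.toFinset = T at hm
  obtain ⟨n, hn⟩ := exists_int_of_forall_ringEquiv (α := ∏ b ∈ T, ∏ i, b i)
    (IsIntegral.prod _ fun b hb => IsIntegral.prod _ fun i _ => by
      obtain ⟨σ, rfl⟩ := (hm b).1 hb
      exact (hi _ i.2).map σ.toRingHom.toIntAlgHom) fun σ => by
    have e : ∀ τ : ℂ ≃+* ℂ, ∀ b ∈ T, (fun i => τ (b i)) ∈ T := fun τ b hb => by
      obtain ⟨σ, rfl⟩ := (hm b).1 hb
      exact (hm _).2 ⟨σ.trans τ, rfl⟩
    simp only [map_prod]
    exact prod_nbij' (fun b i => σ (b i)) (fun b i => σ.symm (b i)) (e σ) (e σ.symm) (by simp) (by simp) (by simp)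
  have h1 : ∀ b ∈ T, ∀ i, b i ≠ 0 := fun b hb i => by
    obtain ⟨σ, rfl⟩ := (hm b).1 hb
    simpa using h0 _ i.2
  have h2 : n ≠ 0 := fun e => by
    rw [e, Int.cast_zero] at hn
    exact prod_ne_zero_iff.2 (fun b hb => prod_ne_zero_iff.2 fun i _ => h1 b hb i) hn
  have h3 := (card_le_sum_of_one_le_prod (T ×ˢ univ) (fun x => ‖x.1 x.2‖ ^ 2)
    (fun x hx => pow_pos (norm_pos_iff.2 (h1 _ (mem_product.1 hx).1 _)) 2) (by
      rw [prod_pow, ← norm_prod, prod_product, hn, Complex.norm_intCast]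
      exact one_le_pow₀ (by exact_mod_cast Int.one_le_abs h2))).1
  rw [sum_product, card_product, card_univ, Fintype.card_coe, Nat.cast_mul] at h3
  have h4 : (0 : ℝ) < T.card := by exact_mod_cast card_pos.2 ⟨_, (hm _).2 ⟨RingEquiv.refl _, rfl⟩⟩
  refine le_of_mul_le_mul_left (h3.trans ?_) h4
  rw [← nsmul_eq_mul]
  refine sum_le_card_nsmul _ _ _ fun b hb => ?_
  obtain ⟨σ, rfl⟩ := (hm b).1 hb
  exact (sum_coe_sort s fun i => ‖σ (a i)‖ ^ 2).le.trans (h σ)

/-- combinations of characters with algebraic integer coefficients -/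
def IC (H : Type*) [Group H] : Submodule AlgInt (H → ℂ) := Submodule.span AlgInt {χ | IsCharacter H χ}

variable {H : Type*} [Group H] {γ ω φ : H → ℂ}

theorem mem_IC (h : IsCharacter H φ) : φ ∈ IC H := Submodule.subset_span h

theorem smul_mem_IC {a : ℂ} (ha : IsIntegral ℤ a) (h : γ ∈ IC H) : a • γ ∈ IC H :=
  (IC H).smul_mem (⟨a, ha⟩ : AlgInt) h

theorem mul_mem_IC (h : γ ∈ IC H) (h' : ω ∈ IC H) : γ * ω ∈ IC H := by
  have := Submodule.mul_mem_mul h h'
  rw [IC, Submodule.span_mul_span] at this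
  refine Submodule.span_mono ?_ this
  rintro _ ⟨a, ha, b, hb, rfl⟩
  exact charOn_top.1 ((charOn_top.2 ha).mul (charOn_top.2 hb))

theorem IC_class (h : γ ∈ IC H) : ClassOn ⊤ γ := by
  induction h using Submodule.span_induction with
  | mem x h => exact (charOn_top.2 h).classOn
  | zero => exact (charOn_zero _).classOn
  | add x y _ _ a b => exact a.add b
  | smul a x _ b => exact b.smul a

variable [Finite H]

theorem IC_val (h : γ ∈ IC H) (x : H) : IsIntegral ℤ (γ x) := by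
  induction h using Submodule.span_induction with
  | mem x h => exact (charOn_top.2 h).genOn.isIntegral trivial
  | zero => exact isIntegral_zero
  | add x y _ _ a b => exact a.add b
  | smul a x _ b => exact IsIntegral.mul a.2 b

theorem IC_dot (h : γ ∈ IC H) (hφ : CharOn ⊤ φ) : IsIntegral ℤ (dot ⊤ γ φ) := by
  induction h using Submodule.span_induction with
  | mem x h => rw [(charOn_top.2 h).dot_eq_mult hφ]; exact isIntegral_natCast _
  | zero => rw [dot_zero_left]; exact isIntegral_zero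
  | add x y _ _ a b => rw [dot_add_left]; exact a.add b
  | smul a x _ b => exact (dot_smul_left ⊤ (a : ℂ) x φ).symm ▸ IsIntegral.mul a.2 b

theorem IC_of_dot (h : ClassOn ⊤ γ) (h' : ∀ φ ∈ Irr ⊤, IsIntegral ℤ (dot ⊤ γ φ)) : γ ∈ IC H := by
  rw [← cut_top γ, h.cut_eq_sum]
  exact sum_mem fun φ hφ => smul_mem_IC (h' φ hφ) (mem_IC (mem_Irr_top.1 hφ).isCharacter)

theorem IC_of_inv {p : ℕ} (hp : p.Prime) (hH : ¬ p ∣ Nat.card H) (hω : ω ∈ IC H) (hv : ∀ x, IsIntegral ℤ (γ x))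
    {c : ℂ} (hc : IsIntegral ℤ c) (e : ∀ x, γ x * ω x = c) (hu : ∀ x, ∃ b k, IsIntegral ℤ b ∧ ω x * b = p ^ k) :
    γ ∈ IC H := by
  classical
  have := Fintype.ofFinite H
  choose b k hb hk using hu
  have h1 : ∀ s : Finset H, ∃ q ∈ IC H, ∀ x, ∏ h ∈ s, (ω h - ω x) = ∏ h ∈ s, ω h - ω x * q x := fun s => by
    induction s using Finset.induction_on with
    | empty => exact ⟨0, zero_mem _, by simp⟩
    | insert a s ha ih =>
      obtain ⟨q, hq, e⟩ := ih
      refine ⟨(∏ h ∈ s, ω h) • 1 + ω a • q - ω * q, sub_mem (add_mem (smul_mem_IC (IsIntegral.prod _ fun h _ =>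
        IC_val hω h) (mem_IC (charOn_top.1 (charOn_one _)))) (smul_mem_IC (IC_val hω a) hq)) (mul_mem_IC hω hq), fun x => ?_⟩
      simp only [prod_insert ha, e, Pi.sub_apply, Pi.add_apply, Pi.smul_apply, Pi.mul_apply, Pi.one_apply, smul_eq_mul]
      ring
  obtain ⟨q, hq, h2⟩ := h1 univ
  have h3 : ((p ^ ∑ x, k x : ℕ) : ℂ) • γ ∈ IC H := by
    convert smul_mem_IC (hc.mul (IsIntegral.prod b fun x (_ : x ∈ univ) => hb x)) hq using 1
    ext x
    have := h2 x
    rw [prod_eq_zero (mem_univ x) (sub_self _), eq_comm, sub_eq_zero] at this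
    rw [Nat.cast_pow, ← prod_pow_eq_pow_sum]
    simp only [Pi.smul_apply, smul_eq_mul, ← hk, prod_mul_distrib, this, ← e x]
    ring
  have h4 : (p ^ ∑ x, k x).Coprime (Nat.card (⊤ : Subgroup H)) :=
    card_top (G := H) ▸ ((Nat.Prime.coprime_iff_not_dvd hp).2 hH).pow_left _
  have h5 : ((p ^ ∑ x, k x : ℕ) : ℂ) ≠ 0 := Nat.cast_ne_zero.2 (pow_ne_zero _ hp.ne_zero)
  generalize p ^ ∑ x, k x = n at *
  refine IC_of_dot (by simpa [smul_smul, h5] using (IC_class h3).smul (n : ℂ)⁻¹) fun φ hφ => ?_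
  obtain ⟨u, w, h6⟩ := Nat.isCoprime_iff_coprime.2 h4
  have h7 := IC_dot h3 (irrOn_of_mem hφ).charOn
  have h8 : IsIntegral ℤ (Nat.card (⊤ : Subgroup H) * dot ⊤ γ φ) := by
    rw [dot, mul_inv_cancel_left₀ (card_ne_zero _)]
    exact IsIntegral.sum _ fun x _ => (hv x).mul ((irrOn_of_mem hφ).genOn.star.isIntegral trivial)
  rw [dot_smul_left] at h7
  have : (u : ℂ) * n + w * Nat.card (⊤ : Subgroup H) = 1 := by exact_mod_cast h6
  rw [show dot ⊤ γ φ = u * (n * dot ⊤ γ φ) + w * (Nat.card (⊤ : Subgroup H) * dot ⊤ γ φ) by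
    linear_combination (-dot ⊤ γ φ) * this]
  exact ((isIntegral_intCast u).mul h7).add ((isIntegral_intCast w).mul h8)

theorem sum_map_Irr {A : Type*} [AddCommMonoid A] (K : Subgroup H) (σ : ℂ ≃+* ℂ) (F : (H → ℂ) → A) :
    ∑ φ ∈ Irr K, F (fun x => σ (φ x)) = ∑ φ ∈ Irr K, F φ :=
  sum_nbij' (fun φ x => σ (φ x)) (fun φ x => σ.symm (φ x)) (fun _ h => map_mem_Irr h σ)
    (fun _ h => map_mem_Irr h σ.symm) (by simp) (by simp) (by simp)

theorem IC_shift {X : Type*} [Group X] [Finite X] (f : H →* X) {v : X} (hc : ∀ h, f h * v = v * f h) {χ : X → ℂ}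
    (hχ : IsCharacter X χ) : (fun h => χ (f h * v)) ∈ IC H := by
  have h1 : ∀ h, f h ∈ centralizer {v} := fun h => mem_centralizer_singleton_iff.2 (hc h)
  have h2 : v ∈ centralizer {v} := mem_centralizer_singleton_iff.2 rfl
  have h3 := charOn_of_isCharacter hχ (centralizer {v})
  have : (fun h => χ (f h * v)) = ∑ θ ∈ Irr (centralizer {v}), (dot (centralizer {v}) χ θ * (θ v / θ 1)) • (θ ∘ f) := by
    ext h
    rw [h3.classOn.eq_sum (mul_mem (h1 h) h2), Finset.sum_apply]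
    refine sum_congr rfl fun θ hθ => ?_
    have a : IsIrrCharacter _ (res (centralizer {v}) θ) := irrOn_of_mem hθ
    obtain ⟨c, e⟩ := a.center_le_charCenter (x := ⟨v, h2⟩)
      (mem_center_iff.2 fun g => Subtype.ext (mem_centralizer_singleton_iff.1 g.2))
    have e1 : θ v = c * θ 1 := (congrArg θ (mul_one v)).symm.trans (e 1)
    have e2 : θ (v * f h) = c * θ (f h) := e ⟨_, h1 h⟩
    simp [hc, e1, e2, (irrOn_of_mem hθ).one_ne_zero, mul_assoc]
  rw [this]
  refine sum_mem fun θ hθ => smul_mem_IC (IsIntegral.mul ?_ ?_)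
    (mem_IC (charOn_top.1 ((irrOn_of_mem hθ).charOn.comp f fun x _ => h1 x)))
  · rw [h3.dot_eq_mult (irrOn_of_mem hθ).charOn]; exact isIntegral_natCast _
  · classical
    have := (irrOn_of_mem hθ).isIntegral_sum_div (f := fun x => if x = v then 1 else 0) (fun g hg x _ => by
      simp only [mul_inv_eq_iff_eq_mul, ← mem_centralizer_singleton_iff.1 hg, mul_right_inj]) (fun g _ => by
      split_ifs; exacts [isIntegral_one, isIntegral_zero])
    simpa [mem_elems.2 h2] using this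

/-- Knörr's criterion -/
theorem knorr {X : Type*} [Group X] [Finite X] {p : ℕ} [Fact p.Prime] {M : Ideal AlgInt} [M.IsMaximal]
    (hM : IsPModular p M) (f : H →* X) {v : X} (hv : v ^ p = 1) (hc : ∀ h, f h * v = v * f h)
    (hH : ¬ p ∣ Nat.card H) (hX : ∀ χ ∈ Irr (⊤ : Subgroup X), ¬ p ∣ charDegree χ) (h1 : γ ∈ IC H) (h2 : γ 1 = 1)
    (h3 : ∀ h ≠ 1, MemLocalIdeal M (γ h)) {n : ℕ} (h4 : ∀ (σ : ℂ ≃+* ℂ) h,
      ‖σ (γ h)‖ ^ 2 * Nat.card (centralizer {f h * v}) ≤ n * Nat.card (centralizer {h})) :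
    Nat.card (ConjClasses X) ≤ n := by
  classical
  have := Fintype.ofFinite H
  have hs : ∀ χ ∈ Irr (⊤ : Subgroup X), (fun h => χ (f h * v)) * γ ∈ IC H := fun χ hχ =>
    mul_mem_IC (IC_shift f hc (mem_Irr_top.1 hχ).isCharacter) h1
  have h5 := card_le_of_forall_conj (Irr (⊤ : Subgroup X) ×ˢ Irr (⊤ : Subgroup H))
    (fun x => dot ⊤ ((fun h => x.1 (f h * v)) * γ) x.2) (fun ⟨χ, φ⟩ hx e => ?_)
    (fun x hx => IC_dot (hs _ (mem_product.1 hx).1) (irrOn_of_mem (mem_product.1 hx).2).charOn)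
    (C := n * Nat.card (ConjClasses H)) fun σ => ?_
  · rw [card_product, card_Irr_top, card_Irr_top, card_irrCharacter_eq, card_irrCharacter_eq] at h5
    exact Nat.le_of_mul_le_mul_right (by exact_mod_cast h5) Nat.card_pos
  · obtain ⟨hχ, hφ⟩ := mem_product.1 hx
    have a : IrrOn ⊤ χ := irrOn_of_mem hχ
    have b : IrrOn ⊤ φ := irrOn_of_mem hφ
    rw [dot, mul_eq_zero, or_iff_right (inv_ne_zero (card_ne_zero _)), elems_top, ← add_sum_erase _ _ (mem_univ 1)] at e
    have h6 : MemLocalIdeal M (χ v * φ 1) := by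
      convert (memLocalIdeal_sum (s := univ.erase 1) fun h hh => ((h3 h (ne_of_mem_erase hh)).mul_left (memLocalRing_of_isIntegral
        (a.genOn.isIntegral (x := f h * v) trivial))).mul_right (memLocalRing_of_isIntegral
        (b.genOn.star.isIntegral (x := h) trivial))).neg using 1
      rw [add_eq_zero_iff_eq_neg] at e
      refine Eq.trans ?_ e
      simp [h2, b.one_eq]
    rcases h6.mem_or_mem (memLocalRing_of_isIntegral (a.genOn.isIntegral trivial)) with h | h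
    · refine (a.genOn.sub_deg_mem hM trivial ?_).not_mem_of_sub (a.one_eq ▸ mt (memLocalIdeal_natCast_iff hM _).1
        (hX χ hχ)) h
      exact ((Nat.dvd_prime_pow Fact.out).1 (orderOf_dvd_of_pow_eq_one ((pow_one p).symm ▸ hv))).imp fun _ => And.right
    · rw [b.one_eq, memLocalIdeal_natCast_iff hM] at h
      exact hH (h.trans (card_top (G := H) ▸ b.deg_dvd_card))
  rw [sum_product]
  have h6 : ∀ χ ∈ Irr (⊤ : Subgroup X), ∑ φ ∈ Irr (⊤ : Subgroup H), ‖σ (dot ⊤ ((fun h => χ (f h * v)) * γ) φ)‖ ^ 2 =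
      (Nat.card H : ℝ)⁻¹ * ∑ h, ‖σ (γ h)‖ ^ 2 * ‖σ (χ (f h * v))‖ ^ 2 := fun χ hχ => by
    have a : ClassOn ⊤ fun h => σ (((fun h => χ (f h * v)) * γ) h) := fun g _ x _ =>
      congrArg σ (IC_class (hs χ hχ) g trivial x trivial)
    have b := (dot_self_eq _ _).symm.trans (a.dot_eq_sum' fun h => σ (((fun h => χ (f h * v)) * γ) h))
    rw [← sum_map_Irr _ σ, card_top, elems_top] at b
    simp only [Complex.mul_conj'] at b
    refine Eq.trans (sum_congr rfl fun φ hφ => ?_) (Eq.trans (Eq.symm (by exact_mod_cast b)) ?_)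
    · rw [dot_top, dot_top]
      exact congrArg (‖·‖ ^ 2) ((genOn_top.1 (irrOn_of_mem hφ).genOn).classInner_map_ringHom _ σ.toRingHom).symm
    · simp [mul_pow, mul_comm]
  rw [sum_congr rfl h6, ← mul_sum, sum_comm, inv_mul_le_iff₀ (by exact_mod_cast Nat.card_pos)]
  have h7 := sum_card_centralizer (G := H) fun _ => True
  rw [Nat.card_congr (Equiv.subtypeUnivEquiv fun _ => trivial), elems_top] at h7
  simp only [filter_true] at h7
  rw [mul_left_comm, ← Nat.cast_mul, mul_comm (Nat.card H), ← h7, Nat.cast_sum, mul_sum]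
  refine sum_le_sum fun h _ => le_trans (le_of_eq ?_) (h4 σ h)
  rw [← mul_sum, sum_map_Irr _ σ fun χ => ‖χ (f h * v)‖ ^ 2, sum_irr_normSq (mem_top _), top_inf_eq]

end Cfsg.Lib.Clifford
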