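import Cfsg.Agent.Lib.Clifford.Knorr
import Cfsg.Agent.Lib.Clifford.Fixed
import Cfsg.Agent.Lib.BG1.Elem
import Cfsg.Agent.Lib.Small.Realize
import Cfsg.Agent.S4967
import Mathlib.NumberTheory.GaussSum
import Mathlib.NumberTheory.MulChar.Duality
import Mathlib.NumberTheory.LegendreSymbol.Complex

/-! Square roots of Knörr's generalized character `h ↦ |V : C_V(h)|`. -/

set_option autoImplicit false
open scoped ComplexConjugate
open Cfsg Cfsg.Lib.Char Cfsg.Lib.Block Cfsg.Lib.BG1 Finset Subgroup Module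

namespace Cfsg.Lib.Clifford

variable {H : Type*} [Group H] {F V : Type*} [Field F] [AddCommGroup V] [Module F V] {γ ω : H → ℂ}

structure KF (M : Ideal AlgInt) (ρ : Representation F H V) (γ : H → ℂ) : Prop where
  mem : γ ∈ IC H
  one : γ 1 = 1
  dv : ∀ h, ρ h ≠ 1 → MemLocalIdeal M (γ h)
  bd : ∀ (σ : ℂ ≃+* ℂ) h, ‖σ (γ h)‖ ^ 2 * Nat.card (LinearMap.ker (ρ h - 1)) ≤ Nat.card V

variable {p : ℕ} [hp : Fact p.Prime] {M : Ideal AlgInt} [M.IsMaximal] {ρ : Representation F H V}

omit [M.IsMaximal] in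
theorem kf_one [Finite V] (h : ∀ g, ρ g = 1) : KF M ρ 1 :=
  ⟨mem_IC (charOn_top.1 (charOn_one _)), rfl, fun g e => (e (h g)).elim, fun σ g => by
    simpa [-LinearMap.mem_ker] using Nat.card_le_card_of_injective _ (LinearMap.ker (ρ g - 1)).injective_subtype⟩

theorem KF.mul [Finite H] [Finite V] {U W : Subrepresentation ρ} (hc : IsCompl U.toSubmodule W.toSubmodule)
    (h : KF M U.toRepresentation γ) (h' : KF M W.toRepresentation ω) : KF M ρ (γ * ω) := by
  refine ⟨mul_mem_IC h.mem h'.mem, by simp [h.one, h'.one], fun g e => ?_, fun σ g => ?_⟩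
  · by_cases a : U.toRepresentation g = 1
    · refine (h'.dv g fun b => e (LinearMap.ext fun v => ?_)).mul_left (memLocalRing_of_isIntegral (IC_val h.mem g))
      obtain ⟨u, hu, w, hw, rfl⟩ := Submodule.mem_sup.1 (hc.sup_eq_top.ge (Submodule.mem_top (x := v)))
      rw [map_add, map_add]
      exact congrArg₂ _ (congrArg Subtype.val (LinearMap.congr_fun a ⟨u, hu⟩))
        (congrArg Subtype.val (LinearMap.congr_fun b ⟨w, hw⟩))
    · exact (h.dv g a).mul_right (memLocalRing_of_isIntegral (IC_val h'.mem g))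
  have h1 : Nat.card (LinearMap.ker (ρ g - 1)) ≤ Nat.card (LinearMap.ker (U.toRepresentation g - 1)) *
      Nat.card (LinearMap.ker (W.toRepresentation g - 1)) := by
    rw [← Nat.card_prod]
    refine Nat.card_le_card_of_surjective (fun x => ⟨x.1.1.1 + x.2.1.1, add_mem (congrArg Subtype.val x.1.2 :)
      (congrArg Subtype.val x.2.2 :)⟩) fun ⟨v, hv⟩ => ?_
    obtain ⟨u, hu, w, hw, rfl⟩ := Submodule.mem_sup.1 (hc.sup_eq_top.ge (Submodule.mem_top (x := v)))
    have a := Submodule.disjoint_iff_add_eq_zero.1 hc.disjoint (sub_mem (U.apply_mem_toSubmodule g hu) hu)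
      (sub_mem (W.apply_mem_toSubmodule g hw) hw) ((map_add (ρ g - 1) u w).symm.trans hv)
    exact ⟨(⟨⟨u, hu⟩, Subtype.ext a.1⟩, ⟨⟨w, hw⟩, Subtype.ext a.2⟩), rfl⟩
  rw [← Nat.card_congr (Submodule.prodEquivOfIsCompl _ _ hc).toEquiv, Nat.card_prod, Nat.cast_mul]
  refine le_trans ?_ (mul_le_mul (h.bd σ g) (h'.bd σ g) (by positivity) (by positivity))
  rw [mul_mul_mul_comm, ← mul_pow, ← norm_mul, ← map_mul, ← Nat.cast_mul]
  exact mul_le_mul_of_nonneg_left (by exact_mod_cast h1) (by positivity)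

theorem kf_irr {H : Type*} [CommGroup H] [Finite H] [Finite V] [CharP F p] (hM : IsPModular p M)
    (ρ : Representation F H V) [ρ.IsIrreducible] : ∃ γ, KF M ρ γ := by
  classical
  have : Nontrivial V := (Submodule.nontrivial_iff F).1 ⟨⊥, ⊤, fun e => bot_ne_top (α := Subrepresentation ρ)
    (Subrepresentation.toSubmodule_injective e)⟩
  obtain ⟨E, _, _, e, χ, he⟩ := Agent.S4967.model ρ fun U h => (eq_bot_or_eq_top (⟨U, fun g v => h g v⟩ :
    Subrepresentation ρ)).imp (congrArg Subrepresentation.toSubmodule) (congrArg Subrepresentation.toSubmodule)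
  have : Finite E := Finite.of_equiv _ e.toEquiv
  have := Fintype.ofFinite E
  have : CharP E p := charP_of_injective_algebraMap (algebraMap F E).injective p
  obtain ⟨i⟩ := MulChar.mulEquiv_units E ℂ
  let μ : H →* MulChar E ℂ := i.symm.toMonoidHom.comp χ.toHomUnits
  have h1 : ∀ h, μ h = 1 ↔ χ h = 1 := fun h => by simp [μ, Units.ext_iff]
  have h2 : ∀ h, χ h = 1 → ρ h = 1 := fun h a => LinearMap.ext fun v => e.injective (by simp [he, a])
  have h3 := AddChar.FiniteField.primitiveChar_to_Complex_isPrimitive E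
  generalize AddChar.FiniteField.primitiveChar_to_Complex E = ψ at h3
  have h4 : ψ ≠ 1 := by simpa using h3 one_ne_zero
  have h5 : ∀ y, ψ y ^ p ^ 1 = 1 := fun y => by
    rw [pow_one, ← AddChar.map_nsmul_eq_pow, nsmul_eq_mul, CharP.cast_eq_zero, zero_mul, AddChar.map_zero_eq_one]
  have h6 : ∀ y, IsCharacter H fun h => μ h y := fun y => by
    by_cases hy : IsUnit y
    · exact charOn_top.1 (linOn_of_map_mul (by simp [MulChar.one_apply hy]) fun a _ b _ => by simp).charOn
    · simp only [MulChar.map_nonunit _ hy]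
      exact charOn_top.1 (charOn_zero (⊤ : Subgroup H))
  refine ⟨fun h => -gaussSum (μ h) ψ, ?_, by simp [gaussSum_one_left h4], fun h a => ?_, fun σ h => ?_⟩
  · convert neg_mem (sum_mem fun y (_ : y ∈ univ) => smul_mem_IC (isIntegral_of_pow_eq_one
      (pow_ne_zero 1 hp.out.ne_zero) (h5 y)) (mem_IC (h6 y))) using 1
    ext h
    simp [gaussSum, mul_comm]
  · convert (memLocalIdeal_sum fun y (_ : y ∈ univ) => (memLocalIdeal_sub_one_of_pow_prime_pow hM (h5 y)).mul_left
      (memLocalRing_of_isIntegral (IC_val (mem_IC (h6 y)) h))).neg using 2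
    simp [mul_sub, gaussSum, MulChar.sum_eq_zero_of_ne_one (mt (h1 h).1 (mt (h2 h) a))]
  by_cases a : χ h = 1
  · simpa [(h1 h).2 a, gaussSum_one_left h4, -LinearMap.mem_ker] using
      Nat.card_le_card_of_injective _ (LinearMap.ker (ρ h - 1)).injective_subtype
  have b : LinearMap.ker (ρ h - 1) = ⊥ := (Submodule.eq_bot_iff _).2 fun v hv => by
    by_contra c
    exact a ((mul_eq_right₀ (e.map_ne_zero_iff.2 c)).1 ((he h v).symm.trans (congrArg e (sub_eq_zero.1 hv))))
  have c := gaussSum_mul_gaussSum_eq_card (χ := (μ h).ringHomComp σ.toRingHom)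
    ((MulChar.ringHomComp_ne_one_iff σ.injective).2 (mt (h1 h).1 a))
    (h3.compMulHom_of_isPrimitive (f := σ.toRingHom.toMonoidHom) σ.injective)
  rw [← star_gaussSum_eq, Complex.star_def, Complex.mul_conj'] at c
  rw [b, Nat.card_congr e.toEquiv, Nat.card_eq_fintype_card (α := E), map_neg, norm_neg, gaussSum, map_sum]
  simp only [map_mul]
  simpa using le_of_eq (by exact_mod_cast c : _ = (Fintype.card E : ℝ))

theorem kf_comm.{u} {H : Type*} [CommGroup H] [Finite H] [CharP F p] (hM : IsPModular p M) (hH : ¬ p ∣ Nat.card H)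
    (n : ℕ) : ∀ (V : Type u) [AddCommGroup V] [Module F V] [Finite V] (ρ : Representation F H V), finrank F V = n →
    ∃ γ, KF M ρ γ := by
  have : NeZero (Nat.card H : F) := ⟨mt (CharP.cast_eq_zero_iff F p _).1 hH⟩
  induction n using Nat.strong_induction_on with
  | _ n ih =>
  intro V _ _ _ ρ hn
  have := Module.Finite.of_finite (R := F) (M := V)
  rcases subsingleton_or_nontrivial V with hV | hV
  · exact ⟨1, kf_one fun _ => Subsingleton.elim _ _⟩
  obtain ⟨U, hU⟩ := exists_irreducible_subrep ρ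
  obtain ⟨W, hc⟩ := exists_isCompl U
  have hc' := isCompl_toSubmodule hc
  have h1 := finrank_pos_of_isIrreducible U.toRepresentation
  have h2 := Submodule.finrank_add_eq_of_isCompl hc'
  obtain ⟨γ, a⟩ := kf_irr hM U.toRepresentation
  obtain ⟨ω, b⟩ := ih _ (by omega) _ W.toRepresentation rfl
  exact ⟨_, a.mul hc' b⟩

theorem knorr_amb {X : Type*} [Group X] [Finite X] (V : Subgroup X) [V.Normal] (hV : ∀ v ∈ V, v ^ p = 1)
    (hidx : ¬ p ∣ V.index) (hs : centralizer (V : Set X) = V) {G : Subgroup X} (hG : V.IsComplement' G) {v : X}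
    (hv : v ∈ V) {U : Subgroup X} (hU : U ≤ V) (hn : G ⊓ centralizer {v} ≤ normalizer (U : Set X))
    (hf : ∀ h ∈ G ⊓ centralizer {v}, h ∈ centralizer (U : Set X) → h = 1) [Fact (IsElementaryAbelian p U)]
    (h : ¬ p ∣ Nat.card ↥(G ⊓ centralizer {v}) → ∀ (M : Ideal AlgInt) [M.IsMaximal], IsPModular p M →
      ∃ γ, KF M ((erep p U).comp (inclusion hn)) γ) : Nat.card (ConjClasses X) ≤ Nat.card V := by
  obtain ⟨M, hM⟩ := Block2.exists_isPModular hp.out
  have := hM.2.1
  have hab : ∀ a ∈ V, ∀ b ∈ V, a * b = b * a := fun a ha b hb => hs.ge hb a ha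
  have h1 : ¬ p ∣ Nat.card G := hG.symm.index_eq_card ▸ hidx
  have h2 : ¬ p ∣ Nat.card ↥(G ⊓ centralizer {v}) := fun e => h1 (e.trans (card_dvd_of_le inf_le_left))
  obtain ⟨γ, hγ⟩ := h h2 M hM
  refine knorr hM (G ⊓ centralizer {v}).subtype (hV v hv) (fun h => mem_centralizer_singleton_iff.1 h.2.2) h2
    (fun χ hχ e => hidx (e.trans (relIndex_top_right (H := V) ▸ (irrOn_of_mem hχ).deg_dvd_relIndex_of_comm le_top
      (nrm_of_normal _ _) hab))) hγ.mem hγ.one
    (fun h a => hγ.dv h fun e => a (Subtype.ext (hf _ h.2 (erep_eq_one_iff.1 e)))) fun σ ⟨h, hG', hv'⟩ => ?_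
  have h3 : Nat.card (centralizer {h * v}) ≤ Nat.card ↥(V ⊓ centralizer {h}) *
      Nat.card (centralizer ({⟨h, hG', hv'⟩} : Set ↥(G ⊓ centralizer {v}))) := by
    rw [centralizer_mul_of_coprime (mem_centralizer_singleton_iff.1 hv') ((((Nat.Prime.coprime_iff_not_dvd hp.out).2
      h1).symm.coprime_dvd_left (G.orderOf_dvd_natCard hG')).coprime_dvd_right (orderOf_dvd_of_pow_eq_one (hV v hv))),
      ← Nat.card_prod]
    refine Nat.card_le_card_of_surjective (fun x => ⟨x.1.1 * x.2.1.1, mul_mem x.1.2.2 (mem_centralizer_singleton_iff.2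
      (congrArg Subtype.val (mem_centralizer_singleton_iff.1 x.2.2))), mul_mem (mem_centralizer_singleton_iff.2
      (hab _ x.1.2.1 _ hv)) x.2.1.2.2⟩) fun ⟨x, a, b⟩ => ?_
    obtain ⟨⟨w, g⟩, rfl⟩ := hG.2 x
    have c := hG.1 (a₁ := (⟨h * w * h⁻¹, Normal.conj_mem ‹_› _ w.2 _⟩, ⟨h * g * h⁻¹, mul_mem (mul_mem hG' g.2)
      (inv_mem hG')⟩)) (a₂ := (w, g)) (by
        have := mem_centralizer_singleton_iff.1 a
        simp only at this ⊢
        rw [← mul_inv_eq_iff_eq_mul.2 this.symm]; group)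
    have c1 : h * w * h⁻¹ = w := congrArg (fun x => x.1.1) c
    have c2 : h * g * h⁻¹ = g := congrArg (fun x => x.2.1) c
    exact ⟨(⟨w, w.2, mem_centralizer_singleton_iff.2 (mul_inv_eq_iff_eq_mul.1 c1).symm⟩, ⟨⟨g, g.2,
      (mul_mem_cancel_left (mem_centralizer_singleton_iff.2 (hab _ w.2 _ hv))).1 b⟩,
      mem_centralizer_singleton_iff.2 (Subtype.ext (mul_inv_eq_iff_eq_mul.1 c2).symm)⟩), rfl⟩
  have h4 := hγ.bd σ ⟨h, hG', hv'⟩
  rw [show LinearMap.ker (((erep p U).comp (inclusion hn)) ⟨h, hG', hv'⟩ - 1) = EV.sub p U (centralizer {h}) from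
    Submodule.ext fun x => by
      rw [LinearMap.mem_ker, LinearMap.sub_apply, sub_eq_zero, EV.mem_sub, mem_centralizer_singleton_iff, eq_comm (b := h * _)]
      exact erep_apply_eq_iff, EV.card_sub, EV.card_eq] at h4
  have h5 : Nat.card ↥(V ⊓ centralizer {h}) * Nat.card U ≤ Nat.card ↥(U ⊓ centralizer {h}) * Nat.card V := by
    rw [← card_mul_relIndex hU, ← card_mul_relIndex (inf_le_inf_right (centralizer {h}) hU), mul_assoc, mul_comm (Nat.card U)]
    gcongr
    rw [show U ⊓ centralizer {h} = U ⊓ (V ⊓ centralizer {h}) by rw [← inf_assoc, inf_of_le_left hU], inf_relIndex_right]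
    exact relIndex_le_of_le_right inf_le_left (relIndex_ne_zero _ _)
  refine le_of_mul_le_mul_right ?_ (show (0 : ℝ) < Nat.card U by exact_mod_cast Nat.card_pos)
  have h6 : (Nat.card (centralizer {h * v}) * Nat.card U : ℝ) ≤ Nat.card ↥(U ⊓ centralizer {h}) * (Nat.card V *
      Nat.card (centralizer ({⟨h, hG', hv'⟩} : Set ↥(G ⊓ centralizer {v})))) := by
    exact_mod_cast (Nat.mul_le_mul_right _ h3).trans (by
      rw [mul_right_comm, ← mul_assoc]; exact Nat.mul_le_mul_right _ h5)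
  rw [mul_assoc, mul_comm _ (Nat.card U : ℝ)]
  refine (mul_le_mul_of_nonneg_left ((mul_comm _ _).le.trans h6) (by positivity)).trans ?_
  rw [← mul_assoc, mul_comm _ (Nat.card U : ℝ)]
  exact mul_le_mul_of_nonneg_right h4 (by positivity)

end Cfsg.Lib.Clifford
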