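import Cfsg.Agent.Lib.Clifford.Knorr2
import Cfsg.Agent.S4966

/-! Knörr functions from quadratic Gauss sums. -/

set_option autoImplicit false
open scoped ComplexConjugate
open Cfsg Cfsg.Lib.Char Cfsg.Lib.Block Module LinearMap
open Finset hiding range

namespace Cfsg.Lib.Clifford

variable {H : Type*} [Group H] [Finite H] {p : ℕ} [hp : Fact p.Prime] {V : Type*} [AddCommGroup V]
  [Module (ZMod p) V] {M : Ideal AlgInt} [M.IsMaximal] {ρ : Representation (ZMod p) H V}

theorem gauss_norm [Fintype V] (c : LinearMap.BilinForm (ZMod p) V) (hc : ∀ w, (∀ y, c y w + c w y = 0) → w = 0)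
    {ψ : AddChar (ZMod p) ℂ} (hψ : ψ.IsPrimitive) : (∑ y, ψ (c y y)) * conj (∑ y, ψ (c y y)) = Nat.card V := by
  classical
  have h1 : ∀ w, ∑ y, ψ (c y w + c w y) = if w = 0 then (Nat.card V : ℂ) else 0 := fun w => by
    split_ifs with h
    · simp [h]
    refine (AddChar.sum_eq_zero_iff_ne_zero (ψ := ψ.compAddMonoidHom (c.flip w + c w).toAddMonoidHom)).2 fun e =>
      h (hc w fun y => (hψ.zmod_char_eq_one_iff p _).1 (DFunLike.congr_fun e y))
  rw [map_sum, mul_sum]
  simp only [← AddChar.map_neg_eq_conj, sum_mul, ← AddChar.map_add_eq_mul]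
  rw [sum_congr rfl fun y _ => (Equiv.sum_comp (Equiv.addLeft y) _).symm, sum_comm,
    sum_congr rfl (g := fun w => ψ (c w w) * ∑ y, ψ (c y w + c w y)) fun w _ => ?_]
  · simp [h1]
  rw [mul_sum]
  refine sum_congr rfl fun y _ => ?_
  rw [← AddChar.map_add_eq_mul]
  congr 1
  simp only [Equiv.coe_addLeft, map_add, LinearMap.add_apply]
  ring

omit [Finite H] in
theorem isCompl_fix [Finite V] (hH : ¬ p ∣ Nat.card H) (h : H) : IsCompl (ker (ρ h - 1)) (range (ρ h - 1)) := by
  have := Module.Finite.of_finite (R := ZMod p) (M := V)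
  refine (Submodule.isCompl_iff_disjoint _ _ (by rw [add_comm, finrank_range_add_finrank_ker])).2
    (Submodule.disjoint_def.2 ?_)
  rintro _ hd ⟨x, rfl⟩
  have h1 : ∀ n : ℕ, ρ (h ^ n) x = x + (n : ZMod p) • (ρ h - 1) x := fun n => by
    induction n with
    | zero => simp
    | succ n ih =>
      rw [pow_succ', map_mul, Module.End.mul_apply, ih, map_add, map_smul, show ρ h ((ρ h - 1) x) = (ρ h - 1) x from
        sub_eq_zero.1 hd, Nat.cast_succ, add_smul, one_smul]
      simp only [LinearMap.sub_apply, Module.End.one_apply]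
      abel
  have := h1 (Nat.card H)
  rw [pow_card_eq_one', map_one, Module.End.one_apply, left_eq_add, smul_eq_zero, CharP.cast_eq_zero_iff _ p] at this
  exact this.resolve_left hH

theorem kf_gauss [Finite V] (hM : IsPModular p M) (hH : ¬ p ∣ Nat.card H) (c : LinearMap.BilinForm (ZMod p) V)
    (hi : ∀ h x y, c (ρ h x) (ρ h y) = c x y) (hc : ∀ w, (∀ y, c y w + c w y = 0) → w = 0) : ∃ γ, KF M ρ γ := by
  classical
  have := Fintype.ofFinite V
  have h3 := ZMod.isPrimitive_stdAddChar p
  generalize ZMod.stdAddChar (N := p) = ψ at h3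
  have h5 : ∀ y, ψ y ^ p ^ 1 = 1 := fun y => by
    rw [pow_one, ← AddChar.map_nsmul_eq_pow, nsmul_eq_mul, CharP.cast_eq_zero, zero_mul, AddChar.map_zero_eq_one]
  have h6 : ∀ y, IsIntegral ℤ (ψ y) := fun y => isIntegral_of_pow_eq_one (pow_ne_zero 1 hp.out.ne_zero) (h5 y)
  have h1 : ∀ h, ∀ k ∈ ker (ρ h - 1), ∀ d ∈ range (ρ h - 1), c k d = 0 ∧ c d k = 0 := by
    rintro h k hk _ ⟨x, rfl⟩
    have := hi h k x
    have := hi h x k
    simp_all [sub_eq_zero]
  have h2 : ∀ h, (∑ d : range (ρ h - 1), ψ (c d d)) * ∑ k : ker (ρ h - 1), ψ (c k k) = ∑ y, ψ (c y y) := fun h => by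
    rw [← (Submodule.prodEquivOfIsCompl _ _ (isCompl_fix (ρ := ρ) hH h)).toEquiv.sum_comp, Fintype.sum_prod_type, mul_comm,
      Finset.sum_mul_sum]
    refine sum_congr rfl fun k _ => sum_congr rfl fun d _ => ?_
    simp [← AddChar.map_add_eq_mul, h1 h k k.2 d d.2]
  have h4 : (fun h => ∑ k : ker (ρ h - 1), ψ (c k k)) ∈ IC H := by
    have : ∀ a, IsCharacter H fun h => ((univ.filter fun y => c y y = a ∧ ρ h y = y).card : ℂ) := fun a => by
      let _ : MulAction H {y // c y y = a} :=
        { smul := fun h y => ⟨ρ h y, (hi _ _ _).trans y.2⟩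
          one_smul := fun y => Subtype.ext (by change ρ 1 y = y; simp)
          mul_smul := fun g h y => Subtype.ext (by change ρ (g * h) y = ρ g (ρ h y); simp) }
      convert isCharacter_fixedBy (G := H) {y // c y y = a} using 3 with h
      rw [← Fintype.card_subtype, ← Nat.card_eq_fintype_card]
      exact Nat.card_congr ((Equiv.subtypeSubtypeEquivSubtypeInter _ _).symm.trans
        (Equiv.subtypeEquivRight fun y => (Subtype.ext_iff (a1 := h • y)).symm))
    convert sum_mem fun a (_ : a ∈ univ) => smul_mem_IC (h6 a) (mem_IC (this a)) using 1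
    ext h
    rw [← sum_subtype (univ.filter fun y => ρ h y = y) (by simp [sub_eq_zero]) fun y => ψ (c y y),
      ← sum_fiberwise _ fun y => c y y, Finset.sum_apply]
    refine sum_congr rfl fun a _ => ?_
    rw [sum_congr rfl fun y hy => congrArg ψ (mem_filter.1 hy).2]
    simp [filter_filter, and_comm, mul_comm]
  have h7 : ∀ h, IsIntegral ℤ (∑ d : range (ρ h - 1), ψ (c d d)) := fun h => IsIntegral.sum _ fun _ _ => h6 _
  have h8 : IsIntegral ℤ (conj (∑ y, ψ (c y y))) := by
    simp only [map_sum, ← AddChar.map_neg_eq_conj]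
    exact IsIntegral.sum _ fun _ _ => h6 _
  refine ⟨fun h => ∑ d : range (ρ h - 1), ψ (c d d), IC_of_inv hp.out hH h4 h7 (IsIntegral.sum _ fun _ _ => h6 _) h2
    fun h => ⟨_, finrank (ZMod p) V, (h7 h).mul h8, ?_⟩, ?_, fun h e => ?_, fun σ h => ?_⟩
  · rw [← mul_assoc, mul_comm _ (∑ d : range (ρ h - 1), _), h2, gauss_norm c hc h3,
      natCard_eq_pow_finrank (K := ZMod p), Nat.card_zmod, Nat.cast_pow]
  · rw [Fintype.sum_eq_single 0 fun d hd => (hd (Subtype.ext (by simpa using d.2))).elim]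
    simp
  · have : p ∣ Nat.card (range (ρ h - 1)) := by
      rw [natCard_eq_pow_finrank (K := ZMod p), Nat.card_zmod]
      refine dvd_pow_self _ fun a => e ?_
      rw [Submodule.finrank_eq_zero, LinearMap.range_eq_bot (f := ρ h - 1)] at a
      exact LinearMap.ext fun v => sub_eq_zero.1 (LinearMap.congr_fun a v)
    have := (memLocalIdeal_sum (s := univ) (f := fun d : range (ρ h - 1) => ψ (c d d) - 1) fun d _ =>
      memLocalIdeal_sub_one_of_pow_prime_pow hM (h5 (c d d))).add ((memLocalIdeal_natCast_iff hM _).2 this)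
    rwa [sum_sub_distrib, sum_const, card_univ, nsmul_one, Nat.card_eq_fintype_card, sub_add_cancel] at this
  have := gauss_norm (c.restrict (range (ρ h - 1))) (fun w hw => Subtype.ext (hc w fun y => by
    obtain ⟨k, hk, d, hd, rfl⟩ := Submodule.mem_sup.1 ((isCompl_fix (ρ := ρ) hH h).sup_eq_top.ge (Submodule.mem_top (x := y)))
    simpa [h1 h k hk w w.2] using hw ⟨d, hd⟩)) (h3.compMulHom_of_isPrimitive (f := σ.toRingHom.toMonoidHom) σ.injective)
  rw [Complex.mul_conj'] at this
  rw [← Nat.card_congr (Submodule.prodEquivOfIsCompl _ _ (isCompl_fix (ρ := ρ) hH h)).toEquiv, Nat.card_prod,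
    Nat.cast_mul, mul_comm, map_sum]
  exact le_of_eq (congrArg _ (by exact_mod_cast this))

end Cfsg.Lib.Clifford
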