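import Cfsg.Agent.Lib.Clifford.Frobenius
import Cfsg.Agent.Lib.Clifford.Amb
import Cfsg.Agent.Lib.Clifford.Column
import Cfsg.Agent.Lib.Clifford.TI
import Cfsg.Agent.Lib.Char.Center
import Cfsg.Agent.Lib.Transfer.Frobenius

/-! Groups in which all non-identity elements of a Sylow subgroup have the same centralizer
(Brauer–Leonard). -/

set_option autoImplicit false
open Cfsg Cfsg.Lib.Char Cfsg.Lib.Transfer Finset Subgroup
open scoped ComplexConjugate

namespace Cfsg.Lib.Clifford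

variable {G : Type*} [Group G] [Finite G]

/-- the irreducible constituents of `φ` on `H` -/
noncomputable def supp (H : Subgroup G) (φ : G → ℂ) : Finset (G → ℂ) :=
  open Classical in (Irr H).filter fun θ => dot H φ θ ≠ 0

theorem mem_supp {H : Subgroup G} {φ θ : G → ℂ} : θ ∈ supp H φ ↔ θ ∈ Irr H ∧ dot H φ θ ≠ 0 := by
  unfold supp; rw [mem_filter]

theorem CharOn.card_supp_le_mult {H : Subgroup G} {φ : G → ℂ} (h : CharOn H φ) :
    (supp H φ).card ≤ mult H φ φ := by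
  classical
  rw [h.mult_eq_sum h, card_eq_sum_ones]
  refine (sum_le_sum fun θ hθ => ?_).trans (sum_le_sum_of_subset (filter_subset _ _))
  have := (h.mult_ne_zero (irrOn_of_mem (mem_supp.1 hθ).1).charOn).2 (mem_supp.1 hθ).2
  exact Nat.one_le_iff_ne_zero.2 (mul_ne_zero this this)

theorem CharOn.card_supp_le_deg {H : Subgroup G} {φ : G → ℂ} (h : CharOn H φ) :
    (supp H φ).card ≤ charDegree φ := by
  classical
  rw [h.deg_eq_sum, card_eq_sum_ones]
  refine (sum_le_sum fun θ hθ => ?_).trans (sum_le_sum_of_subset (filter_subset _ _))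
  have h1 := irrOn_of_mem (mem_supp.1 hθ).1
  exact Nat.one_le_iff_ne_zero.2
    (mul_ne_zero ((h.mult_ne_zero h1.charOn).2 (mem_supp.1 hθ).2) h1.deg_pos.ne')

/-- restricting to a central subgroup does not increase the number of constituents -/
theorem CharOn.card_supp_central {C P : Subgroup G} {φ : G → ℂ} (h : CharOn C φ) (hPC : P ≤ C)
    (hc : ∀ c ∈ C, ∀ u ∈ P, c * u = u * c) : (supp P φ).card ≤ (supp C φ).card := by
  classical
  have hN : Nrm C P := fun c hc' u hu => by rw [hc c hc' u hu, mul_inv_cancel_right]; exact hu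
  have : ∀ lam ∈ supp P φ, ∃ θ ∈ supp C φ, dot P θ lam ≠ 0 := fun lam hl => by
    obtain ⟨θ, h1, h2, h3⟩ := exists_between hPC h.classOn (mem_supp.1 hl).2
    exact ⟨θ, mem_supp.2 ⟨h1, h2⟩, h3⟩
  choose! f h1 h2 using this
  refine card_le_card_of_injOn f h1 fun a ha b hb e => ?_
  have ha' := (mem_supp.1 (mem_coe.1 ha)).1
  have hb' := (mem_supp.1 (mem_coe.1 hb)).1
  have := mem_orb_of_dot hPC hN (irrOn_of_mem (mem_supp.1 (h1 a ha)).1) (irrOn_of_mem ha')
    (irrOn_of_mem hb') (h2 a ha) (e ▸ h2 b hb)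
  rw [orb_of_invOn hN fun c hc' u hu => by rw [hc c hc' u hu, mul_inv_cancel_right],
    cut_of_mem_Irr ha', cut_of_mem_Irr hb', mem_singleton] at this
  exact this.symm

/-- Cauchy–Schwarz on an abelian subgroup -/
theorem normSq_one_le {P : Subgroup G} (hP : ∀ a ∈ P, ∀ b ∈ P, a * b = b * a) (h : G → ℂ)
    {s : Finset (G → ℂ)} (hs : supp P h ⊆ s) :
    (Nat.card P : ℝ) * ‖h 1‖ ^ 2 ≤ s.card * ∑ u ∈ elems P, ‖h u‖ ^ 2 := by
  classical
  have hc : ClassOn P h := fun a ha b hb => by rw [hP a ha b hb, mul_inv_cancel_right]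
  have e1 : h 1 = ∑ θ ∈ supp P h, dot P h θ := by
    rw [hc.eq_sum P.one_mem, supp, sum_filter]
    refine sum_congr rfl fun θ hθ => ?_
    rw [(irrOn_of_mem hθ).degree_one_of_comm hP, mul_one]
    split_ifs with h0
    · rfl
    · exact not_not.1 h0
  have e2 : (Nat.card P : ℝ)⁻¹ * ∑ u ∈ elems P, ‖h u‖ ^ 2 = ∑ θ ∈ Irr P, ‖dot P h θ‖ ^ 2 := by
    have := hc.dot_eq_sum' h
    rw [dot_self_eq] at this
    simp only [Complex.mul_conj'] at this
    exact_mod_cast this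
  have h0 : (0 : ℝ) < Nat.card P := by exact_mod_cast Nat.card_pos
  have e3 : ∑ u ∈ elems P, ‖h u‖ ^ 2 = Nat.card P * ∑ θ ∈ Irr P, ‖dot P h θ‖ ^ 2 := by
    rw [← e2, mul_inv_cancel_left₀ h0.ne']
  rw [e3, mul_left_comm]
  refine mul_le_mul_of_nonneg_left ?_ h0.le
  calc ‖h 1‖ ^ 2 ≤ (∑ θ ∈ supp P h, ‖dot P h θ‖) ^ 2 := by
        rw [e1]; exact pow_le_pow_left₀ (norm_nonneg _) (norm_sum_le _ _) 2
    _ ≤ (supp P h).card * ∑ θ ∈ supp P h, ‖dot P h θ‖ ^ 2 := sq_sum_le_card_mul_sum_sq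
    _ ≤ _ := mul_le_mul (by exact_mod_cast card_le_card hs)
        (sum_le_sum_of_subset_of_nonneg (filter_subset _ _) fun _ _ _ => by positivity)
        (by positivity) (by positivity)

theorem CharOn.supp_translate {C P : Subgroup G} {φ : G → ℂ} (h : CharOn C φ) (hPC : P ≤ C)
    (hc : ∀ c ∈ C, ∀ u ∈ P, c * u = u * c) {k : G} (hk : k ∈ C) :
    supp P (fun u => φ (u * k)) ⊆ supp P φ := by
  classical
  have hN : Nrm C P := fun c hc' u hu => by rw [hc c hc' u hu, mul_inv_cancel_right]; exact hu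
  intro lam hl
  obtain ⟨h1, h2⟩ := mem_supp.1 hl
  refine mem_supp.2 ⟨h1, fun h0 => h2 ?_⟩
  have hl := irrOn_of_mem h1
  have e : ∀ u ∈ P, φ (u * k) = (∑ θ ∈ Irr C, dot C φ θ • fun u => θ (u * k)) u := fun u hu => by
    rw [h.classOn.eq_sum (C.mul_mem (hPC hu) hk), Finset.sum_apply]; rfl
  rw [dot_congr_left e, dot_sum_left]
  refine sum_eq_zero fun θ hθ => ?_
  rw [dot_smul_left]
  by_cases hd : dot C φ θ = 0
  · rw [hd, zero_mul]
  have h3 : dot P lam θ = 0 := dot_eq_zero_comm.1 <| by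
    by_contra h3
    exact h.dot_ne_zero_trans hPC (irrOn_of_mem hθ) hl.charOn hd h3 h0
  have := (irrOn_of_mem hθ).sum_coset hPC hN (θ := lam)
    (fun c hc' u hu => by rw [hc c hc' u hu, mul_inv_cancel_right]) hk
  rw [h3, mul_zero, zero_div, zero_mul, ← sum_elems_inv] at this
  refine mul_eq_zero_of_right _ ?_
  unfold dot
  rw [sum_congr rfl (g := fun x => lam x⁻¹ * θ (x⁻¹⁻¹ * k)) fun x hx => by
    rw [inv_inv, hl.charOn.apply_inv (mem_elems.1 hx), mul_comm], this, mul_zero]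

theorem dvd_sum_of_orb {N P : Subgroup G} (hN : Nrm N P) {e : ℕ} {X : Finset (G → ℂ)} (hX : X ⊆ Irr P)
    (h1 : ∀ θ ∈ X, orb N P θ ⊆ X) (h2 : ∀ θ ∈ X, (orb N P θ).card = e) (F : (G → ℂ) → ℕ)
    (hF : ∀ θ ∈ X, ∀ φ ∈ orb N P θ, F φ = F θ) : e ∣ ∑ θ ∈ X, F θ := by
  classical
  rw [← sum_fiberwise_of_maps_to (g := orb N P) (t := X.image (orb N P)) fun _ h => mem_image_of_mem _ h]
  refine dvd_sum fun O hO => ?_
  obtain ⟨θ, hθ, rfl⟩ := mem_image.1 hO
  have : X.filter (fun φ => orb N P φ = orb N P θ) = orb N P θ := by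
    ext φ
    rw [mem_filter]
    refine ⟨fun h => ?_, fun h => ⟨h1 θ hθ h, orb_eq_of_mem hN h⟩⟩
    rw [← h.2]
    have := cut_mem_orb (K := N) (N := P) (θ := φ)
    rwa [cut_of_mem_Irr (hX h.1)] at this
  rw [this, sum_congr rfl (hF θ hθ), sum_const, h2 θ hθ, smul_eq_mul]
  exact dvd_mul_right _ _

private theorem arith1 {k t e x : ℕ} (hk : 0 < k) (h1 : k * e + 1 ≤ x)
    (h2 : x ^ 2 + 1 < (k + t) * e + 1) (h4 : (k * e + 1) * t ≤ (k + t) * e) : False := by
  have h5 : (k * e + 1) ^ 2 < (k + t) * e := (Nat.pow_le_pow_left h1 2).trans_lt (by omega)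
  obtain ⟨k, rfl⟩ : ∃ j, k = j + 1 := ⟨k - 1, by omega⟩
  have h6 : t ≤ (k + 1) * e := by nlinarith [Nat.zero_le (k * e * t)]
  nlinarith [Nat.mul_le_mul_right e h6, Nat.zero_le (k * e), Nat.zero_le (k * e * e),
    Nat.zero_le (k * k * e * e)]

private theorem arith2 {j t e f : ℕ} (hj : 0 < j) (h8 : j * e + 2 ≤ (e * f) ^ 2)
    (h9 : (e * f) ^ 2 < (j + t) * e) (h6 : (j * e + 1) * t ≤ (j + t) * e) :
    j = 1 ∧ f = 1 ∧ t = e ∧ 2 ≤ e := by
  have h10 : j < e * f ^ 2 := Nat.lt_of_mul_lt_mul_right (a := e) (by nlinarith)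
  have h12 : e * f ^ 2 < j + t := Nat.lt_of_mul_lt_mul_right (a := e) (by nlinarith)
  obtain rfl : j = 1 := by
    by_contra h13
    obtain ⟨j, rfl⟩ : ∃ i, j = i + 2 := ⟨j - 2, by omega⟩
    obtain ⟨t, rfl⟩ : ∃ i, t = i + 2 := ⟨t - 2, by omega⟩
    nlinarith [Nat.zero_le (j * e * t), Nat.zero_le (j * e), Nat.zero_le (e * t)]
  have h13 : t ≤ e := by nlinarith
  have hf0 : 0 < f := Nat.pos_of_ne_zero fun e0 => by simp [e0] at h10
  have he0 : 0 < e := Nat.pos_of_ne_zero fun e0 => by simp [e0] at h10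
  have h14 : f ^ 2 ≤ 1 := Nat.le_of_mul_le_mul_left (c := e) (by omega) he0
  obtain rfl : f = 1 := by nlinarith
  omega

private theorem arith3 {t n m s : ℕ}
    (i1 : (t ^ 2 * n + 2 * t * m + 1) * ((1 + t) * t + 1) <
      t * (t ^ 2 + 1) * ((1 + t) * t + 1) + s * (t ^ 2 * n + 2 * t * m + 1))
    (i3 : t + 1 ≤ n) (d3 : s ≤ t + 1) : m ≤ 1 := by
  have j1 : t ^ 2 * (t + 1) ≤ t ^ 2 * n := Nat.mul_le_mul_left _ i3
  by_contra h14
  have j2 : 2 * t * 2 ≤ 2 * t * m := Nat.mul_le_mul_left _ (by omega)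
  generalize t ^ 2 * n = a at i1 j1
  generalize 2 * t * m = b at i1 j2
  have j3 := Nat.mul_le_mul_right (a + b + 1) d3
  have j4 : (a + b + 1) * t * t < (t ^ 2 + 1) * ((1 + t) * t + 1) * t := by nlinarith
  have j5 := Nat.lt_of_mul_lt_mul_right j4
  have : 0 < t := Nat.pos_of_ne_zero fun e => by simp [e] at j4
  nlinarith [Nat.mul_le_mul_right t j1, Nat.mul_le_mul_right t j2]

private theorem arith4 {t n m d : ℕ}
    (i2 : (t ^ 2 * n + 2 * t * m + 1) * ((1 + t) * t + 1) <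
      t * (t ^ 2 + 1) * ((1 + t) * t + 1) + (t * d + 1) ^ 2)
    (i3 : t + 1 ≤ n) (hm : 0 < m) : t + 2 ≤ d := by
  have j1 : t ^ 2 * (t + 1) ≤ t ^ 2 * n := Nat.mul_le_mul_left _ i3
  by_contra h14
  have j2 : 2 * t * 1 ≤ 2 * t * m := Nat.mul_le_mul_left _ hm
  have j3 : t * d + 1 ≤ (1 + t) * t + 1 := by nlinarith
  have j4 := Nat.pow_le_pow_left j3 2
  generalize t ^ 2 * n = a at i2 j1
  generalize 2 * t * m = b at i2 j2
  have j5 : (a + b + 1) * ((1 + t) * t + 1) < (t * (t ^ 2 + 1) + ((1 + t) * t + 1)) *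
      ((1 + t) * t + 1) := by nlinarith
  have j6 := Nat.lt_of_mul_lt_mul_right j5
  nlinarith

private theorem arith5 {e a b : ℕ} (h3 : 2 ≤ e) (h : e ≤ 1 + a) (h4 : (e + 2) * a ≤ b)
    (e4 : (e * 1) ^ 2 = 1 + b) : False := by
  obtain ⟨e, rfl⟩ : ∃ i, e = i + 2 := ⟨e - 2, by omega⟩
  nlinarith [Nat.mul_le_mul_left (e + 4) (show e + 1 ≤ a by omega)]

/-- all non-identity elements of the Sylow subgroup `P` have the same centralizer -/
structure UniC (p : ℕ) (P : Subgroup G) : Prop where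
  syl : SylowIn p P ⊤
  cen : ∀ x ∈ P, x ≠ 1 → centralizer ({x} : Set G) = centralizer (P : Set G)

namespace UniC

variable {p : ℕ} [hp : Fact p.Prime] {P : Subgroup G} (h : UniC p P)
include h

omit [Finite G] hp in
theorem le : P ≤ centralizer (P : Set G) := fun x hx => by
  by_cases h1 : x = 1
  · rw [h1]; exact one_mem _
  · rw [← h.cen x hx h1]; exact mem_centralizer_singleton_iff.2 rfl

omit [Finite G] hp h in
theorem comm : ∀ c ∈ centralizer (P : Set G), ∀ u ∈ P, c * u = u * c :=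
  fun _ hc u hu => (hc u hu).symm

theorem mem {u : G} (hu : u ∈ centralizer (P : Set G)) {k : ℕ} (hk : u ^ p ^ k = 1) : u ∈ P := by
  refine h.syl.le_of_normalizes (Q := zpowers u) ?_ le_top ?_ (mem_zpowers u)
  · obtain ⟨j, -, hj⟩ := (Nat.dvd_prime_pow hp.out).1 (orderOf_dvd_of_pow_eq_one hk)
    exact IsPGroup.of_card (by rw [Nat.card_zpowers, hj])
  · exact (zpowers_le.2 hu).trans (centralizer_le_normalizer _)

theorem ti (g : G) (a : G) (ha : a ∈ centralizer (P : Set G)) (ho : p ∣ orderOf a)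
    (hg : g * a * g⁻¹ ∈ centralizer (P : Set G)) : g ∈ normalizer (P : Set G) := by
  obtain ⟨m, hm⟩ := ho
  have h0 : orderOf a ≠ 0 := (orderOf_pos a).ne'
  have hu : (a ^ m) ^ p ^ 1 = 1 := by rw [pow_one, ← pow_mul, mul_comm, ← hm, pow_orderOf_eq_one]
  have hu1 : a ^ m ≠ 1 := fun e => by
    have := Nat.le_of_dvd (Nat.pos_of_ne_zero fun e => h0 (by rw [hm, e, mul_zero]))
      (orderOf_dvd_of_pow_eq_one e)
    have h2 := hp.out.two_le
    have : m ≠ 0 := fun e => h0 (by rw [hm, e, mul_zero])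
    have : 0 < m := Nat.pos_of_ne_zero this
    nlinarith
  have h1 := h.mem (pow_mem ha m) hu
  have h2 : g * a ^ m * g⁻¹ ∈ P := by
    refine h.mem (k := 1) (by rw [← conj_pow]; exact pow_mem hg m) ?_
    rw [conj_pow, hu, mul_one, mul_inv_cancel]
  have h3 : g * a ^ m * g⁻¹ ≠ 1 := fun e => hu1 (by simpa using e)
  refine mem_normalizer_of_cj_le (cj_le_iff.2 fun y hy => ?_)
  obtain ⟨k, hk⟩ := h.syl.2 ⟨y, hy⟩
  refine h.mem (k := k) ?_ ?_
  · rw [← h.cen _ h2 h3, mem_centralizer_singleton_iff]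
    have := h.le hy _ h1
    calc g * y * g⁻¹ * (g * a ^ m * g⁻¹) = g * (y * a ^ m) * g⁻¹ := by group
      _ = _ := by rw [← this]; group
  · rw [conj_pow, show y ^ p ^ k = 1 from congrArg Subtype.val hk, mul_one, mul_inv_cancel]

omit h in
/-- the `p`-regular elements of the centralizer -/
noncomputable def reg (p : ℕ) (P : Subgroup G) : Finset G :=
  (elems (centralizer (P : Set G))).filter fun a => ¬ p ∣ orderOf a

theorem sum_lt {f : G → ℂ} (hf : ClassOn ⊤ f) (h1 : f 1 ≠ 0) :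
    ∑ c ∈ elems (centralizer (P : Set G)), ‖f c‖ ^ 2 - ∑ k ∈ reg p P, ‖f k‖ ^ 2 <
      Nat.card (normalizer (P : Set G)) * (dot ⊤ f f).re := by
  classical
  set C := centralizer (P : Set G)
  set N := normalizer (P : Set G)
  have hCN : C ≤ N := centralizer_le_normalizer _
  have hN : Nrm N C := nrm_of_le_normalizer fun g hg => by
    rw [← cj_eq_iff, cj_centralizer, cj_eq_of_mem_normalizer hg]
  let A : Set G := {a | a ∈ C ∧ p ∣ orderOf a}
  let φ : G → ℂ := fun x => if x ∈ A then f x else 0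
  have hφ : ClassOn N φ := fun g hg x _ => by
    have : g * x * g⁻¹ ∈ A ↔ x ∈ A := and_congr (hN.mem_iff hg x) (by
      rw [show g * x * g⁻¹ = MulAut.conj g x from rfl, MulEquiv.orderOf_eq])
    simp only [φ, this, hf g trivial x trivial]
  have hA1 : (1 : G) ∉ A := fun e => hp.out.one_lt.ne' (by simpa using e.2)
  have e1 : dot ⊤ (ind N ⊤ φ) (ind N ⊤ φ) = dot N φ φ :=
    dot_ind_ind_ti le_top (A := A) (fun g _ hg a ha hga => absurd (h.ti g a ha.1 ha.2 hga.1) hg)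
      (fun x _ hx => if_neg hx) (if_neg hA1) hφ fun x _ hx _ => if_neg hx
  have e2 : dot N φ f = dot N φ φ := by
    unfold dot
    congr 1
    refine sum_congr rfl fun x _ => ?_
    by_cases hx : x ∈ A <;> simp [φ, hx]
  have e3 : dot ⊤ (ind N ⊤ φ) f = dot N φ φ := by rw [dot_ind_left le_top _ hf, e2]
  have e4 : dot ⊤ f (ind N ⊤ φ) = dot N φ φ := by rw [← dot_conj, e3, dot_conj]
  have e5 : dot ⊤ (f - ind N ⊤ φ) (f - ind N ⊤ φ) = dot ⊤ f f - dot N φ φ := by
    rw [dot_sub_left, dot_sub_right, dot_sub_right, e1, e3, e4]; ring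
  have e6 : 0 < (dot ⊤ (f - ind N ⊤ φ) (f - ind N ⊤ φ)).re := by
    rw [dot_self_eq, Complex.ofReal_re]
    refine mul_pos (by simp) (sum_pos' (fun _ _ => by positivity)
      ⟨1, mem_elems.2 trivial, ?_⟩)
    rw [Pi.sub_apply, ind_one le_top, show φ 1 = 0 from if_neg hA1, mul_zero, sub_zero]
    positivity
  have e7 : ∑ x ∈ elems N, ‖φ x‖ ^ 2 = ∑ c ∈ elems C, ‖f c‖ ^ 2 - ∑ k ∈ reg p P, ‖f k‖ ^ 2 := by
    rw [eq_sub_iff_add_eq, ← sum_filter_add_sum_filter_not (elems C) fun a => p ∣ orderOf a]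
    congr 1
    rw [← sum_subset (s₁ := (elems C).filter fun a => p ∣ orderOf a)]
    · refine sum_congr rfl fun x hx => ?_
      rw [mem_filter, mem_elems] at hx
      rw [show φ x = f x from if_pos hx]
    · exact (filter_subset _ _).trans (elems_mono hCN)
    · intro x _ hx
      rw [mem_filter, mem_elems] at hx
      rw [show φ x = 0 from if_neg hx]; simp
  rw [e5, dot_self_eq N, e7, Complex.sub_re, Complex.ofReal_re, sub_pos,
    inv_mul_lt_iff₀ (by exact_mod_cast Nat.card_pos)] at e6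
  exact e6

theorem sum_reg_le (F : G → ℝ) (hF : ∀ x, 0 ≤ F x) :
    ∑ k ∈ reg p P, ∑ u ∈ elems P, F (u * k) ≤ ∑ c ∈ elems (centralizer (P : Set G)), F c := by
  classical
  rw [← sum_product', ← sum_image (g := fun x : G × G => x.2 * x.1) (f := F)]
  · refine sum_le_sum_of_subset_of_nonneg (fun c hc => ?_) fun _ _ _ => hF _
    obtain ⟨x, hx, rfl⟩ := mem_image.1 hc
    rw [mem_product, reg, mem_filter, mem_elems, mem_elems] at hx
    exact mem_elems.2 (mul_mem (h.le hx.2) hx.1.1)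
  rintro ⟨k, u⟩ hx ⟨k', u'⟩ hy e
  simp only [reg, coe_product, Set.mem_prod, coe_filter, mem_elems, Set.mem_ofPred_eq, mem_coe] at hx hy e
  have hv : u'⁻¹ * u ∈ P := mul_mem (inv_mem hy.2) hx.2
  have e1 : k' = (u'⁻¹ * u) * k := by rw [mul_assoc, e, inv_mul_cancel_left]
  have hc : Commute (u'⁻¹ * u) k := hx.1.1 _ hv
  have e2 : (u'⁻¹ * u) ^ (orderOf k * orderOf k') = 1 := by
    have : k' ^ (orderOf k * orderOf k') = 1 := by rw [mul_comm, pow_mul, pow_orderOf_eq_one, one_pow]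
    conv at this => lhs; lhs; rw [e1]
    rwa [hc.mul_pow, pow_mul k, pow_orderOf_eq_one, one_pow, mul_one] at this
  obtain ⟨j, hj⟩ := h.syl.2 ⟨_, hv⟩
  have e3 : u'⁻¹ * u = 1 := by
    rw [← orderOf_eq_one_iff]
    refine Nat.eq_one_of_dvd_coprimes (Nat.Coprime.pow_left j ?_)
      (orderOf_dvd_of_pow_eq_one (congrArg Subtype.val hj)) (orderOf_dvd_of_pow_eq_one e2)
    exact (hp.out.coprime_iff_not_dvd.2 hx.1.2).mul_right (hp.out.coprime_iff_not_dvd.2 hy.1.2)
  rw [e3, one_mul] at e1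
  rw [e1, inv_mul_eq_one.1 e3]

omit h hp in
theorem sum_eq_mult {H : Subgroup G} {f : G → ℂ} (hf : CharOn H f) :
    ∑ c ∈ elems H, ‖f c‖ ^ 2 = Nat.card H * mult H f f := by
  have := hf.dot_eq_mult hf
  rw [dot_self_eq] at this
  have h0 : (Nat.card H : ℝ) ≠ 0 := by exact_mod_cast Nat.card_pos.ne'
  rw [← inv_mul_eq_iff_eq_mul₀ h0]
  exact_mod_cast this

/-- the basic inequality -/
theorem ineq {f : G → ℂ} (hf : CharOn ⊤ f) (h1 : f 1 ≠ 0) :
    mult (centralizer (P : Set G)) f f * Nat.card P <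
      (centralizer (P : Set G)).relIndex (normalizer (P : Set G)) * mult ⊤ f f * Nat.card P +
        (supp P f).card * mult (centralizer (P : Set G)) f f := by
  have h2 := h.sum_lt hf.classOn h1
  have h3 := h.sum_reg_le (fun x => ‖f x‖ ^ 2) fun _ => by positivity
  have h4 : (Nat.card P : ℝ) * ∑ k ∈ reg p P, ‖f k‖ ^ 2 ≤
      (supp P f).card * ∑ k ∈ reg p P, ∑ u ∈ elems P, ‖f (u * k)‖ ^ 2 := by
    rw [mul_sum, mul_sum]
    refine sum_le_sum fun k hk => ?_
    have := normSq_one_le (fun a ha => comm a (h.le ha)) _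
      ((hf.mono le_top).supp_translate h.le comm (mem_elems.1 (mem_filter.1 hk).1))
    rwa [one_mul] at this
  rw [sum_eq_mult (hf.mono le_top)] at h2 h3
  rw [hf.dot_eq_mult hf, Complex.natCast_re, ← card_mul_relIndex (centralizer_le_normalizer _),
    Nat.cast_mul] at h2
  have h5 : (0 : ℝ) < Nat.card (centralizer (P : Set G)) := by exact_mod_cast Nat.card_pos
  have h6 : (0 : ℝ) < Nat.card P := by exact_mod_cast Nat.card_pos
  have h7 := h4.trans (mul_le_mul_of_nonneg_left h3 (Nat.cast_nonneg _))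
  rw [← Nat.cast_lt (α := ℝ), ← mul_lt_mul_iff_right₀ h5]
  push_cast
  nlinarith

/-- the second inequality -/
theorem ineq' {f : G → ℂ} (hf : CharOn ⊤ f) (h1 : f 1 ≠ 0) :
    mult (centralizer (P : Set G)) f f * Nat.card P <
      (centralizer (P : Set G)).relIndex (normalizer (P : Set G)) * mult ⊤ f f * Nat.card P +
        charDegree f ^ 2 := by
  have h2 := h.sum_lt hf.classOn h1
  have h3 := h.sum_reg_le (fun _ => 1) fun _ => by positivity
  have h4 : ∑ k ∈ reg p P, ‖f k‖ ^ 2 ≤ (reg p P).card * (charDegree f : ℝ) ^ 2 := by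
    rw [← nsmul_eq_mul]
    refine sum_le_card_nsmul _ _ _ fun k _ => pow_le_pow_left₀ (norm_nonneg _) ?_ 2
    have := hf.norm_le (x := k) trivial
    rwa [hf.one_eq, Complex.norm_natCast] at this
  simp only [sum_const, card_elems, nsmul_eq_mul, mul_one] at h3
  rw [sum_eq_mult (hf.mono le_top)] at h2
  rw [hf.dot_eq_mult hf, Complex.natCast_re, ← card_mul_relIndex (centralizer_le_normalizer _),
    Nat.cast_mul] at h2
  have h5 : (0 : ℝ) < Nat.card (centralizer (P : Set G)) := by exact_mod_cast Nat.card_pos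
  have h6 : (0 : ℝ) < Nat.card P := by exact_mod_cast Nat.card_pos
  have h7 := mul_le_mul_of_nonneg_right h3 (sq_nonneg (charDegree f : ℝ))
  rw [← Nat.cast_lt (α := ℝ), ← mul_lt_mul_iff_right₀ h5]
  push_cast
  nlinarith

variable [DecidableEq (G → ℂ)]

omit hp in
theorem card_orb_eq {lam : G → ℂ} (hl : lam ∈ (Irr P).erase (cut P 1)) :
    (orb (normalizer (P : Set G)) P lam).card =
      (centralizer (P : Set G)).relIndex (normalizer (P : Set G)) := by
  classical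
  have hN : Nrm (normalizer (P : Set G)) P := nrm_of_le_normalizer le_rfl
  obtain ⟨h1, hl⟩ := mem_erase.1 hl
  rw [card_orb]
  congr 1
  refine le_antisymm (fun g hg => ?_) (le_inertia_of_invOn hN (centralizer_le_normalizer _)
    fun c hc u hu => by rw [comm c hc u hu, mul_inv_cancel_right])
  by_contra hC
  obtain ⟨h2, h3⟩ := (mem_inertia hN).1 hg
  refine h1 ((irr_eq_one_iff hl).2 (eq_one_of_cj_eq hN h2 (fun n hn m hm e => ?_) (irrOn_of_mem hl) h3))
  by_contra h4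
  refine hC ?_
  rw [← h.cen n hn h4, mem_centralizer_singleton_iff, ← mul_inv_eq_iff_eq_mul, ← e,
    comm m (h.le hm) n hn, mul_inv_cancel_right]

omit hp in
theorem dvd_sum {X : Finset (G → ℂ)} (hX : X ⊆ Irr P)
    (h1 : ∀ θ ∈ X, orb (normalizer (P : Set G)) P θ ⊆ X) (F : (G → ℂ) → ℕ)
    (hF : ∀ θ ∈ X, ∀ φ ∈ orb (normalizer (P : Set G)) P θ, F φ = F θ) :
    (centralizer (P : Set G)).relIndex (normalizer (P : Set G)) ∣ ∑ θ ∈ X.erase (cut P 1), F θ := by
  classical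
  have hN : Nrm (normalizer (P : Set G)) P := nrm_of_le_normalizer le_rfl
  refine dvd_sum_of_orb hN ((erase_subset _ _).trans hX) (fun θ hθ φ hφ => ?_)
    (fun θ hθ => h.card_orb_eq (erase_subset_erase _ hX hθ)) F fun θ hθ => hF θ (mem_of_mem_erase hθ)
  refine mem_erase.2 ⟨fun e => (mem_erase.1 hθ).1 ?_, h1 θ (mem_of_mem_erase hθ) hφ⟩
  have h2 := orb_eq_of_mem hN hφ
  rw [e, orb_of_invOn hN fun g hg n hn => by
    rw [cut_of_mem _ hn, cut_of_mem _ (hN g hg n hn)]; rfl] at h2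
  have h3 := cut_mem_orb (K := normalizer (P : Set G)) (N := P) (θ := θ)
  rw [← h2, mem_singleton, cut_of_mem_Irr (hX (mem_of_mem_erase hθ)),
    cut_of_mem_Irr (cut_one_mem P)] at h3
  exact h3

omit hp in
theorem dvd_card_supp {f : G → ℂ} (hf : ClassOn ⊤ f) :
    (centralizer (P : Set G)).relIndex (normalizer (P : Set G)) ∣ ((supp P f).erase (cut P 1)).card := by
  have hN : Nrm (normalizer (P : Set G)) P := nrm_of_le_normalizer le_rfl
  rw [card_eq_sum_ones]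
  refine h.dvd_sum (filter_subset _ _) (fun θ hθ φ hφ => ?_) _ fun _ _ _ _ => rfl
  obtain ⟨h1, h2⟩ := mem_supp.1 hθ
  exact mem_supp.2 ⟨orb_subset hN (irrOn_of_mem h1) hφ,
    by rwa [dot_of_mem_orb le_normalizer hN (hf.mono' le_top) hφ]⟩

omit hp [DecidableEq (G → ℂ)] in
theorem card_Irr_eq : (Irr P).card = Nat.card P := by
  rw [← sum_deg_sq, card_eq_sum_ones]
  refine sum_congr rfl fun θ hθ => ?_
  rw [((irrOn_of_mem hθ).linOn_of_comm fun a ha => comm a (h.le ha)).deg, one_pow]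

omit hp [DecidableEq (G → ℂ)] in
theorem exists_card : ∃ r, Nat.card P =
    r * (centralizer (P : Set G)).relIndex (normalizer (P : Set G)) + 1 := by
  classical
  have hN : Nrm (normalizer (P : Set G)) P := nrm_of_le_normalizer le_rfl
  obtain ⟨r, hr⟩ := h.dvd_sum subset_rfl (fun θ hθ => orb_subset hN (irrOn_of_mem hθ)) (fun _ => 1)
    fun _ _ _ _ => rfl
  rw [← card_eq_sum_ones] at hr
  exact ⟨r, by rw [mul_comm, ← hr, ← h.card_Irr_eq]; convert (card_erase_add_one (cut_one_mem P)).symm⟩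

omit hp [DecidableEq (G → ℂ)] in
theorem dvd_deg {f : G → ℂ} (hf : CharOn ⊤ f) (h0 : cut P 1 ∉ supp P f) :
    (centralizer (P : Set G)).relIndex (normalizer (P : Set G)) ∣ charDegree f := by
  classical
  have hN : Nrm (normalizer (P : Set G)) P := nrm_of_le_normalizer le_rfl
  have := h.dvd_sum subset_rfl (fun θ hθ => orb_subset hN (irrOn_of_mem hθ))
    (fun θ => mult P f θ * charDegree θ) fun θ hθ φ hφ => by
      simp only [mult, charDegree, orb_one hφ,
        dot_of_mem_orb le_normalizer hN (hf.classOn.mono' le_top) hφ]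
  rw [(hf.mono (le_top (a := P))).deg_eq_sum, ← add_sum_erase _ _ (cut_one_mem P),
    mult_of_eq (n := 0) (by simpa [mem_supp, cut_one_mem] using h0), zero_mul, zero_add]
  convert this

omit h hp in
theorem exists_mem_supp {ψ : G → ℂ} (hψ : CharOn P ψ) (ht : ¬ Triv P ψ) :
    ((supp P ψ).erase (cut P 1)).Nonempty := by
  classical
  by_contra h0
  refine ht fun x hx => hψ.classOn.eq_of_forall hx fun θ hθ hd => ?_
  by_contra h1
  refine h0 ⟨θ, mem_erase.2 ⟨fun e => h1 ?_, mem_supp.2 ⟨hθ, hd⟩⟩⟩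
  rw [e, cut_of_mem _ hx, cut_of_mem _ P.one_mem]; rfl

omit [DecidableEq (G → ℂ)] in
theorem shape {ψ : G → ℂ} (hψ : IrrOn ⊤ ψ) (ht : ¬ Triv P ψ) (h1 : cut P 1 ∈ supp P ψ) {e r : ℕ}
    (he : (centralizer (P : Set G)).relIndex (normalizer (P : Set G)) = e)
    (hr : Nat.card P = r * e + 1) : ∃ k t, 0 < k ∧ r = k + t ∧ (supp P ψ).card = k * e + 1 ∧
      (k * e + 1) * t ≤ r * e := by
  classical
  obtain ⟨k, hk⟩ := h.dvd_card_supp hψ.classOn
  have h2 := (exists_mem_supp (hψ.charOn.mono le_top) ht).card_pos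
  have h3 : (supp P ψ).card = k * e + 1 := by
    rw [mul_comm, ← he, ← hk]; convert (card_erase_add_one h1).symm
  have he0 : 0 < e := he ▸ Nat.pos_of_ne_zero (relIndex_ne_zero _ _)
  have h4 : (supp P ψ).card ≤ Nat.card P := h.card_Irr_eq ▸ card_filter_le _ _
  obtain ⟨t, rfl⟩ : ∃ t, r = k + t := Nat.exists_eq_add_of_le (by
    rw [h3, hr] at h4; exact Nat.le_of_mul_le_mul_right (by omega) he0)
  refine ⟨k, t, Nat.pos_of_ne_zero fun e0 => by simp [hk, e0] at h2, rfl, h3, ?_⟩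
  have h5 := h.ineq hψ.charOn hψ.one_ne_zero
  have h6 := ((hψ.charOn.mono le_top).card_supp_central h.le comm).trans
    (hψ.charOn.mono le_top).card_supp_le_mult
  rw [mult_of_eq (H := ⊤) (n := 1) (by rw [hψ.dot_self, Nat.cast_one]), he, hr, h3] at h5
  rw [h3] at h6
  generalize mult _ ψ ψ = n at h5 h6
  have h7 : n * t * e < ((k + t) * e + 1) * e := by nlinarith
  have h8 := Nat.lt_of_mul_lt_mul_right h7
  nlinarith

omit [DecidableEq (G → ℂ)] in
theorem border {ψ : G → ℂ} (hψ : IrrOn ⊤ ψ) (hψ1 : ψ ≠ 1) (h4 : cut P 1 ∈ supp P ψ) {t : ℕ}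
    (he : (centralizer (P : Set G)).relIndex (normalizer (P : Set G)) = t)
    (hr : Nat.card P = (1 + t) * t + 1) (h5 : (supp P ψ).card = t + 1)
    (hm : 0 < mult (centralizer (P : Set G)) ψ 1) :
    mult (centralizer (P : Set G)) ψ 1 ≤ 1 ∧ t + 2 ≤ charDegree ψ := by
  classical
  have hF : CharOn ⊤ ((t : ℂ) • ψ + 1) := (hψ.charOn.smul t).add (charOn_one ⊤)
  have hF1 : ((t : ℂ) • ψ + 1) 1 = (t * charDegree ψ + 1 : ℕ) := by simp [hψ.one_eq]
  have d1 : ∀ H : Subgroup G, mult H ((t : ℂ) • ψ + 1) ((t : ℂ) • ψ + 1) =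
      t ^ 2 * mult H ψ ψ + 2 * t * mult H ψ 1 + 1 := fun H => mult_of_eq (by
    have h1 := hψ.charOn.mono (le_top (a := H))
    rw [dot_add_left, dot_add_right, dot_add_right, dot_smul_left, dot_smul_left, dot_smul_right,
      dot_smul_right, (charOn_one H).dot_comm h1, h1.dot_eq_mult h1, h1.dot_eq_mult (charOn_one H),
      (irrOn_one H).dot_self, Complex.conj_natCast]
    push_cast; ring)
  have d2 : mult ⊤ ((t : ℂ) • ψ + 1) ((t : ℂ) • ψ + 1) = t ^ 2 + 1 := by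
    rw [d1, mult_of_eq (n := 1) (by rw [hψ.dot_self, Nat.cast_one]), mult_of_eq (n := 0) (by
      rw [hψ.dot_eq_zero (irrOn_one ⊤) fun e => hψ1 (funext fun x => e x trivial), Nat.cast_zero])]
    ring
  have d3 : (supp P ((t : ℂ) • ψ + 1)).card ≤ t + 1 := by
    rw [← h5]
    refine card_le_card fun θ hθ => ?_
    obtain ⟨h1, h2⟩ := mem_supp.1 hθ
    by_contra h3
    rw [dot_add_left, dot_smul_left, not_not.1 fun e => h3 (mem_supp.2 ⟨h1, e⟩), mul_zero,
      zero_add, ← dot_cut_left] at h2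
    exact h3 (eq_of_dot_ne_zero (cut_one_mem P) h1 h2 ▸ h4)
  have i1 := h.ineq hF (by rw [hF1]; exact Nat.cast_ne_zero.2 (Nat.succ_ne_zero _))
  have i2 := h.ineq' hF (by rw [hF1]; exact Nat.cast_ne_zero.2 (Nat.succ_ne_zero _))
  have i3 := ((hψ.charOn.mono le_top).card_supp_central h.le comm).trans
    (hψ.charOn.mono le_top).card_supp_le_mult
  rw [d2, he, hr, d1] at i1 i2
  rw [charDegree_of_eq hF1] at i2
  rw [h5] at i3
  exact ⟨arith3 i1 i3 d3, arith4 i2 i3 hm⟩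

omit [DecidableEq (G → ℂ)] in
/-- Brauer–Leonard -/
theorem deg_eq_one (hgen : ∀ K : Subgroup G, K.Normal → P ≤ K → K = ⊤) {χ : G → ℂ}
    (hχ : IrrOn ⊤ χ) (hd : charDegree χ ^ 2 + 1 < Nat.card P) :
    (∀ x, χ x = 1) ∨ charDegree χ = 1 ∧ normalizer (P : Set G) ≤ centralizer (P : Set G) := by
  classical
  have htriv : ∀ ψ, IrrOn ⊤ ψ → Triv P ψ → ∀ x, ψ x = 1 := fun ψ hψ ht x =>
    hψ.eq_one_of_triv (by
      have := triv_kerOn (K := ⊤) (χ := ψ)
      rwa [hgen _ hψ.classOn.nrm_kerOn.normal ((hψ.charOn.le_kerOn le_top).2 ht)] at this) x trivial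
  by_cases ht : Triv P χ
  · exact .inl (htriv χ hχ ht)
  refine .inr ?_
  obtain ⟨r, hr⟩ := h.exists_card
  set C := centralizer (P : Set G) with hC
  generalize he : C.relIndex (normalizer (P : Set G)) = e at hr
  have he0 : 0 < e := he ▸ Nat.pos_of_ne_zero (relIndex_ne_zero _ _)
  have hs := (hχ.charOn.mono (le_top (a := P))).card_supp_le_deg
  have h0 : cut P 1 ∉ supp P χ := fun h0 => by
    obtain ⟨k, t, hk, rfl, h3, h4⟩ := h.shape hχ ht h0 he hr
    exact arith1 hk (h3 ▸ hs) (hr ▸ hd) h4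
  obtain ⟨f, hf⟩ := h.dvd_deg hχ.charOn h0
  obtain ⟨k, hk⟩ := h.dvd_card_supp hχ.classOn
  have h2 := (exists_mem_supp (hχ.charOn.mono le_top) ht).card_pos
  rw [he] at hf hk
  rw [erase_eq_of_notMem h0] at hk h2
  have hk0 : 0 < k := Nat.pos_of_ne_zero fun e0 => by simp [hk, e0] at h2
  have hn := ((hχ.charOn.mono le_top).card_supp_central h.le comm).trans
    (hχ.charOn.mono le_top).card_supp_le_mult
  rw [← hC] at hn
  by_cases hn1 : mult C χ χ ≤ 1
  · have h3 : (supp P χ).card = 1 := by omega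
    have he1 : e = 1 := Nat.eq_one_of_mul_eq_one_right (hk.symm.trans h3)
    refine ⟨?_, by rw [← he, relIndex_eq_one] at he1; exact he1⟩
    obtain ⟨lam, hl⟩ := card_eq_one.1 h3
    have hl1 := mem_supp.1 (hl ▸ mem_singleton_self lam)
    have hl2 := (irrOn_of_mem hl1.1).linOn_of_comm fun a ha => comm a (h.le ha)
    have h4 : ∀ u ∈ P, χ u = dot P χ lam * lam u := fun u hu => by
      rw [(hχ.classOn.mono' le_top).eq_sum hu, sum_eq_single_of_mem lam hl1.1 fun θ hθ hne => ?_]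
      by_contra h5
      exact hne (mem_singleton.1 (hl ▸ mem_supp.2 ⟨hθ, left_ne_zero_of_mul h5⟩))
    have h5 := (irrOn_top.1 hχ).degree_sq_le_index (Z := charCenter χ) le_rfl hχ.one_eq
    rw [hgen _ (classOn_top.1 hχ.classOn).charCenter_normal fun u hu => by
      rw [(irrOn_top.1 hχ).mem_charCenter, h4 u hu, h4 1 P.one_mem, norm_mul, norm_mul,
        hl2.norm_eq hu, hl2.norm_eq P.one_mem], index_top] at h5
    exact le_antisymm ((Nat.le_self_pow two_ne_zero _).trans h5) hχ.deg_pos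
  exfalso
  have hΦ : CharOn ⊤ (χ * star χ) := hχ.charOn.mul hχ.charOn.star
  have e1 : ∀ H : Subgroup G, dot H (χ * star χ) 1 = dot H χ χ := fun H => by
    rw [dot_mul_left, star_star, one_mul]
  have e2 : charDegree (χ * star χ) = (e * f) ^ 2 := charDegree_of_eq (by
    rw [Pi.mul_apply, Pi.star_apply, hχ.one_eq, hf]; simp [sq])
  have h11 : (1 : G → ℂ) ∈ Irr (⊤ : Subgroup G) := by simpa [cut_top] using cut_one_mem (⊤ : Subgroup G)
  generalize χ * star χ = Φ at hΦ e1 e2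
  have e3 : mult ⊤ Φ 1 = 1 := mult_of_eq (by rw [e1, hχ.dot_self, Nat.cast_one])
  have e4 : (e * f) ^ 2 = 1 + ∑ ψ ∈ (Irr ⊤).erase 1, mult ⊤ Φ ψ * charDegree ψ := by
    rw [← e2, hΦ.deg_eq_sum, ← add_sum_erase _ _ h11, e3, (linOn_one ⊤).deg]
  have e5 : mult C χ χ = 1 + ∑ ψ ∈ (Irr ⊤).erase 1, mult ⊤ Φ ψ * mult C ψ 1 := by
    have : mult C χ χ = ∑ ψ ∈ Irr ⊤, mult ⊤ Φ ψ * mult C ψ 1 := by
      have e6 := hΦ.classOn.cut_eq_sum
      rw [cut_top] at e6
      rw [← Nat.cast_inj (R := ℂ), ← (hχ.charOn.mono le_top).dot_eq_mult (hχ.charOn.mono le_top),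
        ← e1, dot_congr_left fun x _ => congrFun e6 x, dot_sum_left, Nat.cast_sum]
      refine sum_congr rfl fun ψ hψ => ?_
      rw [dot_smul_left, hΦ.dot_eq_mult (irrOn_of_mem hψ).charOn,
        ((irrOn_of_mem hψ).charOn.mono le_top).dot_eq_mult (charOn_one C), Nat.cast_mul]
    rw [this, ← add_sum_erase _ _ h11, e3,
      mult_of_eq (n := 1) (by rw [(irrOn_one C).dot_self, Nat.cast_one])]
  have key : ∀ ψ ∈ (Irr ⊤).erase 1, mult ⊤ Φ ψ * mult C ψ 1 ≠ 0 →
      f = 1 ∧ 2 ≤ e ∧ mult C ψ 1 ≤ 1 ∧ e + 2 ≤ charDegree ψ := fun ψ hψ hm => by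
    have h3 := single_le_sum (f := fun ψ => mult ⊤ Φ ψ * charDegree ψ) (fun _ _ => Nat.zero_le _) hψ
    obtain ⟨hψ1, hψ⟩ := mem_erase.1 hψ
    have hψ := irrOn_of_mem hψ
    have hm2 := Nat.pos_of_ne_zero (right_ne_zero_of_mul hm)
    have hψt : ¬ Triv P ψ := fun ht => hψ1 (funext (htriv ψ hψ ht))
    have h4 : cut P 1 ∈ supp P ψ := mem_supp.2 ⟨cut_one_mem P, by
      rw [dot_cut_right]
      refine (hψ.charOn.mono le_top).dot_ne_zero_trans h.le (irrOn_one C) (charOn_one P)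
        (((hψ.charOn.mono le_top).mult_ne_zero (charOn_one C)).1 hm2.ne') ?_
      rw [(irrOn_one P).dot_self]; exact one_ne_zero⟩
    obtain ⟨j, t, hj, rfl, h5, h6⟩ := h.shape hψ hψt h4 he hr
    have h7 := ((hψ.charOn.mono (le_top (a := P))).card_supp_le_deg.trans
      (Nat.le_mul_of_pos_left _ (Nat.pos_of_ne_zero (left_ne_zero_of_mul hm)))).trans h3
    obtain ⟨rfl, rfl, rfl, h8⟩ := arith2 hj (e := e) (f := f) (t := t) (by omega)
      (by rw [hf, hr] at hd; omega) h6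
    exact ⟨rfl, h8, h.border hψ hψ1 h4 he hr (by rw [h5, one_mul]) hm2⟩
  obtain ⟨ψ, hψ, hm⟩ : ∃ ψ ∈ (Irr ⊤).erase 1, mult ⊤ Φ ψ * mult C ψ 1 ≠ 0 :=
    exists_ne_zero_of_sum_ne_zero (by omega)
  obtain ⟨rfl, h3, -⟩ := key ψ hψ hm
  have h4 : (e + 2) * ∑ ψ ∈ (Irr ⊤).erase 1, mult ⊤ Φ ψ * mult C ψ 1 ≤
      ∑ ψ ∈ (Irr ⊤).erase 1, mult ⊤ Φ ψ * charDegree ψ := by
    rw [mul_sum]
    refine sum_le_sum fun ψ hψ => ?_
    by_cases hm : mult ⊤ Φ ψ * mult C ψ 1 = 0
    · rw [hm]; exact Nat.zero_le _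
    obtain ⟨-, -, h4, h5⟩ := key ψ hψ hm
    rw [mul_left_comm]
    exact Nat.mul_le_mul_left _ ((Nat.mul_le_mul_left _ h4).trans (by rwa [mul_one]))
  rw [hk, e5] at hn
  exact arith5 h3 ((Nat.le_mul_of_pos_right _ hk0).trans hn) h4 e4

end UniC

end Cfsg.Lib.Clifford
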