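import Cfsg.Agent.Lib.Clifford.Schur
import Cfsg.Agent.Lib.Clifford.Amb
import Cfsg.Agent.Lib.BG1.PLength
import Cfsg.Agent.Lib.Amalg.Ops
import Cfsg.Agent.Lib.HH.ThmB

/-! `p`-solvable linear groups (Isaacs 14.5, 14.21). -/

set_option autoImplicit false

namespace Cfsg.Lib.Clifford

open Cfsg Cfsg.Lib.Char Subgroup Finset

variable {Γ : Type*} [Group Γ] [Finite Γ] {H T : Subgroup Γ} {χ : Γ → ℂ} {p : ℕ} [hp : Fact p.Prime]

theorem exists_pp_pair (hs : IsPSolvable p Γ) : ∃ H T : Subgroup Γ, ¬ p ∣ Nat.card H ∧ IsPGroup p T ∧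
    T ≤ normalizer (H : Set Γ) ∧ T ⊓ centralizer (H : Set Γ) ≤ pCore p Γ ∧
    Amalg.Syl p (T.map (QuotientGroup.mk' (pCore p Γ))) ⊤ := by
  set Q := pCore p Γ
  set L := (pPrimeCore p (Γ ⧸ Q)).comap (QuotientGroup.mk' Q)
  have hQ : IsPGroup p Q := Core.isPGroup_pCore p Γ
  have hf := QuotientGroup.mk'_surjective Q
  have hQL : Q ≤ L := fun x hx => by simp [L, (QuotientGroup.eq_one_iff x).2 hx]
  have i1 : ¬ p ∣ Q.relIndex L := by
    rw [← Hall.card_map_mk', map_comap_eq_self_of_surjective hf]; exact Core.not_dvd_card_pPrimeCore hp.out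
  obtain ⟨N, -, -, n1, n2⟩ := Hall.sz_exists_internal hQL Amalg.le_normalizer_of_normal'
    (BG1.coprime_of_isPGroup_of_not_dvd hp.out hQ i1)
  rw [← n2] at i1
  obtain ⟨T, hT⟩ := Amalg.exists_syl p (normalizer (N : Set Γ))
  have e : N.map (QuotientGroup.mk' Q) = pPrimeCore p (Γ ⧸ Q) := by
    rw [← map_comap_eq_self_of_surjective hf (pPrimeCore p _), ← show Q ⊔ N = comap _ _ from n1, Subgroup.map_sup,
      QuotientGroup.map_mk'_self, bot_sup_eq]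
  refine ⟨N, T, i1, hT.isPGroup, hT.le, fun x hx => ?_, ?_⟩
  · have h1 : (x : Γ ⧸ Q) ∈ pPrimeCore p (Γ ⧸ Q) := Core.centralizer_pPrimeCore_le_of_isPSolvable hp.out
      (Core.isPSolvable_quotient hp.out hs Q) Core.pCore_quotient_pCore (by
        rw [← e]; intro _ ⟨y, hy, h⟩; subst h; exact congrArg (QuotientGroup.mk' Q) (hx.2 y hy))
    obtain ⟨k, hk⟩ := (hT.isPGroup.map (QuotientGroup.mk' Q)) ⟨_, mem_map_of_mem _ hx.1⟩
    exact (QuotientGroup.eq_one_iff x).1 (orderOf_eq_one_iff.1 (Nat.eq_one_of_dvd_coprimes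
      (((Nat.Prime.coprime_iff_not_dvd hp.out).2 (Core.not_dvd_card_pPrimeCore hp.out)).pow_left k)
      (orderOf_dvd_of_pow_eq_one (congrArg Subtype.val hk)) (orderOf_dvd_natCard _ h1)))
  · refine (top_unique fun g _ => ?_ : (normalizer (N : Set Γ)).map (QuotientGroup.mk' Q) = ⊤) ▸ hT.map _
    obtain ⟨g, rfl⟩ := hf g
    obtain ⟨k, k1, k2⟩ := Coprime.exists_conj_eq_of_card_eq (A := N) (K := Q) (B := Transfer.cj g N)
      Amalg.le_normalizer_of_normal' (BG1.coprime_of_isPGroup_of_not_dvd hp.out hQ i1).symm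
      (.inr (Core.isSolvable_of_isPGroup hp.out hQ)) (n1 ▸ Amalg.cj_le_of_le_of_mem_normalizer (n1 ▸ le_sup_right)
        (Amalg.le_normalizer_of_normal' (mem_top g))) (Amalg.card_cj g N)
    refine ⟨k⁻¹ * g, Amalg.cj_eq_self_iff.1 ((Amalg.cj_mul ..).trans
      ((congrArg (Transfer.cj k⁻¹) k2.symm).trans (Amalg.cj_inv_cj k N))), ?_⟩
    simp [(QuotientGroup.eq_one_iff k).2 k1]

theorem exists_rat_on (hH : ¬ p ∣ Nat.card H) (hT : IsPGroup p T) (hn : T ≤ normalizer (H : Set Γ))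
    (hχ : CharOn (H ⊔ T) χ) : ∃ ψ, CharOn (H ⊔ T) ψ ∧ (∀ h ∈ H, ψ h = χ h) ∧
      ∀ g ∈ T, ∀ k, ¬ p ∣ k → ψ (g ^ k) = ψ g := by
  obtain ⟨a, ha⟩ := BG1.relIndex_sup_eq_pow hp.out hT hn
  have hc := (Nat.Prime.coprime_iff_not_dvd hp.out).2 hH
  obtain ⟨ψ, h1, h2, h3⟩ := exists_rat_ext le_sup_left (nrm_of_le_normalizer (sup_le le_normalizer hn))
    (ha ▸ hc.pow_left a) hχ
  refine ⟨ψ, h1, h2, fun g hg k hk => ?_⟩
  obtain ⟨s, hs⟩ := hT ⟨g, hg⟩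
  obtain ⟨j, h4, h5⟩ := exists_pi_pow Γ (a := p ^ s) (k := k)
    (.inl (((Nat.Prime.coprime_iff_not_dvd hp.out).2 hk).symm.pow_right s))
  rw [← (h5 g).1 (orderOf_dvd_of_pow_eq_one (congrArg Subtype.val hs))]
  exact h3 j h4 (fun n hn => (h5 n).2 ((hc.symm.pow_right s).coprime_dvd_left (orderOf_dvd_natCard _ hn))) g

theorem relIndex_dvd_schur (hH : ¬ p ∣ Nat.card H) (hT : IsPGroup p T) (hn : T ≤ normalizer (H : Set Γ))
    (hχ : CharOn (H ⊔ T) χ) (hf : ∀ x ∈ H, χ x = χ 1 → x = 1) : (centralizer (H : Set Γ)).relIndex T ∣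
      p ^ (charDegree χ / (p - 1)) * (charDegree χ / (p - 1)).factorial := by
  obtain ⟨ψ, h1, h2, h3⟩ := exists_rat_on hH hT hn hχ
  have h4 := schur_bound hp.out hT (h1.mono le_sup_right) h3
  rw [charDegree_of_eq ((h2 1 (one_mem H)).trans hχ.one_eq), h1.kerOn_inf le_sup_right, inf_relIndex_right] at h4
  rw [← inf_relIndex_right] at h4
  refine (relIndex_dvd_of_le_left _ fun x hx y hy => ?_).trans h4
  have h5 : y * x * y⁻¹ * x⁻¹ ∈ H := by
    simpa [mul_assoc] using mul_mem hy ((mem_normalizer_iff.1 (hn hx.2) _).1 (inv_mem hy))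
  have h6 := (h1.mem_kerOn.1 (mul_mem (h1.classOn.nrm_kerOn y (mem_sup_left hy) x hx.1) (inv_mem hx.1))).2
  rw [h2 _ h5, h2 _ (one_mem H)] at h6
  exact mul_inv_eq_iff_eq_mul.1 (mul_inv_eq_one.1 (hf _ h5 h6))

theorem psolv_bound (hs : IsPSolvable p Γ) (hχ : IsCharacter Γ χ) (hf : ∀ x, χ x = χ 1 → x = 1) :
    (pCore p Γ).index.factorization p ≤ ∑ i ∈ range (charDegree χ + 1), charDegree χ / ((p - 1) * p ^ i) := by
  obtain ⟨H, T, h1, h2, h3, h4, h5⟩ := exists_pp_pair hs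
  have h6 := relIndex_dvd_schur h1 h2 h3 (charOn_of_isCharacter hχ _) fun x _ => hf x
  rw [← inf_relIndex_right] at h6
  have h7 := (relIndex_dvd_of_le_left T ((inf_comm _ _).le.trans h4)).trans h6
  rw [← Hall.card_map_mk', h5.card_eq_pow, card_top] at h7
  simpa [hp.out.factorization_pow, index] using factorization_le_of_dvd_schur hp.out h7

theorem exists_qgroup_not_cent (hs : IsPSolvable p Γ) (P : Sylow p Γ) (hP : ¬ (P : Subgroup Γ).Normal) :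
    ∃ (q : ℕ) (Q T : Subgroup Γ), q.Prime ∧ q ≠ p ∧ IsPGroup q Q ∧ IsPGroup p T ∧ T ≤ normalizer (Q : Set Γ) ∧
      ¬ T ≤ centralizer (Q : Set Γ) := by
  obtain ⟨H, T, h1, h2, h3, h4, h5⟩ := exists_pp_pair hs
  obtain ⟨q, Q, a, b, c, -, d, e, -⟩ := HH.exists_min (B := T) h2 ((Nat.Prime.coprime_iff_not_dvd hp.out).2 h1).symm h3
    fun h => hP (by
      rw [(Subgroup.map_eq_bot_iff _).2 ((le_inf le_rfl h).trans (h4.trans (QuotientGroup.ker_mk' _).ge))] at h5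
      have h6 := Amalg.syl_of_not_dvd le_top (Core.isPGroup_pCore p Γ)
        (by have := h5.not_dvd_index; rwa [relIndex_top_right, index, ← index_bot])
      rw [le_antisymm (h6.le_of_normal_syl Amalg.le_normalizer_of_normal' P.isPGroup' le_top)
        (Amalg.syl_top P).pCore_le]
      infer_instance)
  exact ⟨q, Q, T, a, b, c, h2, d, e⟩

theorem le_deg_of_not_triv {η : Γ → ℂ} (hH : ¬ p ∣ Nat.card H) (hT : IsPGroup p T) (hn : T ≤ normalizer (H : Set Γ))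
    (hη : CharOn (H ⊔ T) η) {x y : Γ} (hx : x ∈ T) (hy : y ∈ H) (h : η (y * x * y⁻¹ * x⁻¹) ≠ η 1) :
    p - 1 ≤ charDegree η := by
  obtain ⟨ψ, h1, h2, h3⟩ := exists_rat_on hH hT hn hη
  obtain ⟨s, hs⟩ := IsPGroup.iff_orderOf.1 hT ⟨x, hx⟩
  obtain ⟨_ | j, hj, e⟩ := h1.exists_val hp.out (mem_sup_right hx) ((orderOf_mk x hx).symm.trans hs) (h3 x hx)
  · have h4 := h1.mem_kerOn.2 ⟨mem_sup_right hx, by simp [e, h1.one_eq]⟩
    have h5 := (h1.mem_kerOn.1 (mul_mem (h1.classOn.nrm_kerOn y (mem_sup_left hy) x h4) (inv_mem h4))).2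
    rw [h2 _ (by simpa [mul_assoc] using mul_mem hy ((mem_normalizer_iff.1 (hn hx) _).1 (inv_mem hy))),
      h2 _ (one_mem H)] at h5
    exact absurd h5 h
  · rw [charDegree_of_eq ((h2 1 (one_mem H)).trans hη.one_eq)] at hj
    exact (Nat.div_pos_iff.1 (j.succ_pos.trans_le hj)).2

theorem ito_fermat (hs : IsPSolvable p Γ) (hχ : IsCharacter Γ χ) (hf : ∀ x, χ x = χ 1 → x = 1)
    (hn : charDegree χ + 1 ≤ p) (P : Sylow p Γ) (hP : ¬ (P : Subgroup Γ).Normal) :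
    charDegree χ + 1 = p ∧ (∃ k, charDegree χ = 2 ^ k) ∧ IsIrrCharacter Γ χ := by
  obtain ⟨q, Q, T, hq, hqp, hQ, hT, h1, h2⟩ := exists_qgroup_not_cent hs P hP
  obtain ⟨x, hx, h3⟩ := SetLike.not_le_iff_exists.1 h2
  obtain ⟨y, hy, h4⟩ : ∃ y ∈ Q, y * x ≠ x * y := by simpa [mem_centralizer_iff] using h3
  have hc := charOn_of_isCharacter hχ (Q ⊔ T)
  obtain ⟨η, h5, h6, h7⟩ : ∃ η ∈ Irr (Q ⊔ T), dot (Q ⊔ T) χ η ≠ 0 ∧ η (y * x * y⁻¹ * x⁻¹) ≠ η 1 := by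
    by_contra! h
    exact h4 (mul_inv_eq_iff_eq_mul.1 (mul_inv_eq_one.1 (hf _ (hc.classOn.eq_of_forall (mul_mem (mul_mem
      (mul_mem_sup hy hx) (mem_sup_left (inv_mem hy))) (mem_sup_right (inv_mem hx))) h))))
  have hi := irrOn_of_mem h5
  have := Fact.mk hq
  obtain ⟨a, ha⟩ := IsPGroup.iff_card.1 hQ
  have h8 := le_deg_of_not_triv (fun h => hqp ((Nat.prime_dvd_prime_iff_eq hp.out hq).1
    (hp.out.dvd_of_dvd_pow (ha ▸ h))).symm) hT h1 hi.charOn hx hy h7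
  have h9 := hc.deg_le_of_dot hi h6
  have e : charDegree χ = charDegree η := by omega
  obtain ⟨b, hb⟩ := BG1.relIndex_sup_eq_pow hp.out hT h1
  obtain ⟨k, -, hk⟩ := (Nat.dvd_prime_pow hq).1 (ha ▸ (hi.res_of_coprime le_sup_left (nrm_of_le_normalizer
    (sup_le le_normalizer h1)) (hb ▸ (Nat.coprime_of_lt_prime hi.deg_pos.ne' (by omega) hp.out).symm.pow_right
      b)).deg_dvd_card)
  refine ⟨by omega, ?_, irrOn_top.1 ((charOn_top.2 hχ).irrOn_of_res le_top (hi.congr fun x hx =>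
    (hc.eq_of_dot_of_deg hi h6 (by rw [hc.one_eq, hi.one_eq, e]) x hx).symm))⟩
  rcases hp.out.eq_two_or_odd' with rfl | ho
  · exact ⟨0, by have := hi.deg_pos; omega⟩
  · have : 2 ∣ q ^ k := by rw [← hk]; obtain ⟨m, hm⟩ := ho; omega
    exact ⟨k, by rw [e, hk, (Nat.prime_dvd_prime_iff_eq Nat.prime_two hq).1 (Nat.prime_two.dvd_of_dvd_pow this)]⟩

end Cfsg.Lib.Clifford
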