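import Cfsg.Agent.Lib.Clifford.Real
import Cfsg.Agent.Lib.Clifford.PBlk
import Cfsg.Agent.Lib.Clifford.Thompson
import Cfsg.Agent.Lib.Clifford.Mono

/-! Galois action on characters written as a power map `φ ↦ φ (· ^ k)`. -/

set_option autoImplicit false
set_option linter.unusedSectionVars false

namespace Cfsg.Lib.Clifford

open Cfsg Cfsg.Lib.Char Cfsg.Lib.Block2 Subgroup Finset
open scoped ComplexConjugate commutatorElement

variable {Γ : Type*} [Group Γ] {H K N : Subgroup Γ} {φ ψ θ χ : Γ → ℂ} {k : ℕ}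

/-- composition with the `k`-th power map -/
def pw (k : ℕ) (φ : Γ → ℂ) : Γ → ℂ := fun x => φ (x ^ k)

theorem pw_apply (k : ℕ) (φ : Γ → ℂ) (x : Γ) : pw k φ x = φ (x ^ k) := rfl
theorem pw_iterate (k j : ℕ) (φ : Γ → ℂ) : (pw k)^[j] φ = pw (k ^ j) φ := by
  induction j generalizing φ with
  | zero => funext x; simp [pw]
  | succ j ih => funext x; simp [ih, pw, pow_succ, pow_mul]
theorem pw_cj (k : ℕ) (g : Γ) (φ : Γ → ℂ) : pw k (cj g φ) = cj g (pw k φ) := by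
  funext x; simp [pw, cj_apply, conj_pow]
theorem charDegree_pw (k : ℕ) (φ : Γ → ℂ) : charDegree (pw k φ) = charDegree φ := by
  simp [charDegree, pw]

variable [Finite Γ]

theorem pow_mem_iff_of_coprime (hk : k.Coprime (Nat.card Γ)) {x : Γ} : x ^ k ∈ K ↔ x ∈ K :=
  ⟨Transfer.mem_of_pow_mem_of_coprime (Nat.Coprime.coprime_dvd_left (orderOf_dvd_natCard x) hk.symm),
    fun h => K.pow_mem h k⟩

theorem pw_cut (hk : k.Coprime (Nat.card Γ)) : pw k (cut K φ) = cut K (pw k φ) := by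
  funext x
  by_cases hx : x ∈ K
  · rw [pw_apply, cut_of_mem _ hx, cut_of_mem _ (K.pow_mem hx k), pw_apply]
  · rw [pw_apply, cut_of_notMem _ hx, cut_of_notMem _ ((pow_mem_iff_of_coprime hk).not.2 hx)]

theorem IrrOn.pw (h : IrrOn K χ) (hk : k.Coprime (Nat.card Γ)) : IrrOn K (pw k χ) :=
  (show IsIrrCharacter K _ from h).comp_pow
    (Nat.Coprime.coprime_dvd_right (card_subgroup_dvd_card K) hk)

theorem CharOn.pw (h : CharOn K χ) (hk : k.Coprime (Nat.card Γ)) : CharOn K (pw k χ) :=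
  (show IsCharacter K _ from h).comp_pow
    (Nat.Coprime.coprime_dvd_right (card_subgroup_dvd_card K) hk)

theorem pw_mem_Irr (h : χ ∈ Irr K) (hk : k.Coprime (Nat.card Γ)) : pw k χ ∈ Irr K :=
  mem_Irr.2 ⟨(irrOn_of_mem h).pw hk, fun _ hx =>
    zero_of_mem_Irr h ((pow_mem_iff_of_coprime hk).not.2 hx)⟩

theorem sum_elems_pow {M : Type*} [AddCommMonoid M] (hk : k.Coprime (Nat.card Γ)) (K : Subgroup Γ)
    (f : Γ → M) : ∑ x ∈ elems K, f (x ^ k) = ∑ x ∈ elems K, f x :=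
  sum_equiv (powCoprime hk.symm) (fun x => by
    rw [mem_elems, mem_elems]; exact (pow_mem_iff_of_coprime hk).symm) fun _ _ => rfl

theorem dot_pw (hk : k.Coprime (Nat.card Γ)) (K : Subgroup Γ) (φ ψ : Γ → ℂ) :
    dot K (pw k φ) (pw k ψ) = dot K φ ψ := by
  simp only [dot, pw]
  rw [sum_elems_pow hk K fun x => φ x * conj (ψ x)]

theorem regSum_pw {p : ℕ} (hk : k.Coprime (Nat.card Γ)) (K : Subgroup Γ) (φ : Γ → ℂ) :
    regSum p K (pw k φ) = regSum p K φ := by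
  rw [regSum_eq_dot, regSum_eq_dot, ← dot_pw hk K φ]
  refine congrArg _ (dot_congr_right _ fun x _ => ?_)
  simp only [regInd, pw, Nat.Coprime.orderOf_pow
    (Nat.Coprime.coprime_dvd_left (orderOf_dvd_natCard x) hk.symm)]

theorem pw_eq_iff (h : χ ∈ Irr K) (hk : k.Coprime (Nat.card Γ)) :
    pw k χ = χ ↔ ∀ x ∈ K, χ (x ^ k) = χ x :=
  ⟨fun e x _ => congrFun e x, eq_of_mem_Irr (pw_mem_Irr h hk) h⟩

theorem coprime_of_pow_pow {m : ℕ} (hm : m ≠ 0) (h : ∀ g : Γ, g ^ k ^ m = g) :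
    k.Coprime (Nat.card Γ) := by
  refine Nat.coprime_of_dvd fun q hq h1 h2 => ?_
  have := Fact.mk hq
  obtain ⟨g, hg⟩ := exists_prime_orderOf_dvd_card' q h2
  have h3 : g ^ k ^ m = 1 := orderOf_dvd_iff_pow_eq_one.1 (hg ▸ h1.trans (dvd_pow_self k hm))
  rw [h g] at h3
  rw [h3, orderOf_one] at hg
  exact hq.one_lt.ne hg

theorem pow_pow_eq_of_modEq {m : ℕ} (h : k ^ m ≡ 1 [MOD Nat.card Γ]) (g : Γ) : g ^ k ^ m = g :=
  pow_eq_self_of_modEq_one (orderOf_dvd_natCard g) h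

theorem card_modEq_filter_pw {p e : ℕ} [Fact p.Prime] (h : ∀ g : Γ, g ^ k ^ p ^ e = g)
    {s : Finset (Γ → ℂ)} (hs : ∀ φ ∈ s, pw k φ ∈ s) [DecidablePred fun φ : Γ → ℂ => pw k φ = φ] :
    s.card ≡ (s.filter fun φ => pw k φ = φ).card [MOD p] := by
  classical
  let f : Function.End s := fun φ => ⟨pw k φ.1, hs _ φ.2⟩
  have h1 : ∀ (j : ℕ) (φ : s), ((f ^ j) φ).1 = (pw k)^[j] φ.1 := by
    intro j
    induction j with
    | zero => intro φ; rfl
    | succ j ih => intro φ; rw [pow_succ, Function.iterate_succ_apply]; exact ih (f φ)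
  have h2 := Equiv.Perm.card_fixedPoints_modEq (f := f) (p := p) (n := e) (by
    funext φ
    refine Subtype.ext ((h1 _ φ).trans ?_)
    rw [pw_iterate]
    funext x
    exact congrArg φ.1 (h x))
  rw [Fintype.card_coe] at h2
  convert h2 using 1
  rw [← Nat.card_eq_fintype_card, ← Nat.card_eq_finsetCard]
  exact Nat.card_congr ⟨fun φ => ⟨⟨φ.1, (mem_filter.1 φ.2).1⟩, Subtype.ext (mem_filter.1 φ.2).2⟩,
    fun φ => ⟨φ.1.1, mem_filter.2 ⟨φ.1.2, congrArg Subtype.val φ.2⟩⟩, fun _ => rfl, fun _ => rfl⟩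

theorem exists_pw_eq {p e : ℕ} [Fact p.Prime] (h : ∀ g : Γ, g ^ k ^ p ^ e = g)
    {s : Finset (Γ → ℂ)} (hs : ∀ φ ∈ s, pw k φ ∈ s) (hp : ¬ p ∣ s.card) : ∃ φ ∈ s, pw k φ = φ := by
  classical
  by_contra h0
  have h1 := card_modEq_filter_pw h hs
  rw [filter_eq_empty_iff.2 fun φ hφ e => h0 ⟨φ, hφ, e⟩, card_empty] at h1
  exact hp (Nat.modEq_zero_iff_dvd.1 h1)

/-- the power map raising `p`-elements to the power `1 + p` and fixing `p`-regular ones has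
`p`-power order -/
theorem exists_pow_pow_eq {p : ℕ} (hp : p.Prime)
    (h1 : ∀ g : Γ, (∃ j, orderOf g = p ^ j) → g ^ k = g ^ (1 + p))
    (h2 : ∀ g : Γ, ¬ p ∣ orderOf g → g ^ k = g) : ∃ e, ∀ g : Γ, g ^ k ^ p ^ e = g := by
  refine ⟨(Nat.card Γ).factorization p, fun g => ?_⟩
  obtain ⟨u, hu⟩ := exists_isPPart hp g
  have hc : Commute u (u⁻¹ * g) := (Commute.refl _).inv_right.mul_right hu.commute
  obtain ⟨a, ha⟩ := hu.orderOf_eq
  have e1 : ∀ j, u ^ k ^ j = u ^ (1 + p) ^ j := by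
    intro j
    induction j with
    | zero => simp
    | succ j ih =>
      obtain ⟨b, -, hb⟩ := (Nat.dvd_prime_pow hp).1 (ha ▸ orderOf_pow_dvd (x := u) ((1 + p) ^ j))
      rw [pow_succ, pow_mul, ih, h1 _ ⟨b, hb⟩, ← pow_mul, ← pow_succ]
  have e2 : ∀ j, (u⁻¹ * g) ^ k ^ j = u⁻¹ * g := by
    intro j
    induction j with
    | zero => simp
    | succ j ih => rw [pow_succ, pow_mul, ih, h2 _ hu.not_dvd_orderOf]
  conv => enter [1, 1]; rw [← mul_inv_cancel_left u g]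
  rw [hc.mul_pow, e1, e2, pow_eq_self_of_modEq_one (A := p ^ ((Nat.card Γ).factorization p + 1)),
    mul_inv_cancel_left]
  · rw [ha]
    exact pow_dvd_pow _ (((hp.pow_dvd_iff_le_factorization Nat.card_pos.ne').1
      (ha ▸ orderOf_dvd_natCard u)).trans (Nat.le_succ _))
  · have := dvd_sub_pow_of_dvd_sub (R := ℤ) (p := p) (a := 1) (b := 1 + p) (by simp)
      ((Nat.card Γ).factorization p)
    rw [Nat.modEq_iff_dvd]
    simpa using this

theorem pw_under {p e : ℕ} [Fact p.Prime] (h : ∀ g : Γ, g ^ k ^ p ^ e = g) (hNK : N ≤ K)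
    (hN : Nrm K N) (hp : ¬ p ∣ N.relIndex K) (hχ : IrrOn K χ) (hθ : IrrOn N θ) (h0 : dot N χ θ ≠ 0)
    (hf : ∀ x ∈ N, χ (x ^ k) = χ x) : ∀ x ∈ N, θ (x ^ k) = θ x := by
  have hk := coprime_of_pow_pow (pow_ne_zero e (Fact.out : p.Prime).ne_zero) h
  obtain ⟨φ, hφ, e⟩ := exists_pw_eq h (s := orb K N θ) (fun φ hφ => by
    have h1 := pw_mem_Irr (orb_subset hN hθ hφ) hk
    rw [← cut_of_mem_Irr h1]
    refine mem_orb_of_dot hNK hN hχ hθ (irrOn_of_mem h1) h0 ?_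
    rw [dot_congr_left (φ' := pw k χ) fun x hx => (hf x hx).symm, dot_pw hk,
      dot_of_mem_orb hNK hN hχ.classOn hφ]
    exact h0) (by
    rw [card_orb]
    exact fun hd => hp (hd.trans (relIndex_dvd_of_le_left K (le_inertia hNK hN hθ.classOn))))
  obtain ⟨g, -, rfl⟩ := mem_orb.1 hφ
  have := congrArg (cj g⁻¹) e
  rw [pw_cj, cj_cj, cj_cj, mul_inv_cancel, cj_one, cj_one] at this
  intro x hx
  have h2 := congrFun this x
  rwa [pw_apply, cut_of_mem _ hx, cut_of_mem _ (N.pow_mem hx k)] at h2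

theorem GenOn.coef_one_modEq' (hφ : GenOn K φ) (hNK : N ≤ K) (hN : Nrm K N)
    (ho : Odd (N.relIndex K)) (hr : ∀ β ∈ IrrKer K N, dot K φ (Star.star β) = dot K φ β) :
    (coef N φ 1 : ZMod 2) = coef K φ 1 := by
  classical
  have h1 := hφ.classOn.avg_coset hNK hN K.one_mem
  have h2 : coef N φ 1 = ∑ β ∈ IrrKer K N, coef K φ β * charDegree β := by
    rw [← Int.cast_inj (α := ℂ), ← (hφ.mono hNK).dot_eq_coef (genOn_one N)]
    push_cast
    rw [← sum_congr rfl (f := fun β => dot K φ β * β 1) fun β hβ => by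
      have hβ := irrOn_of_mem (IrrKer_subset hβ)
      rw [hφ.dot_eq_coef hβ.genOn, hβ.one_eq], ← h1]
    simp [dot]
  rw [h2, ← add_sum_erase _ _ (cut_one_mem_IrrKer hNK), charDegree_of_eq (φ := cut K (1 : Γ → ℂ)) (n := 1)
    (by rw [cut_of_mem _ K.one_mem]; simp), coef_of_eq (n := coef K φ 1)
      (by rw [dot_cut_right, hφ.dot_eq_coef (genOn_one K)])]
  push_cast
  rw [mul_one, add_eq_left]
  have hs : ∀ β ∈ (IrrKer K N).erase (cut K 1), Star.star β ∈ (IrrKer K N).erase (cut K 1) := fun β hβ => by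
    obtain ⟨h3, hβ⟩ := mem_erase.1 hβ
    obtain ⟨hβ, ht⟩ := mem_IrrKer.1 hβ
    refine mem_erase.2 ⟨fun e => h3 ?_, mem_IrrKer.2 ⟨star_mem_Irr hβ, fun x hx => by simp [ht x hx]⟩⟩
    rw [← star_star β, e]
    exact (star_eq_iff (cut_one_mem K)).2 fun x hx => by simp [cut_of_mem _ hx]
  refine sum_involution (fun β _ => Star.star β) (fun β hβ => ?_) (fun β hβ _ e => ?_) hs fun β _ => star_star β
  · have hβ' := (mem_erase.1 hβ).2
    have hβ := irrOn_of_mem (IrrKer_subset hβ')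
    have e1 : coef K φ (Star.star β) = coef K φ β := coef_of_eq (by
      rw [hr β hβ', hφ.dot_eq_coef hβ.genOn])
    have e2 : charDegree (Star.star β) = charDegree β := charDegree_of_eq (by simp [hβ.one_eq])
    rw [e1, e2, ← two_mul]
    exact mul_eq_zero_of_left rfl _
  · obtain ⟨h3, hβ⟩ := mem_erase.1 hβ
    obtain ⟨hβ, ht⟩ := mem_IrrKer.1 hβ
    exact h3 ((irr_eq_one_iff hβ).2 ((irrOn_of_mem hβ).eq_one_of_real_of_triv hN ho ht
      ((star_eq_iff hβ).1 e)))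

section Odd
variable {e : ℕ} (h : ∀ g : Γ, g ^ k ^ 2 ^ e = g) (h₂ : ∀ g : Γ, Odd (orderOf g) → g ^ k = g⁻¹)
include h h₂

theorem eq_of_pw_of_odd (hNK : N ≤ K) (hN : Nrm K N) (ho : Odd (N.relIndex K)) (hχ : IrrOn K χ)
    (hψ : IrrOn K ψ) (hθ : IrrOn N θ) (h1 : dot N χ θ ≠ 0) (h2 : dot N ψ θ ≠ 0)
    (r1 : ∀ x ∈ K, χ (x ^ k) = χ x) (r2 : ∀ x ∈ K, ψ (x ^ k) = ψ x) : ∀ x ∈ K, χ x = ψ x := by
  have hk := coprime_of_pow_pow (pow_ne_zero e two_ne_zero) h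
  refine hχ.eq_of_dot_ne_zero hψ fun h0 => ?_
  have hg := hχ.genOn.mul hψ.genOn.star
  have h3 := hg.coef_one_modEq' hNK hN ho fun β hβ => by
    obtain ⟨hβ, ht⟩ := mem_IrrKer.1 hβ
    rw [← dot_pw hk K _ β]
    refine dot_congr (fun x hx => by simp [pw, r1 x hx, r2 x hx]) fun x hx => ?_
    obtain ⟨u, hu⟩ := exists_isPPart Nat.prime_two x
    have hc : Commute u (u⁻¹ * x) := (Commute.refl _).inv_right.mul_right hu.commute
    have huK := hu.mem Nat.prime_two hx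
    have huN : u ∈ N := by
      obtain ⟨a, ha⟩ := hu.orderOf_eq
      refine Transfer.mem_of_pow_mem_of_coprime ?_ (pow_relIndex_mem hN huK)
      rw [ha]
      exact (Nat.coprime_two_left.2 ho).pow_left a
    have hv : u⁻¹ * x ∈ K := K.mul_mem (K.inv_mem huK) hx
    have hb := (irrOn_of_mem hβ).charOn
    rw [pw_apply, Pi.star_apply, RCLike.star_def, ← hb.apply_inv hx]
    conv_rhs => rw [← mul_inv_cancel_left u x]
    rw [hc.mul_pow, h₂ _ (Nat.not_even_iff_odd.1 (even_iff_two_dvd.not.2 hu.not_dvd_orderOf)),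
      ht.mul_left hb hNK (N.pow_mem huN k) (K.inv_mem hv), mul_inv_rev, inv_inv,
      ht.mul_right hb hNK huN (K.inv_mem hx)]
  have e : ∀ L, dot L (χ * Star.star ψ) 1 = dot L χ ψ := fun L => by
    rw [dot_mul_left, one_mul, star_star]
  have h4 : dot N χ ψ = (mult N χ θ * mult N ψ θ * (inertia K N θ).relIndex K : ℕ) := by
    rw [← dot_cut_left, ← dot_cut_right, clifford hNK hN hχ hθ h1, clifford hNK hN hψ hθ h2,
      dot_smul_left, dot_smul_right, dot_sum_right,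
      sum_congr rfl (g := fun _ => (1 : ℂ)) fun φ hφ => by
        rw [dot_sum_irr (orb_subset hN hθ) (orb_subset hN hθ hφ), if_pos hφ],
      (hχ.charOn.mono hNK).dot_eq_mult hθ.charOn, (hψ.charOn.mono hNK).dot_eq_mult hθ.charOn]
    simp [card_orb, mul_assoc]
  rw [coef_of_eq (H := K) (n := 0) (by rw [e K, h0]; simp), coef_of_eq (H := N)
    (n := (mult N χ θ * mult N ψ θ * (inertia K N θ).relIndex K : ℕ)) (by rw [e N, h4]; norm_cast),
    Int.cast_zero, Int.cast_natCast, ZMod.natCast_eq_zero_iff, ← even_iff_two_dvd,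
    ← Nat.not_odd_iff_even] at h3
  exact h3 (((odd_mult hNK hN ho hχ hθ h1).mul (odd_mult hNK hN ho hψ hθ h2)).mul
    (ho.of_dvd_nat (Subgroup.relIndex_dvd_of_le_left K (le_inertia hNK hN hθ.classOn))))

omit h₂ in
theorem exists_pw_over_of_odd (hNK : N ≤ K) (hN : Nrm K N) (ho : Odd (N.relIndex K))
    (hθ : IrrOn N θ) (hr : ∀ x ∈ N, θ (x ^ k) = θ x) :
    ∃ χ ∈ Irr K, dot N χ θ ≠ 0 ∧ pw k χ = χ := by
  have hk := coprime_of_pow_pow (pow_ne_zero e two_ne_zero) h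
  have := Fact.mk Nat.prime_two
  obtain ⟨χ, hχ, e⟩ := exists_pw_eq h (s := IrrOver K N θ) (fun φ hφ => by
    rw [mem_IrrOver] at hφ ⊢
    refine ⟨pw_mem_Irr hφ.1 hk, ?_⟩
    rw [dot_congr_right (ψ' := pw k θ) _ fun x hx => (hr x hx).symm, dot_pw hk]
    exact hφ.2) (by
    have h1 := sum_mult_sq_over (le_inertia hNK hN hθ.classOn) (hN.mono inertia_le) hθ
      (invOn_inertia hN)
    have ho' : Odd (N.relIndex (inertia K N θ)) := ho.of_dvd_nat
      (Dvd.intro _ (relIndex_mul_relIndex _ _ K (le_inertia hNK hN hθ.classOn) inertia_le))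
    rw [card_IrrOver_inertia hNK hN hθ, ← even_iff_two_dvd, Nat.not_even_iff_odd]
    have ho'' := ho'
    rw [← h1, odd_sum_iff_odd_card_odd, filter_true_of_mem fun φ hφ => ?_] at ho'
    · exact ho'
    · exact (odd_mult (le_inertia hNK hN hθ.classOn) (hN.mono inertia_le) ho''
        (irrOn_of_mem (mem_IrrOver.1 hφ).1) hθ (mem_IrrOver.1 hφ).2).pow)
  exact ⟨χ, (mem_IrrOver.1 hχ).1, (mem_IrrOver.1 hχ).2, e⟩

omit h₂ in
theorem exists_pw_ext_of_ext (hNK : N ≤ K) (hN : Nrm K N) (ho : Odd (N.relIndex K))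
    (hθ : IrrOn N θ) (hr : ∀ x ∈ N, θ (x ^ k) = θ x) (hχ : CharOn K χ) (he : ∀ x ∈ N, χ x = θ x) :
    ∃ ψ ∈ Irr K, (∀ x ∈ N, ψ x = θ x) ∧ pw k ψ = ψ := by
  have hk := coprime_of_pow_pow (pow_ne_zero e two_ne_zero) h
  have hχN : IrrOn N χ := hθ.congr fun x hx => (he x hx).symm
  obtain ⟨β, hβ, h1, h2⟩ := exists_lin_of_ext hNK hN hχ hχN (hχ.pw hk) fun x hx => by
    rw [pw_apply, he _ (N.pow_mem hx k), hr x hx, he x hx]
  have hD : N ⊔ ⁅K, K⁆ ≤ K := sup_le hNK (commutator_le_self K)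
  have hDn : Nrm K (N ⊔ ⁅K, K⁆) := nrm_of_commutator_le hD le_sup_right
  have hχD : IrrOn (N ⊔ ⁅K, K⁆) χ := (hχ.mono hD).irrOn_of_res le_sup_left hχN
  have hβD : N ⊔ ⁅K, K⁆ ≤ kerOn K β :=
    sup_le (fun x hx => hβ.mem_kerOn.2 ⟨hNK hx, h1 x hx⟩) hβ.commutator_le
  obtain ⟨ψ, hψ, h3, h4⟩ := exists_pw_over_of_odd h hD hDn
    (ho.of_dvd_nat (relIndex_dvd_of_le_left K le_sup_left)) hχD fun x hx => by
      exact (h2 x (hD hx)).trans (by rw [(hβ.mem_kerOn.1 (hβD hx)).2, one_mul])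
  exact ⟨ψ, hψ, fun x hx => (ext_of_abelian hD hDn le_sup_right hχ hχD (irrOn_of_mem hψ) h3 x
    (mem_sup_left hx)).trans (he x hx), h4⟩

theorem exists_pw_ext_of_odd (hNK : N ≤ K) (hN : Nrm K N) (ho : Odd (N.relIndex K))
    (hθ : IrrOn N θ) (hinv : InvOn K N θ) (hr : ∀ x ∈ N, θ (x ^ k) = θ x) :
    ∃ ψ ∈ Irr K, (∀ x ∈ N, ψ x = θ x) ∧ pw k ψ = ψ := by
  have hodd : ∀ S, N ≤ S → S ≤ K → Odd (N.relIndex S) := fun S h1 h2 =>
    ho.of_dvd_nat (Dvd.intro _ (relIndex_mul_relIndex _ _ K h1 h2))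
  obtain ⟨χ, hχ, he⟩ := exists_ext_of_sylow hNK hN hθ hinv fun p hp _ => by
    have := Fact.mk hp
    obtain ⟨T, hT⟩ := Amalg.exists_syl p K
    have hH : N ⊔ T ≤ K := sup_le hNK hT.le
    refine ⟨N ⊔ T, le_sup_left, hH, hT.not_dvd_relIndex_of_le le_sup_right, ?_⟩
    obtain ⟨a, ha⟩ : ∃ a, N.relIndex (N ⊔ T) = p ^ a := by
      refine relIndex_eq_pow_of_pow_mem hp (hN.mono hH) fun x hx => ?_
      obtain ⟨t, ht, n, hn, rfl⟩ := exists_mul_of_mem_sup_nrm (hN.mono hT.le) (sup_comm N T ▸ hx)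
      obtain ⟨b, hb⟩ := Amalg.isPGroup_iff_mem.1 hT.isPGroup t ht
      refine ⟨b, ?_⟩
      have : ∀ m : ℕ, (t ^ m)⁻¹ * (t * n) ^ m ∈ N := by
        intro m
        induction m with
        | zero => simp
        | succ m ih =>
          have e : (t ^ (m + 1))⁻¹ * (t * n) ^ (m + 1) =
              t⁻¹ * ((t ^ m)⁻¹ * (t * n) ^ m) * t * n := by simp [pow_succ, mul_assoc]
          rw [e]
          exact N.mul_mem ((hN.mem_iff' (hT.le ht) _).2 ih) hn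
      simpa [hb] using this (p ^ b)
    obtain ⟨S, ⟨h1, h2, η, hη, hηe⟩, -, hmax⟩ := PGrp.exists_maximal_subgroup_ge
      (fun S => N ≤ S ∧ S ≤ N ⊔ T ∧ ∃ η, CharOn S η ∧ ∀ n ∈ N, η n = θ n) (A := N)
      ⟨le_rfl, le_sup_left, θ, hθ.charOn, fun _ _ => rfl⟩
    rcases h2.eq_or_lt with rfl | h3
    · exact ⟨η, hη, hηe⟩
    exfalso
    obtain ⟨x, hx, hxS, hxn⟩ := exists_normalizer_of_relIndex_pow hp (hN.mono hH) h1 h3 ha
    have hSK := h2.trans hH
    obtain ⟨ψ, hψ, h4, h5⟩ := exists_pw_ext_of_ext h h1 (hN.mono hSK) (hodd S h1 hSK) hθ hr hη hηe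
    have hnS : Nrm (zpowers x ⊔ S) S := nrm_of_le_normalizer (sup_le (zpowers_le.2
      (Amalg.mem_normalizer_of_cj_le (Amalg.cj_le_iff'.2 hxn))) le_normalizer)
    have hle : zpowers x ⊔ S ≤ N ⊔ T := sup_le (zpowers_le.2 hx) h2
    have hd : dot N ψ θ ≠ 0 := by
      rw [dot_congr_left h4, hθ.dot_self]; exact one_ne_zero
    obtain ⟨ξ, hξ, h6⟩ := exists_ext_of_zpowers rfl hnS (irrOn_of_mem hψ) fun g hg =>
      eq_of_pw_of_odd h h₂ h1 (hN.mono hSK) (hodd S h1 hSK) ((irrOn_of_mem hψ).cj hnS hg)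
        (irrOn_of_mem hψ) hθ (by
          rw [dot_congr_left (φ' := θ) fun n hn => by
            rw [h4 _ (hN g (hH (hle hg)) n hn), hinv g (hH (hle hg)) n hn], hθ.dot_self]
          exact one_ne_zero) hd
        (fun y _ => congrFun (by rw [pw_cj, h5] : pw k (cj g ψ) = cj g ψ) y) fun y _ => congrFun h5 y
    have := hmax (zpowers x ⊔ S) ⟨h1.trans le_sup_right, hle, ξ, (irrOn_of_mem hξ).charOn,
      fun n hn => (h6 n (h1 hn)).trans (h4 n hn)⟩ le_sup_right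
    exact hxS (this ▸ mem_sup_left (mem_zpowers x))
  exact exists_pw_ext_of_ext h hNK hN ho hθ hr (irrOn_of_mem hχ).charOn he

end Odd

end Cfsg.Lib.Clifford
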