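import Cfsg.Agent.Lib.Clifford.Pw
import Cfsg.Agent.Lib.Block2.Dade2
import Mathlib.Data.Nat.Choose.Factorization

/-! Schur's bound for `p`-rational linear groups (Isaacs 14.19) and rational extensions. -/

set_option autoImplicit false

namespace Cfsg.Lib.Clifford

open Cfsg Cfsg.Lib.Char Subgroup Finset

variable {Γ : Type*} [Group Γ] [Finite Γ] {H K N P : Subgroup Γ} {φ χ θ : Γ → ℂ} {p k : ℕ}

theorem CharOn.sum_eq (h : CharOn H χ) : ∑ x ∈ elems H, χ x = Nat.card H * mult H χ 1 := by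
  rw [← h.dot_eq_mult (charOn_one H), dot, mul_inv_cancel_left₀ (card_ne_zero H)]
  simp

theorem CharOn.exists_val (hp : p.Prime) (hχ : CharOn P χ) {g : Γ} (hg : g ∈ P) {s : ℕ} (hs : orderOf g = p ^ s)
    (hr : ∀ k, ¬ p ∣ k → χ (g ^ k) = χ g) :
    ∃ j ≤ charDegree χ / (p - 1), χ g = charDegree χ - p * j := by
  classical
  obtain _ | s := s
  · exact ⟨0, Nat.zero_le _, by simp [orderOf_eq_one_iff.1 hs, hχ.one_eq]⟩
  have hH := hχ.mono (zpowers_le_of_mem hg)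
  have hle : zpowers (g ^ p) ≤ zpowers g := zpowers_le_of_mem (pow_mem (mem_zpowers g) p)
  have hD := hH.mono hle
  have h1 : Nat.card (zpowers (g ^ p)) = p ^ s := by
    rw [Nat.card_zpowers, orderOf_pow_of_dvd hp.ne_zero (hs ▸ dvd_pow_self p s.succ_ne_zero), hs, pow_succ,
      Nat.mul_div_cancel _ hp.pos]
  have h2 := sum_sdiff (f := χ) (elems_mono hle)
  rw [hH.sum_eq, hD.sum_eq, sum_congr rfl fun x hx => (?_ : χ x = χ g), sum_const, card_sdiff_of_subset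
    (elems_mono hle), card_elems, card_elems, h1, Nat.card_zpowers, hs, nsmul_eq_mul, Nat.cast_sub
    (Nat.pow_le_pow_right hp.pos s.le_succ)] at h2
  swap
  · obtain ⟨k, rfl⟩ := (mem_powers_iff_mem_zpowers ..).2 (mem_elems.1 (mem_sdiff.1 hx).1)
    refine hr k fun ⟨j, e⟩ => (mem_sdiff.1 hx).2 (mem_elems.2 ?_)
    simp only [e, pow_mul]
    exact pow_mem (mem_zpowers _) j
  have h3 : ((p : ℂ) - 1) * χ g = p * mult (zpowers g) χ 1 - mult (zpowers (g ^ p)) χ 1 :=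
    mul_left_cancel₀ (pow_ne_zero s (Nat.cast_ne_zero.2 hp.ne_zero)) (by
      push_cast at h2; rw [Nat.succ_eq_add_one] at h2; linear_combination h2)
  have h4 : (p : ℂ) - 1 ≠ 0 := sub_ne_zero.2 (by exact_mod_cast hp.ne_one)
  obtain ⟨z, hz⟩ := exists_int_of_isIntegral_of_rat (hχ.genOn.isIntegral hg)
    ⟨(p * mult (zpowers g) χ 1 - mult (zpowers (g ^ p)) χ 1) / (p - 1), by
      push_cast; rw [← h3, mul_div_cancel_left₀ _ h4]⟩
  obtain ⟨M, hM⟩ := Block2.exists_isPModular hp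
  have := hM.2.1
  have := Fact.mk hp
  have h5 := hχ.genOn.sub_deg_mem hM hg ⟨_, hs⟩
  rw [hz, hχ.one_eq, ← Int.cast_natCast, ← Int.cast_sub, Block.memLocalIdeal_intCast_iff hM, dvd_sub_comm] at h5
  obtain ⟨j, hj⟩ := h5
  have h6 := hχ.norm_le hg
  rw [hz, hχ.one_eq, Complex.norm_intCast, Complex.norm_natCast] at h6
  have h7 : z ≤ charDegree χ := by exact_mod_cast (le_abs_self _).trans h6
  have h8 := hD.mult_mul_deg_le (irrOn_one _)
  rw [(linOn_one (zpowers g)).deg, mul_one] at h8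
  have h9 : ((p : ℤ) - 1) * z = p * mult (zpowers g) χ 1 - mult (zpowers (g ^ p)) χ 1 := by
    rw [hz] at h3; exact_mod_cast h3
  have hp' : (0 : ℤ) < p := by exact_mod_cast hp.pos
  obtain ⟨j, rfl⟩ := Int.eq_ofNat_of_zero_le (nonneg_of_mul_nonneg_right (hj ▸ sub_nonneg.2 h7) hp')
  refine ⟨j, (Nat.le_div_iff_mul_le (Nat.sub_pos_of_lt hp.one_lt)).2 ?_, by
    rw [hz, ← sub_sub_cancel (charDegree χ : ℤ) z, hj]; simp⟩
  zify [hp.one_le] at h8 ⊢
  refine le_of_mul_le_mul_left ?_ hp'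
  nlinarith [mul_nonneg hp'.le (Nat.cast_nonneg (mult (zpowers g) χ 1))]

theorem schur_bound (hp : p.Prime) (hP : IsPGroup p P) (hχ : CharOn P χ)
    (hr : ∀ g ∈ P, ∀ k, ¬ p ∣ k → χ (g ^ k) = χ g) : (kerOn P χ).relIndex P ∣
      p ^ (charDegree χ / (p - 1)) * (charDegree χ / (p - 1)).factorial := by
  have := Fact.mk hp
  set m := charDegree χ / (p - 1)
  set η := ∏ j ∈ range m, (χ - ((charDegree χ - p * (j + 1) : ℤ) : ℂ) • 1)
  have h1 : GenOn P η := prod_induction _ _ (fun _ _ => GenOn.mul) (genOn_one P) fun j _ =>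
    hχ.genOn.sub ((genOn_one P).smul _)
  obtain ⟨z, hz⟩ := h1.dot_int (genOn_one P)
  have h2 := dot_of_supp kerOn_le (H := kerOn P χ) (φ := η) (fun x hx hx' => by
    obtain ⟨s, hs⟩ := IsPGroup.iff_orderOf.1 hP ⟨x, hx⟩
    obtain ⟨_ | j, hj, e⟩ := hχ.exists_val hp hx ((orderOf_mk x hx).symm.trans hs) (hr x hx)
    · exact absurd (hχ.mem_kerOn.2 ⟨hx, by simp [e, hχ.one_eq]⟩) hx'
    · exact (Finset.prod_apply ..).trans (prod_eq_zero (mem_range.2 hj) (by simp [e]))) 1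
  rw [hz, dot_congr_left (φ' := ((p ^ m * m.factorial : ℕ) : ℂ) • 1) fun x hx => ?_, dot_smul_left,
    (irrOn_one _).dot_self, mul_one] at h2
  · exact Int.natCast_dvd_natCast.1 ⟨z, by exact_mod_cast h2⟩
  · simp [η, Finset.prod_apply, (hχ.mem_kerOn.1 hx).2, hχ.one_eq, prod_mul_distrib, ← prod_range_add_one_eq_factorial]

theorem factorization_le_of_dvd_schur (hp : p.Prime) {d n : ℕ} (h : d ∣ p ^ (n / (p - 1)) * (n / (p - 1)).factorial) :
    d.factorization p ≤ ∑ i ∈ range (n + 1), n / ((p - 1) * p ^ i) := by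
  have h0 : p ^ (n / (p - 1)) * (n / (p - 1)).factorial ≠ 0 := by have := hp.pos; positivity
  refine ((Nat.factorization_le_iff_dvd (ne_zero_of_dvd_ne_zero h0 h) h0).2 h p).trans (le_of_eq ?_)
  rw [Nat.factorization_mul (pow_ne_zero _ hp.ne_zero) (Nat.factorial_ne_zero _), Finsupp.add_apply,
    hp.factorization_pow, Finsupp.single_eq_same, Nat.factorization_factorial hp (b := n + 1)
    (Nat.lt_succ_of_le ((Nat.log_le_self _ _).trans (Nat.div_le_self _ _))), range_eq_Ico,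
    sum_eq_sum_Ico_succ_bot n.succ_pos]
  simp [Nat.div_div_eq_div_mul]

theorem pw_ind (hk : k.Coprime (Nat.card Γ)) : pw k (ind H K φ) = ind H K (pw k φ) := by
  ext g
  simp only [pw_apply, ind_apply', ← pw_cut hk, conj_pow]

theorem CharOn.detOn_pw (h : CharOn K χ) (hk : k.Coprime (Nat.card Γ)) {x : Γ} (hx : x ∈ K) :
    detOn K (Clifford.pw k χ) x = detOn K χ x ^ k := by
  rw [detOn_apply _ ⟨x, hx⟩, detOn_apply _ ⟨x, hx⟩, ← Block2.detChar_pow]
  exact Block2.detChar_of_pow h (h.pw hk) fun _ _ => rfl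

theorem exists_rat_ext (hNK : N ≤ K) (hN : Nrm K N) (hc : (N.relIndex K).Coprime (Nat.card N)) (hχ : CharOn K χ) :
    ∃ ψ, CharOn K ψ ∧ (∀ n ∈ N, ψ n = χ n) ∧
      ∀ k : ℕ, k.Coprime (Nat.card Γ) → (∀ n ∈ N, n ^ k = n) → ∀ x, ψ (x ^ k) = ψ x := by
  have key : ∀ η, η ∈ Irr K → ∃ ψ, CharOn K ψ ∧ (∀ n ∈ N, ψ n = η n) ∧
      ∀ k : ℕ, k.Coprime (Nat.card Γ) → (∀ n ∈ N, n ^ k = n) → pw k ψ = ψ := fun η hη => by
    have hi := irrOn_of_mem hη
    obtain ⟨θ, h1, h2⟩ := hi.exists_under hNK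
    have hθ := irrOn_of_mem h1
    have hI := le_inertia hNK hN hθ.classOn
    have hn := hN.mono (inertia_le (N := N) (θ := θ))
    have hc' := hθ.coprime_of_hall (hc.coprime_dvd_left (Dvd.intro _ (relIndex_mul_relIndex _ _ _ hI inertia_le)))
    obtain ⟨ξ, h3, h4, h5⟩ := exists_ext_of_coprime hI hn hθ (invOn_inertia hN) hc'
    have hξ := irrOn_of_mem h3
    have h6 : dot N ξ θ = (1 : ℕ) := by rw [dot_congr_left h4, hθ.dot_self, Nat.cast_one]
    have h7 := (dot_ind_inertia hNK hN hθ hξ (by simp [h6])).trans h6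
    refine ⟨(mult N η θ : ℂ) • ind (inertia K N θ) K ξ, (hξ.charOn.ind inertia_le).smul _, fun n hn => ?_,
      fun k hk e => ?_⟩
    · rw [Pi.smul_apply, clifford_apply hNK hN (irrOn_ind_inertia hNK hN hθ hξ (by simp [h6])) hθ (by simp [h7]) hn,
        clifford_apply hNK hN hi hθ h2 hn, mult_of_eq h7, Nat.cast_one, one_mul, smul_eq_mul]
    · refine congrArg ((mult N η θ : ℂ) • ·) ((pw_ind hk).trans (ind_congr _ ?_))
      rw [← h5, Nat.coprime_mul_iff_right] at hc'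
      refine ext_unique_of_coprime hI hn hξ.charOn (hθ.congr fun n hn => (h4 n hn).symm) ?_ (hξ.charOn.pw hk)
        (fun n hn => by rw [pw_apply, e n hn]) (hc'.1.coprime_dvd_right (ordOn_dvd_iff.2 fun x hx => ?_)) hc'.1
      · rw [charDegree_of_eq ((h4 1 (one_mem N)).trans hθ.one_eq)]; exact hc'.2
      · rw [hξ.charOn.detOn_pw hk hx, ← pow_mul, mul_comm, pow_mul, pow_ordOn hx, one_pow]
  choose! f h1 h2 h3 using key
  refine ⟨∑ η ∈ Irr K, (mult K χ η : ℂ) • f η, charOn_sum _ fun η hη => (h1 η hη).smul _, fun n hn => ?_,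
    fun k hk e x => ?_⟩ <;> simp only [Finset.sum_apply, Pi.smul_apply, smul_eq_mul]
  · rw [hχ.classOn.eq_sum (hNK hn)]
    exact sum_congr rfl fun η hη => by rw [h2 η hη n hn, hχ.dot_eq_mult (irrOn_of_mem hη).charOn]
  · exact sum_congr rfl fun η hη => congrArg _ (congrFun (h3 η hη k hk e) x)

end Cfsg.Lib.Clifford
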