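import Cfsg.Agent.Lib.Clifford.Norm
import Cfsg.Agent.Lib.Clifford.Ker
import Cfsg.Agent.Lib.Small.Realize
import Cfsg.Agent.Lib.Block2.PMod
import Cfsg.Agent.Lib.Block2.Frob
import Cfsg.Agent.Lib.Transfer.SylowIn

/-! Characters of small degree of groups with a TI Sylow subgroup. -/

set_option autoImplicit false
open Cfsg Cfsg.Lib.Char Cfsg.Lib.Transfer Finset Subgroup Matrix
open scoped NNReal

namespace Cfsg.Lib.Clifford

theorem exists_scale {ι : Type*} [Finite ι] (v : Valuation ℂ ℝ≥0) {c : ι → ℂ} (hc : c ≠ 0) :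
    ∃ (a : ℂ) (i : ι), a ≠ 0 ∧ a * c i = 1 ∧ ∀ j, v (a * c j) ≤ 1 := by
  obtain ⟨k, hk⟩ := Function.ne_iff.1 hc
  have : Nonempty ι := ⟨k⟩
  obtain ⟨i, hi⟩ := Finite.exists_max fun i => v (c i)
  have h0 : c i ≠ 0 := fun e => hk (by simpa [e] using hi k)
  refine ⟨(c i)⁻¹, i, inv_ne_zero h0, inv_mul_cancel₀ h0, fun j => ?_⟩
  rw [map_mul, map_inv₀]
  exact inv_mul_le_one_of_le₀ (hi j) zero_le

theorem val_mulVec_lt {n : ℕ} (v : Valuation ℂ ℝ≥0) {A : Matrix (Fin n) (Fin n) ℂ} {x : Fin n → ℂ}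
    (hA : ∀ i j, v (A i j) ≤ 1) (hx : ∀ i, v (x i) < 1) (i : Fin n) : v ((A *ᵥ x) i) < 1 :=
  v.map_sum_lt (s := univ) (f := fun j => A i j * x j) one_ne_zero fun j _ => by
    rw [map_mul]; exact mul_lt_one_of_nonneg_of_lt_one_right (hA i j) zero_le (hx j)

theorem val_mulVec_le {n : ℕ} (v : Valuation ℂ ℝ≥0) {A : Matrix (Fin n) (Fin n) ℂ} {x : Fin n → ℂ}
    (hA : ∀ i j, v (A i j) ≤ 1) (hx : ∀ i, v (x i) ≤ 1) (i : Fin n) : v ((A *ᵥ x) i) ≤ 1 :=
  v.map_sum_le (s := univ) (f := fun j => A i j * x j) fun j _ => by rw [map_mul]; exact mul_le_one' (hA i j) (hx j)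

/-- the norm element of a `p`-group kills a lattice of small rank modulo the maximal ideal -/
theorem val_sum_lt {p n : ℕ} [hp : Fact p.Prime] (v : Valuation ℂ ℝ≥0) (hv : v p < 1) {P : Type*}
    [Group P] [Fintype P] (hP : IsPGroup p P) (hn : n < Nat.card P) (A : P → Matrix (Fin n) (Fin n) ℂ)
    (hA : ∀ q i j, v (A q i j) ≤ 1) (x : P → Fin n → ℂ) (hx : ∀ u i, v (x u i) ≤ 1)
    (h : ∀ q u, x (q * u) = A q *ᵥ x u) (i : Fin n) : v (∑ u, x u i) < 1 := by
  classical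
  let O := v.valuationSubring
  let k := IsLocalRing.ResidueField O
  have hm : ∀ a : O, IsLocalRing.residue O a = 0 ↔ v a < 1 := fun a => by
    rw [IsLocalRing.residue_eq_zero_iff, Valuation.mem_maximalIdeal_iff]
  have : CharP k p := (CharP.charP_iff_prime_eq_zero hp.out).2 (by
    rw [← map_natCast (IsLocalRing.residue O), hm]; exact hv)
  let J : Submodule k (P → k) :=
    { carrier := {b | ∃ a : P → O, (∀ u, IsLocalRing.residue O (a u) = b u) ∧
        ∀ i, v (∑ u, a u * x u i) < 1}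
      zero_mem' := ⟨0, by simp, by simp⟩
      add_mem' := by
        rintro _ _ ⟨a, h1, h2⟩ ⟨b, h3, h4⟩
        refine ⟨a + b, fun u => by simp [h1, h3], fun i => ?_⟩
        simp only [Pi.add_apply, AddMemClass.coe_add, add_mul, sum_add_distrib]
        exact v.map_add_lt (h2 i) (h4 i)
      smul_mem' := by
        rintro c _ ⟨a, h1, h2⟩
        obtain ⟨c, rfl⟩ := IsLocalRing.residue_surjective c
        refine ⟨fun u => c * a u, fun u => by simp [h1], fun i => ?_⟩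
        simp only [MulMemClass.coe_mul, mul_assoc, ← mul_sum, map_mul]
        exact mul_lt_one_of_nonneg_of_lt_one_right c.2 zero_le (h2 i) }
  let ρ : Representation k P (P → k) :=
    { toFun := fun q => LinearMap.funLeft k k fun u => q⁻¹ * u
      map_one' := by ext; simp
      map_mul' := fun a b => by ext; simp [LinearMap.funLeft, mul_assoc] }
  have hJ : ∀ q, J ≤ J.comap (ρ q) := by
    rintro q _ ⟨a, h1, h2⟩
    refine ⟨fun u => a (q⁻¹ * u), fun u => h1 _, fun i => ?_⟩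
    have := val_mulVec_lt v (hA q) (x := fun i => ∑ u, a u * x u i) h2 i
    rw [← Equiv.sum_comp (Equiv.mulLeft q)]
    convert this using 2
    simp only [Equiv.coe_mulLeft, inv_mul_cancel_left, h, mulVec, dotProduct, mul_sum]
    rw [sum_comm]
    exact sum_congr rfl fun _ _ => sum_congr rfl fun _ _ => by ring
  have : Nontrivial J := by
    obtain ⟨c, h1, h2⟩ : ∃ c : P → ℂ, ∑ u, c u • x u = 0 ∧ c ≠ 0 := by
      have : ¬ LinearIndependent ℂ x := fun e => by
        have := e.fintype_card_le_finrank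
        rw [Module.finrank_fin_fun, ← Nat.card_eq_fintype_card] at this
        omega
      obtain ⟨c, h1, h2⟩ := Fintype.not_linearIndependent_iff.1 this
      exact ⟨c, h1, Function.ne_iff.2 h2⟩
    obtain ⟨a, u, -, h3, h4⟩ := exists_scale v h2
    refine ⟨⟨fun u => IsLocalRing.residue O ⟨_, h4 u⟩, _, fun _ => rfl, fun i => ?_⟩, 0, fun e => ?_⟩
    · have := congrFun h1 i
      simp only [Finset.sum_apply, Pi.smul_apply, smul_eq_mul, Pi.zero_apply] at this
      simp [mul_assoc, ← mul_sum, this]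
    · have := (hm _).1 (congrFun (congrArg Subtype.val e) u)
      simp [h3] at this
  obtain ⟨⟨b, hb⟩, h0, h1⟩ := Block2.exists_fixed_ne_zero hP (ρ.subrepresentation J hJ)
  have h2 : ∀ u, b u = b 1 := fun u => by
    simpa [ρ, LinearMap.funLeft] using congrFun (congrArg Subtype.val (h1 u⁻¹)) 1
  have h3 : b 1 ≠ 0 := fun e => h0 (Subtype.ext (funext fun u => (h2 u).trans e))
  obtain ⟨a, h4, h5⟩ := J.smul_mem (b 1)⁻¹ hb
  have h6 : ∑ u, x u i = ∑ u, a u * x u i + ∑ u, ((1 - a u : O) : ℂ) * x u i := by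
    rw [← sum_add_distrib]; exact sum_congr rfl fun _ _ => by push_cast; ring
  rw [h6]
  refine v.map_add_lt (h5 i) (v.map_sum_lt one_ne_zero fun u _ => ?_)
  rw [map_mul]
  refine mul_lt_one_of_nonneg_of_lt_one_left zero_le ((hm _).1 ?_) (hx u i)
  rw [map_sub, h4, Pi.smul_apply, h2 u, smul_eq_mul, inv_mul_cancel₀ h3, map_one, sub_self]

variable {G : Type*} [Group G] [Finite G] {p : ℕ} [hp : Fact p.Prime] {P H : Subgroup G}

theorem IrrOn.dot_eq_zero_of_free {ψ : G → ℂ} (hψ : IrrOn ⊤ ψ) (h1 : ψ ≠ 1) (hP : IsPGroup p P)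
    (hd : charDegree ψ < Nat.card P) (hH : ∀ g, g ∉ H → ∀ u ∈ P, g⁻¹ * u * g ∈ H → u = 1)
    (hPH : P ≤ H) : dot H ψ 1 = 0 := by
  classical
  have := Fintype.ofFinite G
  obtain ⟨M, hM⟩ := Block2.exists_isPModular hp.out
  obtain ⟨D, -⟩ := Small.exists_padic hM
  obtain ⟨n, ρ, ht, hs, hi, -⟩ := D.exists_mat (irrOn_top.1 hψ)
  have hn : charDegree ψ = n := charDegree_of_eq (by rw [← ht, map_one, trace_one, Fintype.card_fin])
  have : NeZero n := ⟨hn ▸ hψ.deg_pos.ne'⟩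
  have hG : ∑ g, ρ g = 0 := by
    have := Small.sum_smul_mat_inv ρ hs isClassFunction_one
    rw [funext ht, ← dot_top, (irrOn_one ⊤).dot_eq_zero hψ fun e => h1 (funext fun x => (e x trivial).symm)]
      at this
    simpa [Equiv.sum_comp (Equiv.inv G) ρ] using (Equiv.sum_comp (Equiv.inv G) ρ).symm.trans (by simpa using this)
  suffices hE : ∑ h ∈ elems H, ρ h = 0 by
    unfold dot
    simp only [← ht, Pi.one_apply, map_one, mul_one, ← trace_sum, hE, trace_zero, mul_zero]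
  by_contra hE
  obtain ⟨y, hy⟩ : ∃ y, (∑ h ∈ elems H, ρ h) *ᵥ y ≠ 0 := by
    by_contra hy
    push Not at hy
    exact hE (Matrix.toLin'.injective (LinearMap.ext fun y => by simpa [sum_mulVec] using hy y))
  obtain ⟨a, i, -, h2, h3⟩ := exists_scale D.v hy
  set x : Fin n → ℂ := a • (∑ h ∈ elems H, ρ h) *ᵥ y
  have hx : ∀ h ∈ H, ρ h *ᵥ x = x := fun h hh => by
    rw [mulVec_smul, mulVec_mulVec, mul_sum]
    simp only [← map_mul]
    rw [sum_elems_mul_left hh ρ]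
  let F : G ⧸ H → Fin n → ℂ := fun c => ρ c.out *ᵥ x
  have hF : ∀ g : G, F g = ρ g *ᵥ x := fun g => by
    obtain ⟨h, e⟩ := QuotientGroup.mk_out_eq_mul H g
    simp only [F, e, map_mul, ← mulVec_mulVec, hx h h.2]
  have hF' : ∀ (g : G) c, F (g • c) = ρ g *ᵥ F c := fun g c => by
    obtain ⟨c, rfl⟩ := QuotientGroup.mk_surjective c
    rw [MulAction.Quotient.smul_mk, hF, hF, smul_eq_mul, map_mul, mulVec_mulVec]
  have h4 : ∑ c, F c = 0 := by
    have e : ∑ g : G, F g = 0 := by simp only [hF, ← sum_mulVec, hG, zero_mulVec]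
    rw [← sum_fiberwise (g := fun g : G => (g : G ⧸ H)), sum_congr rfl fun c _ =>
      (sum_congr rfl (g := fun _ => F c) fun g hg => by rw [(mem_filter.1 hg).2]).trans (sum_const _),
      sum_congr rfl (g := fun c => Nat.card H • F c) fun c _ => ?_, ← smul_sum] at e
    · exact (smul_eq_zero.1 e).resolve_left Nat.card_pos.ne'
    congr 1
    obtain ⟨c, rfl⟩ := QuotientGroup.mk_surjective c
    rw [← card_elems]
    refine (card_bij (fun h _ => c * h) (fun h hh => by simpa [mem_elems, QuotientGroup.eq] using hh) (fun _ _ _ _ => mul_left_cancel)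
      fun g hg => ⟨c⁻¹ * g, ?_, by simp⟩).symm
    exact mem_elems.2 (QuotientGroup.eq.1 (mem_filter.1 hg).2.symm)
  have h5 : D.v ((∑ c ∈ univ.erase ((1 : G) : G ⧸ H), F c) i) < 1 := by
    let O : G ⧸ H → Finset (G ⧸ H) := fun c => univ.image fun u : P => (u : G) • c
    have hO : ∀ c d, d ∈ O c → O d = O c := fun c d hd => by
      obtain ⟨u, -, rfl⟩ := mem_image.1 hd
      ext e
      simp only [O, mem_image, mem_univ, true_and, smul_smul]
      exact ⟨fun ⟨w, hw⟩ => ⟨w * u, hw⟩, fun ⟨w, hw⟩ => ⟨w * u⁻¹, by simpa using hw⟩⟩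
    have hO1 : ∀ c, c ∈ O c := fun c => mem_image.2 ⟨1, mem_univ _, one_smul _ _⟩
    rw [← sum_fiberwise_of_maps_to (g := O) fun _ h => mem_image_of_mem _ h, Finset.sum_apply]
    refine D.v.map_sum_lt _root_.one_ne_zero fun s hs => ?_
    obtain ⟨c, hc, rfl⟩ := mem_image.1 hs
    obtain ⟨c, rfl⟩ := QuotientGroup.mk_surjective c
    have hc : c ∉ H := fun e => (mem_erase.1 hc).1 (QuotientGroup.eq.2 (by simpa using e))
    have : (univ.erase ((1 : G) : G ⧸ H)).filter (fun d => O d = O c) = O c := by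
      ext d
      simp only [mem_filter, mem_erase, mem_univ, and_true]
      refine ⟨fun h => h.2 ▸ hO1 d, fun h => ⟨fun e => hc ?_, hO _ _ h⟩⟩
      obtain ⟨u, -, e'⟩ := mem_image.1 h
      rw [e, MulAction.Quotient.smul_mk, QuotientGroup.eq, mul_one, inv_mem_iff] at e'
      exact (H.mul_mem_cancel_left (hPH u.2)).1 e'
    rw [this, sum_image fun u _ w _ e => ?_, Finset.sum_apply]
    · refine val_sum_lt D.v D.vp_lt hP (hn ▸ hd) (fun q => ρ q) (fun q => hi q)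
        (fun u => F ((u : G) • (c : G ⧸ H))) (fun u => val_mulVec_le D.v (hi _) h3) (fun q u => ?_) i
      rw [← hF', smul_smul, Subgroup.coe_mul]
    simp only [MulAction.Quotient.smul_mk, QuotientGroup.eq, smul_eq_mul] at e
    have := hH c hc _ (u⁻¹ * w).2 (by simpa [mul_assoc] using e)
    exact inv_mul_eq_one.1 (Subtype.ext this)
  rw [← add_sum_erase _ _ (mem_univ ((1 : G) : G ⧸ H)), hF, map_one, one_mulVec, add_eq_zero_iff_neg_eq] at h4
  rw [← h4, Pi.neg_apply, Valuation.map_neg, show x i = 1 from h2, map_one] at h5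
  exact h5.false

theorem CharOn.dot_one_eq_of_free {Ψ : G → ℂ} (hΨ : CharOn ⊤ Ψ) (hP : IsPGroup p P)
    (hd : charDegree Ψ ≤ Nat.card P) (h0 : dot ⊤ Ψ 1 ≠ 0)
    (hH : ∀ g, g ∉ H → ∀ u ∈ P, g⁻¹ * u * g ∈ H → u = 1) (hPH : P ≤ H) : dot H Ψ 1 = dot ⊤ Ψ 1 := by
  classical
  have h11 : (1 : G → ℂ) ∈ Irr (⊤ : Subgroup G) := mem_Irr_top.2 isIrrCharacter_one
  have e := hΨ.classOn.cut_eq_sum
  rw [cut_top] at e
  rw [dot_congr_left fun x _ => congrFun e x, dot_sum_left, sum_eq_single_of_mem 1 h11 fun ψ hψ h1 => ?_,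
    dot_smul_left, (irrOn_one H).dot_self, mul_one]
  rw [dot_smul_left]
  by_cases h2 : dot ⊤ Ψ ψ = 0
  · rw [h2, zero_mul]
  refine mul_eq_zero_of_right _ ((irrOn_of_mem hψ).dot_eq_zero_of_free h1 hP ?_ hH hPH)
  have h3 := hΨ.sub_irr (irrOn_one ⊤) h0
  have h4 := h3.deg_le_of_dot (irrOn_of_mem hψ) (by
    rwa [dot_sub_left, dot_irr_of_ne h11 hψ (Ne.symm h1), sub_zero])
  have h5 := h3.one_eq
  rw [Pi.sub_apply, hΨ.one_eq, sub_eq_iff_eq_add, Pi.one_apply] at h5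
  have h6 : charDegree Ψ = charDegree (Ψ - 1) + 1 := by exact_mod_cast h5
  omega

theorem CharOn.dot_self_eq_of_free {χ : G → ℂ} (hχ : CharOn ⊤ χ) (hP : IsPGroup p P)
    (hd : charDegree χ ^ 2 ≤ Nat.card P) (hH : ∀ g, g ∉ H → ∀ u ∈ P, g⁻¹ * u * g ∈ H → u = 1)
    (hPH : P ≤ H) : dot H χ χ = dot ⊤ χ χ := by
  have e1 : ∀ H : Subgroup G, dot H (χ * Star.star χ) 1 = dot H χ χ := fun H => by
    rw [dot_mul_left, star_star, one_mul]
  by_cases h0 : dot ⊤ χ χ = 0
  · rw [h0, dot_self_eq_zero]; exact fun x _ => dot_self_eq_zero.1 h0 x trivial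
  rw [← e1, ← e1] at *
  refine (hχ.mul hχ.star).dot_one_eq_of_free hP ?_ h0 hH hPH
  rwa [charDegree_of_eq (n := charDegree χ ^ 2) (by
    rw [Pi.mul_apply, Pi.star_apply, hχ.one_eq]; simp [sq])]

theorem free_of_ti (hP : SylowIn p P ⊤)
    (hTI : ∀ g, g ∉ normalizer (P : Set G) → P ⊓ Transfer.cj g P = ⊥)
    (hH : normalizer (P : Set G) ≤ H) (g : G) (hg : g ∉ H) (u : G) (hu : u ∈ P)
    (h : g⁻¹ * u * g ∈ H) : u = 1 := by
  obtain ⟨k, hk⟩ := hP.2 ⟨u, hu⟩
  obtain ⟨j, -, hj⟩ := (Nat.dvd_prime_pow hp.out).1 (orderOf_dvd_of_pow_eq_one (x := g⁻¹ * u * g)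
    (n := p ^ k) (by
      rw [show g⁻¹ * u * g = g⁻¹ * u * g⁻¹⁻¹ by simp, conj_pow,
        show u ^ p ^ k = 1 from congrArg Subtype.val hk]; simp))
  obtain ⟨x, hx, e⟩ := (hP.mono (le_normalizer.trans hH) le_top).exists_cj_le
    (IsPGroup.of_card (by rw [Nat.card_zpowers, hj])) (zpowers_le.2 h)
  have := hTI (g * x⁻¹) fun e => hg ((H.mul_mem_cancel_right (inv_mem hx)).1 (hH e))
  refine mem_bot.1 (this ▸ ⟨hu, mem_cj.2 ?_⟩)
  simpa [mul_assoc] using cj_le_iff.1 e _ (mem_zpowers _)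

end Cfsg.Lib.Clifford
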