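import Cfsg.Agent.Lib.Clifford.Knorr3
import Cfsg.Agent.Lib.Clifford.Schur

/-! Knörr functions from Weil characters. -/

set_option autoImplicit false
open scoped ComplexConjugate
open Cfsg Cfsg.Lib.Char Cfsg.Lib.Block Module Finset

namespace Cfsg.Lib.Clifford

theorem CharOn.sum_conj_mul {Γ : Type*} [Group Γ] [Finite Γ] {N : Subgroup Γ} {ω : Γ → ℂ} (h : IsCharacter Γ ω)
    (hN : IrrOn N ω) (x y : Γ) : (∑ e ∈ elems N, ω (x * (e * y * e⁻¹))) * ω 1 = Nat.card N * (ω x * ω y) := by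
  obtain ⟨n, ρ, rfl⟩ := h
  have : Representation.IsIrreducible (ρ.comp N.subtype) := (isIrrCharacter_character_iff _).1 hN
  obtain ⟨c, hc⟩ := exists_eq_smul_id_of_commute (ρ.comp N.subtype) (∑ e ∈ elems N, ρ (e * y * e⁻¹)) fun g v => by
    conv_lhs => rw [← sum_elems_mul_left g.2]
    simp
  have h1 : ∀ x, ∑ e ∈ elems N, ρ.character (x * (e * y * e⁻¹)) = c * ρ.character x := fun x => by
    simp only [Representation.character, map_mul ρ x, ← map_sum, ← mul_sum, hc]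
    simp [← Module.End.one_eq_id]
  have h2 := h1 1
  simp only [one_mul, Representation.char_conj, sum_const, card_elems, nsmul_eq_mul] at h2
  rw [h1, mul_right_comm, ← h2]; ring

variable {H : Type*} [Group H] {p : ℕ} [hp : Fact p.Prime] {V : Type*} [AddCommGroup V]
  [Module (ZMod p) V] {M : Ideal AlgInt} [M.IsMaximal] {ρ : Representation (ZMod p) H V}
  {c : LinearMap.BilinForm (ZMod p) V}

/-- the Heisenberg group of `c` extended by `H` -/
@[ext] structure Hs (hi : ∀ h x y, c (ρ h x) (ρ h y) = c x y) where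
  u : V
  a : ZMod p
  h : H

namespace Hs
variable {hi : ∀ h x y, c (ρ h x) (ρ h y) = c x y}

instance : Mul (Hs hi) := ⟨fun x y => ⟨x.u + ρ x.h y.u, x.a + y.a + c x.u (ρ x.h y.u), x.h * y.h⟩⟩
instance : One (Hs hi) := ⟨⟨0, 0, 1⟩⟩
instance : Inv (Hs hi) := ⟨fun x => ⟨-ρ x.h⁻¹ x.u, c x.u x.u - x.a, x.h⁻¹⟩⟩
@[simp] theorem mul_u (x y : Hs hi) : (x * y).u = x.u + ρ x.h y.u := rfl
@[simp] theorem mul_a (x y : Hs hi) : (x * y).a = x.a + y.a + c x.u (ρ x.h y.u) := rfl
@[simp] theorem mul_h (x y : Hs hi) : (x * y).h = x.h * y.h := rfl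
@[simp] theorem one_u : (1 : Hs hi).u = 0 := rfl
@[simp] theorem one_a : (1 : Hs hi).a = 0 := rfl
@[simp] theorem one_h : (1 : Hs hi).h = 1 := rfl
@[simp] theorem inv_u (x : Hs hi) : x⁻¹.u = -ρ x.h⁻¹ x.u := rfl
@[simp] theorem inv_a (x : Hs hi) : x⁻¹.a = c x.u x.u - x.a := rfl
@[simp] theorem inv_h (x : Hs hi) : x⁻¹.h = x.h⁻¹ := rfl

instance : Group (Hs hi) := Group.ofLeftAxioms
  (fun x y z => Hs.ext (by simp [add_assoc]) (by simp [hi]; ring) (mul_assoc _ _ _))
  (fun x => Hs.ext (by simp) (by simp) (one_mul _)) fun x => Hs.ext (by simp) (by simp [hi]) (inv_mul_cancel _)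

instance [Finite H] [Finite V] : Finite (Hs hi) :=
  Finite.of_injective (fun x => (x.u, x.a, x.h)) fun x y e => by simpa [Hs.ext_iff] using e

def prj : Hs hi →* H := ⟨⟨h, rfl⟩, fun _ _ => rfl⟩

def sec : H →* Hs hi := ⟨⟨fun h => ⟨0, 0, h⟩, rfl⟩, fun _ _ => Hs.ext (by simp) (by simp) rfl⟩

def ctr : Subgroup (Hs hi) where
  carrier := {x | x.u = 0 ∧ x.h = 1}
  mul_mem' := fun a b => by simp_all
  one_mem' := ⟨rfl, rfl⟩
  inv_mem' := fun a => by simp_all

theorem sum_ker [Finite H] [Fintype V] {A : Type*} [AddCommMonoid A] (f : Hs hi → A) :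
    ∑ e ∈ elems (prj (hi := hi)).ker, f e = ∑ u, ∑ a, f ⟨u, a, 1⟩ := by
  rw [← Fintype.sum_prod_type']
  refine sum_nbij' (fun e => (e.u, e.a)) (fun x => ⟨x.1, x.2, 1⟩) (by simp) (fun x _ => mem_elems.2 rfl) ?_ (by simp) ?_
  · exact fun e he => Hs.ext rfl rfl (mem_elems.1 he).symm
  · exact fun e he => congrArg f (Hs.ext rfl rfl (mem_elems.1 he))

end Hs

theorem kf_weil [Finite H] [Finite V] (hM : IsPModular p M) (hH : ¬ p ∣ Nat.card H)
    (hi : ∀ h x y, c (ρ h x) (ρ h y) = c x y) (hc : ∀ w, (∀ y, c y w = c w y) → w = 0) : ∃ γ, KF M ρ γ := by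
  classical
  have := Fintype.ofFinite V
  have h3 := ZMod.isPrimitive_stdAddChar p
  generalize ZMod.stdAddChar (N := p) = ψ at h3
  set N := (Hs.prj (hi := hi)).ker
  have hN : ∀ x, x ∈ N ↔ x.h = 1 := fun x => Iff.rfl
  have hZ : Hs.ctr ≤ N := fun x hx => hx.2
  have hz : ∀ x ∈ Hs.ctr (hi := hi), ∀ g, g * x * g⁻¹ = x := fun x hx g =>
    mul_inv_eq_of_eq_mul (Hs.ext (by simp [hx.1, hx.2]) (by simp [hx.1, add_comm]) (by simp [hx.2]))
  have hl : LinOn (Hs.ctr (hi := hi)) fun x => ψ x.a := linOn_of_map_mul (by simp) fun x hx y _ => by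
    simp [hx.1, AddChar.map_add_eq_mul]
  obtain ⟨θ, hθ, h1⟩ := hl.irrOn.exists_over hZ
  replace hθ := irrOn_of_mem hθ
  have h2 : ∀ z ∈ Hs.ctr, θ z = θ 1 * ψ z.a := fun z hz' => by
    have := fun z (hz' : z ∈ Hs.ctr) => clifford_invOn hZ (fun g _ x hx => (hz x hx g).symm ▸ hx) hθ hl.irrOn
      (fun g _ x hx => by rw [hz x hx]) h1 hz'
    simp [this z hz', this 1 (one_mem _)]
  have h4 : ∀ x ∈ N, x.u ≠ 0 → θ x = 0 := fun x hx h0 => by
    obtain ⟨y, hy⟩ := not_forall.1 (mt (hc _) h0)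
    have a : IsIrrCharacter _ (res N θ) := hθ
    have b : (⟨0, c y x.u - c x.u y, 1⟩ : Hs hi) ∈ Hs.ctr := ⟨rfl, rfl⟩
    obtain ⟨t, e⟩ := a.center_le_charCenter (x := ⟨_, hZ b⟩)
      (Subgroup.mem_center_iff.2 fun g => Subtype.ext (mul_inv_eq_iff_eq_mul.1 (hz _ b g)))
    have e1 : θ _ = t * θ 1 := (congrArg θ (mul_one _)).symm.trans (e 1)
    have e2 : θ (_ * x) = t * θ x := e ⟨x, hx⟩
    rw [h2 _ b, mul_comm, mul_left_inj' hθ.one_ne_zero] at e1
    rw [← e1, show _ * x = (⟨y, 0, 1⟩ : Hs hi) * x * (⟨y, 0, 1⟩ : Hs hi)⁻¹ from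
      Hs.ext (by simp [(hN x).1 hx]) (by simp [(hN x).1 hx]; ring) (by simp), hθ.classOn _ rfl _ hx] at e2
    by_contra h
    exact hy (sub_eq_zero.1 ((h3.zmod_char_eq_one_iff p _).1 ((mul_eq_right₀ h).1 e2.symm)))
  have h5 : Nat.card N = p ^ (finrank (ZMod p) V + 1) := by
    have := Hs.sum_ker (hi := hi) fun _ => 1
    simp only [sum_const, card_elems, smul_eq_mul, mul_one, card_univ, ZMod.card] at this
    rw [this, ← Nat.card_eq_fintype_card, natCard_eq_pow_finrank (K := ZMod p), Nat.card_zmod, pow_succ]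
  have h6 : N.relIndex ⊤ = Nat.card H := by
    rw [Subgroup.relIndex_top_right, Subgroup.index_ker, MonoidHom.range_eq_top.2 fun h => ⟨Hs.sec h, rfl⟩,
      Subgroup.card_top]
  have h7 : (Nat.card H).Coprime (Nat.card N) :=
    h5 ▸ ((Nat.Prime.coprime_iff_not_dvd hp.out).2 hH).symm.pow_right _
  obtain ⟨χ, hχ, e⟩ := exists_ext_of_hall le_top (nrm_of_normal _ _) hθ (fun g _ x hx => by
    by_cases h0 : x.u = 0
    · rw [hz x ⟨h0, hx⟩]
    · rw [h4 x hx h0, h4 _ (Subgroup.Normal.conj_mem inferInstance _ hx _) fun e => h0 ?_]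
      simpa [(hN x).1 hx] using congrArg (ρ g.h⁻¹) e) (h6 ▸ h7)
  obtain ⟨ω, hω, e', hr⟩ := exists_rat_ext le_top (nrm_of_normal _ _) (h6 ▸ h7) (irrOn_of_mem hχ).charOn
  replace e : ∀ n ∈ N, ω n = θ n := fun n hn => (e' n hn).trans (e n hn)
  have h8 : ∀ h, ω (Hs.sec h)⁻¹ = ω (Hs.sec h) := fun h => by
    obtain ⟨k, k1, k2⟩ := Nat.chineseRemainder h7 (Nat.card H - 1) 1
    have k3 : k + 1 ≡ 0 [MOD Nat.card H] :=
      (k1.add_right 1).trans (by rw [Nat.sub_add_cancel Nat.card_pos]; exact Nat.modEq_zero_iff_dvd.2 dvd_rfl)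
    rw [← hr k ?_ (fun n hn => ?_) (Hs.sec h), ← map_pow, ← map_inv]
    · congr 2
      rw [inv_eq_iff_mul_eq_one, ← pow_succ', ← orderOf_dvd_iff_pow_eq_one]
      exact (orderOf_dvd_natCard h).trans (Nat.modEq_zero_iff_dvd.1 k3)
    · rw [← N.card_mul_index, ← Subgroup.relIndex_top_right, h6]
      exact Nat.Coprime.mul_right (Nat.coprime_of_mul_modEq_one 1 (by simpa using k2))
        ((Nat.coprime_add_self_right (m := k) (n := 1)).2 (by simp) |>.coprime_dvd_right (by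
          rw [add_comm]; exact Nat.modEq_zero_iff_dvd.1 k3))
    · conv_rhs => rw [← pow_one n]
      exact pow_eq_pow_iff_modEq.2 (k2.of_dvd (N.orderOf_dvd_natCard hn))
  have h9 : ∀ h, Nat.card (LinearMap.ker (ρ h - 1)) * ω 1 ^ 2 = Nat.card V * ω (Hs.sec h) ^ 2 := fun h => by
    have := CharOn.sum_conj_mul (charOn_top.1 hω) (hθ.congr fun n hn => (e n hn).symm) (Hs.sec h) (Hs.sec h)⁻¹
    rw [Hs.sum_ker, h8, h5, sum_congr rfl (g := fun u => p * if ρ h u = u then ω 1 else 0) fun u _ => ?_] at this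
    · rw [← mul_sum, ← sum_filter, sum_const, ← Fintype.card_subtype, ← Nat.card_eq_fintype_card] at this
      rw [natCard_eq_pow_finrank (K := ZMod p) (V := V), Nat.card_zmod,
        Nat.card_congr (Equiv.subtypeEquivRight (p := (· ∈ LinearMap.ker (ρ h - 1))) (q := fun u => ρ h u = u)
        fun u => by simp [sub_eq_zero])]
      refine mul_left_cancel₀ (Nat.cast_ne_zero.2 hp.out.ne_zero) ?_
      push_cast [nsmul_eq_mul] at this ⊢
      linear_combination this
    rw [sum_congr rfl (g := fun _ => if ρ h u = u then ω 1 else 0) fun a _ => ?_]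
    · simp
    split_ifs with hu
    · have : ρ h⁻¹ u = u := by rw [← hu, ρ.inv_self_apply, hu]
      exact congrArg ω (Hs.ext (by simp [Hs.sec, hu]) (by simp [Hs.sec, this]) (by simp [Hs.sec]))
    · rw [e _ (by simp [hN, Hs.sec]), h4 _ (by simp [hN, Hs.sec]) (by simpa [Hs.sec, add_neg_eq_zero] using hu)]
  obtain ⟨i, -, h10⟩ := (Nat.dvd_prime_pow hp.out).1 (h5 ▸ hθ.deg_dvd_card)
  have h11 : ω 1 = p ^ i := by rw [e 1 (one_mem _), hθ.one_eq, h10, Nat.cast_pow]
  have h12 : ω 1 ≠ 0 := h11 ▸ pow_ne_zero _ (Nat.cast_ne_zero.2 hp.out.ne_zero)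
  have h13 : ∀ h, ω (Hs.sec h) ≠ 0 := fun h e => by simpa [e, h12, -LinearMap.mem_ker] using h9 h
  have h14 : ∀ h, Nat.card (LinearMap.ker (ρ h - 1)) * Nat.card (LinearMap.range (ρ h - 1)) = Nat.card V := fun h => by
    rw [← Nat.card_prod, Nat.card_congr (Submodule.prodEquivOfIsCompl _ _ (isCompl_fix (ρ := ρ) hH h)).toEquiv]
  have h15 : ∀ h, (ω 1 / ω (Hs.sec h)) ^ 2 = Nat.card (LinearMap.range (ρ h - 1)) := fun h => by
    rw [div_pow, div_eq_iff (pow_ne_zero _ (h13 h))]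
    refine mul_left_cancel₀ (Nat.cast_ne_zero.2 (Nat.card_pos (α := LinearMap.ker (ρ h - 1))).ne') ?_
    rw [h9, ← h14 h]; push_cast; ring
  have h16 : ∀ h, IsIntegral ℤ (ω 1 / ω (Hs.sec h)) := fun h =>
    IsIntegral.of_pow two_pos (h15 h ▸ isIntegral_natCast _)
  refine ⟨fun h => ω 1 / ω (Hs.sec h), IC_of_inv hp.out hH (mem_IC (charOn_top.1 (hω.comp Hs.sec fun _ _ => trivial)))
    h16 (hω.genOn.isIntegral (x := 1) trivial) (fun h => div_mul_cancel₀ _ (h13 h))
    fun h => ⟨_, i, h16 h, (mul_div_cancel₀ _ (h13 h)).trans h11⟩, by simp [h12], fun h a => ?_, fun σ h => ?_⟩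
  · have : p ∣ Nat.card (LinearMap.range (ρ h - 1)) := by
      rw [natCard_eq_pow_finrank (K := ZMod p), Nat.card_zmod]
      refine dvd_pow_self _ fun b => a ?_
      rw [Submodule.finrank_eq_zero, LinearMap.range_eq_bot (f := ρ h - 1)] at b
      exact LinearMap.ext fun v => sub_eq_zero.1 (LinearMap.congr_fun b v)
    rw [← memLocalIdeal_natCast_iff hM, ← h15, sq] at this
    exact (this.mem_or_mem (memLocalRing_of_isIntegral (h16 h))).elim id id
  · rw [← norm_pow, ← map_pow, h15, map_natCast, Complex.norm_natCast, ← h14 h, Nat.cast_mul, mul_comm]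

/-- A self-dual coprime module has a Knörr function. -/
theorem kf_dual [Finite H] [Finite V] (hM : IsPModular p M) (hH : ¬ p ∣ Nat.card H) (hc : c.Nondegenerate)
    (hi : ∀ h x y, c (ρ h x) (ρ h y) = c x y) : ∃ γ, KF M ρ γ := by
  have := Module.Finite.of_finite (R := ZMod p) (M := V)
  have := Fintype.ofFinite H
  obtain ⟨U, W, h, h1, h2, ⟨A, a1, a2, a3⟩, ⟨S, s1, s2, s3⟩, h3⟩ := Agent.S4966.result p hH ρ c hc hi
  let U' : Subrepresentation ρ := ⟨U, fun g v => h1 g v⟩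
  let W' : Subrepresentation ρ := ⟨W, fun g v => h2 g v⟩
  obtain ⟨γ, hγ⟩ : ∃ γ, KF M U'.toRepresentation γ := by
    let b := finBasis (ZMod p) U
    let B := Matrix.toBilin b (.of fun i j => if i < j then A (b i) (b j) else 0)
    have e : B - B.flip = A.restrict U := LinearMap.BilinForm.ext_basis b fun i j => by
      have : ∀ i j, B (b i) (b j) = if i < j then A (b i) (b j) else 0 := fun i j =>
        (LinearMap.BilinForm.toMatrix_apply b B i j).symm.trans (by rw [LinearMap.BilinForm.toMatrix_toBilin]; rfl)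
      rcases lt_trichotomy i j with h | rfl | h
      · simp [this, h, h.not_gt]
      · simp [a1]
      · simp [this, h, h.not_gt, LinearMap.IsAlt.neg a1]
    refine kf_weil hM hH (c := ∑ g, B.compl₁₂ (U'.toRepresentation g) (U'.toRepresentation g)) (fun g x y => ?_)
      fun w hw => Subtype.ext (a3 _ w.2 fun y hy => ?_)
    · simp only [LinearMap.sum_apply, LinearMap.compl₁₂_apply, ← Module.End.mul_apply, ← map_mul]
      exact Fintype.sum_equiv (Equiv.mulRight g) _ _ fun _ => rfl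
    · have := sub_eq_zero.2 (hw ⟨y, hy⟩).symm
      simp only [LinearMap.sum_apply, LinearMap.compl₁₂_apply, ← sum_sub_distrib] at this
      replace this := (sum_congr rfl fun g _ => ((LinearMap.congr_fun₂ e (U'.toRepresentation g w)
        (U'.toRepresentation g ⟨y, hy⟩)).trans (a2 g _ w.2 _ hy)).symm).trans this
      rw [sum_const, card_univ,
        nsmul_eq_mul, mul_eq_zero, CharP.cast_eq_zero_iff _ p, ← Nat.card_eq_fintype_card] at this
      exact this.resolve_left hH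
  obtain ⟨ω, hω⟩ : ∃ γ, KF M W'.toRepresentation γ := by
    by_cases e : p = 2
    · exact ⟨1, kf_one fun g => LinearMap.ext fun w => Subtype.ext (h3 e g _ w.2)⟩
    refine kf_gauss hM hH (S.restrict W) (fun g x y => s2 g _ x.2 _ y.2) fun w hw => Subtype.ext (s3 _ w.2 fun y hy => ?_)
    have : (2 : ℕ) * S w y = 0 := by simpa [s1 y, two_mul] using hw ⟨y, hy⟩
    rw [mul_eq_zero, CharP.cast_eq_zero_iff _ p, Nat.prime_dvd_prime_iff_eq hp.out Nat.prime_two] at this
    exact this.resolve_left e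
  exact ⟨_, hγ.mul h hω⟩

end Cfsg.Lib.Clifford
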