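import Cfsg.Agent.Lib.Clifford.Count
import Cfsg.Agent.Lib.Clifford.Gallagher
import Cfsg.Agent.Lib.Core.Frattini
import Mathlib.GroupTheory.RegularWreathProduct

/-! Characters of regular wreath products; the Kaloujnine-Krasner embedding. -/

set_option autoImplicit false
open scoped ComplexConjugate
open Cfsg Cfsg.Lib.Char Finset Subgroup RegularWreathProduct

namespace Cfsg.Lib.Clifford

variable {M Q : Type*} [Group M] [Group Q]

/-- the subgroup `∏ H q` of the base group -/
def piSub (H : Q → Subgroup M) : Subgroup (M ≀ᵣ Q) where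
  carrier := {w | w.right = 1 ∧ ∀ q, w.left q ∈ H q}
  mul_mem' := fun a b => ⟨by simp [a.1, b.1], fun q => by simpa [a.1] using mul_mem (a.2 q) (b.2 q)⟩
  one_mem' := ⟨rfl, fun _ => one_mem _⟩
  inv_mem' := fun a => ⟨by simp [a.1], fun q => by simpa [a.1] using a.2 q⟩

/-- the subgroup `H ≀ Q` -/
def wrSub (H : Subgroup M) : Subgroup (M ≀ᵣ Q) where
  carrier := {w | ∀ q, w.left q ∈ H}
  mul_mem' := fun a b q => mul_mem (a q) (b _)
  one_mem' := fun _ => one_mem _
  inv_mem' := fun a _ => inv_mem (a _)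

theorem piSub_top : piSub (fun _ : Q => (⊤ : Subgroup M)) = rightHom.ker :=
  Subgroup.ext fun _ => and_iff_left fun _ => trivial

theorem piSub_le (H : Q → Subgroup M) : piSub H ≤ rightHom.ker := fun _ h => h.1

theorem index_base : (rightHom : M ≀ᵣ Q →* Q).ker.index = Nat.card Q := by
  rw [index_ker, MonoidHom.range_eq_top.2 fun q => ⟨inl q, rfl⟩, card_top]

/-- Kaloujnine-Krasner -/
theorem exists_wreath_embedding {G : Type*} [Group G] (N : Subgroup G) [N.Normal] (f : N →* M)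
    (hf : Function.Injective f) : ∃ F : G →* M ≀ᵣ (G ⧸ N), Function.Injective F := by
  have h : ∀ (g : G) (q : G ⧸ N), q.out⁻¹ * g * ((g : G ⧸ N)⁻¹ * q).out ∈ N := fun g q => by
    rw [← QuotientGroup.eq_one_iff]; simp
  refine ⟨MonoidHom.mk' (fun g => ⟨fun q => f ⟨_, h g q⟩, g⟩) fun a b => RegularWreathProduct.ext (funext fun q => ?_) rfl,
    (injective_iff_map_eq_one _).2 fun g e => ?_⟩
  · refine Eq.trans (congrArg f (Subtype.ext ?_)) (map_mul f _ _)
    simp [mul_assoc]
  · have h1 : (g : G ⧸ N) = 1 := congrArg right e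
    have h2 := congrArg Subtype.val ((injective_iff_map_eq_one _).1 hf _ (congrFun (congrArg left e) 1))
    simpa [h1, mul_assoc, inv_mul_eq_one] using h2

variable [Finite M] [Fintype Q]

theorem sum_piSub {R : Type*} [CommSemiring R] (H : Q → Subgroup M) (f : Q → M → R) :
    ∑ w ∈ elems (piSub H), ∏ q, f q (w.left q) = ∏ q, ∑ m ∈ elems (H q), f q m := by
  classical
  rw [prod_univ_sum]
  refine sum_nbij' left (fun x => ⟨x, 1⟩) (fun w h => ?_) (fun x h => ?_) (fun w h => ?_) (fun _ _ => rfl) fun _ _ => rfl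
  · exact Fintype.mem_piFinset.2 fun q => mem_elems.2 ((mem_elems.1 h).2 q)
  · exact mem_elems.2 ⟨rfl, fun q => mem_elems.1 (Fintype.mem_piFinset.1 h q)⟩
  · exact RegularWreathProduct.ext rfl (mem_elems.1 h).1.symm

theorem card_piSub (H : Q → Subgroup M) : Nat.card (piSub H) = ∏ q, Nat.card (H q) := by
  simpa [card_elems] using sum_piSub H fun _ _ => (1 : ℕ)

/-- the external product of class functions -/
def pif (a : Q → M → ℂ) : M ≀ᵣ Q → ℂ := fun w => ∏ q, a q (w.left q)

theorem dot_pif (H : Q → Subgroup M) (a b : Q → M → ℂ) :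
    dot (piSub H) (pif a) (pif b) = ∏ q, dot (H q) (a q) (b q) := by
  simp only [dot, pif, map_prod, ← prod_mul_distrib, sum_piSub H fun q m => a q m * conj (b q m), card_piSub]
  simp [prod_mul_distrib]

theorem charOn_pif {H : Q → Subgroup M} {a : Q → M → ℂ} (h : ∀ q, CharOn (H q) (a q)) : CharOn (piSub H) (pif a) := by
  have := charOn_prod (H := ⊤) univ fun q _ => (h q).comp (L := ⊤)
    (MonoidHom.mk' (fun w : piSub H => w.1.left q) fun a b => by simp [a.2.1]) fun x _ => x.2.2 q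
  refine (congrArg (IsCharacter _) (funext fun x => ?_)).mp (charOn_top.1 this)
  simp [pif]

theorem irrOn_pif {H : Q → Subgroup M} {a : Q → M → ℂ} (h : ∀ q, IrrOn (H q) (a q)) : IrrOn (piSub H) (pif a) :=
  (charOn_pif fun q => (h q).charOn).irrOn_of_dot_self (by simp [dot_pif, (h _).dot_self])

theorem exists_pif (H : Q → Subgroup M) {χ : M ≀ᵣ Q → ℂ} (h : χ 1 ≠ 0) :
    ∃ a : Q → M → ℂ, (∀ q, a q ∈ Irr (H q)) ∧ dot (piSub H) χ (pif a) ≠ 0 := by
  classical
  by_contra! e
  have h1 : ∀ w ∈ piSub H, (∑ a ∈ Fintype.piFinset fun q => Irr (H q), pif a 1 • pif a) w =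
      if w = 1 then (Nat.card (piSub H) : ℂ) else 0 := fun w hw => by
    simp only [Finset.sum_apply, Pi.smul_apply, pif, smul_eq_mul, ← prod_mul_distrib, one_left, Pi.one_apply]
    rw [← prod_univ_sum (fun q => Irr (H q)) fun q φ => φ 1 * φ (w.left q), card_piSub]
    simp only [sum_deg_mul_apply]
    split_ifs with a
    · simp [a]
    · obtain ⟨q, b⟩ := Function.ne_iff.1 fun b => a (RegularWreathProduct.ext b hw.1)
      exact prod_eq_zero (mem_univ q) (if_neg b)
  have h2 := dot_congr_right χ h1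
  rw [dot_sum_right, sum_eq_zero fun a ha => by rw [dot_smul_right, e a (Fintype.mem_piFinset.1 ha), mul_zero]] at h2
  simp [dot, apply_ite, mem_elems, h, Nat.card_pos.ne'] at h2

/-- M-groups -/
def MGrp (M : Type*) [Group M] [Finite M] : Prop := ∀ χ ∈ Irr (⊤ : Subgroup M), ∃ H l, LinOn H l ∧ ind H ⊤ l = χ

theorem MGrp.wreath (h : MGrp M) (hp : (Nat.card Q).Prime) : MGrp (M ≀ᵣ Q) := by
  classical
  intro χ hχ
  replace hχ := irrOn_of_mem hχ
  suffices ∃ H l, LinOn H l ∧ dot H χ l ≠ 0 ∧ H.relIndex ⊤ ≤ charDegree χ by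
    obtain ⟨H, l, a, b, c⟩ := this
    exact ⟨H, l, a, funext fun x => hχ.ind_eq_of_deg_le le_top a.charOn b (by rwa [a.deg, mul_one]) x trivial⟩
  obtain ⟨a, h1, h2⟩ := exists_pif (fun _ => ⊤) hχ.one_ne_zero
  choose! H l h3 h4 using h
  have h5 := irrOn_pif fun q => irrOn_of_mem (h1 q)
  have h6 : LinOn (piSub fun q => H (a q)) (pif fun q => l (a q)) :=
    (irrOn_pif fun q => (h3 _ (h1 q)).irrOn).linOn (prod_eq_one fun q _ => (h3 _ (h1 q)).2)
  have h7 := piSub_top (M := M) (Q := Q) ▸ piSub_le fun q => H (a q)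
  have h8 := (hχ.charOn.mono le_top).dot_ne_zero_trans h7 h5 h6.charOn h2 (by
    rw [dot_pif]
    refine prod_ne_zero_iff.2 fun q _ => ?_
    rw [← dot_ind_right le_top (irrOn_of_mem (h1 q)).classOn, h4 _ (h1 q), (irrOn_of_mem (h1 q)).dot_self]
    exact one_ne_zero)
  have h9 : (piSub fun q => H (a q)).relIndex (piSub fun _ => ⊤) = charDegree (pif a) := by
    refine Nat.eq_of_mul_eq_mul_left (Nat.card_pos (α := piSub fun q => H (a q))) ?_
    rw [card_mul_relIndex h7, card_piSub, card_piSub, charDegree_of_eq (n := ∏ q, (H (a q)).relIndex ⊤), ← prod_mul_distrib]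
    · exact prod_congr rfl fun q _ => (card_mul_relIndex le_top).symm
    · rw [Nat.cast_prod]
      exact prod_congr rfl fun q _ => (congrFun (h4 _ (h1 q)) 1).symm.trans (by rw [ind_one le_top, (h3 _ (h1 q)).2, mul_one])
  have hN : Nrm ⊤ (piSub fun _ : Q => (⊤ : Subgroup M)) := piSub_top (M := M) (Q := Q) ▸ nrm_of_normal _ _
  have h10 := clifford_deg le_top hN hχ h5 h2
  have h11 := Nat.pos_of_ne_zero (((hχ.charOn.mono le_top).mult_ne_zero h5.charOn).2 h2)
  rcases (le_inertia le_top hN h5.classOn).eq_or_lt with e | e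
  · refine ⟨_, _, h6, h8, ?_⟩
    rw [← relIndex_mul_relIndex _ _ _ h7 le_top, h9, h10, ← e, mul_comm]
    exact Nat.le_mul_of_pos_left _ h11
  have h12 := (inertia_eq_iff hN).1 ((Core.isCoatom_of_index_prime (by rwa [piSub_top, index_base])).2 _ e)
  have h13 : ∀ q, a q = a 1 := fun q => by
    have := h5.dot_self
    rw [dot_congr_left (φ' := pif fun x => a (q * x)) fun w hw => (h12 (inl q) trivial w hw).symm.trans
      (Fintype.prod_equiv (Equiv.mulLeft q) _ _ fun x => by simp [hw.1]).symm, dot_pif] at this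
    simpa using eq_of_dot_ne_zero (h1 (q * 1)) (h1 1) (prod_ne_zero_iff.1 (this ▸ one_ne_zero) 1 (mem_univ _))
  simp only [h13] at h6 h7 h8 h9
  have h14 : piSub (fun _ : Q => H (a 1)) = wrSub (H (a 1)) ⊓ piSub fun _ => ⊤ :=
    Subgroup.ext fun w => ⟨fun h => ⟨h.2, h7 h⟩, fun h => ⟨h.2.1, h.1⟩⟩
  have h15 : LinOn (wrSub (H (a 1))) (pif fun _ : Q => l (a 1)) := linOn_of_map_mul h6.2 fun x hx y hy => by
    simp only [pif, mul_left, Pi.mul_apply, fun q => (h3 _ (h1 1)).map_mul (hx q) (hy (x.right⁻¹ * q)), prod_mul_distrib]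
    exact congrArg _ (Fintype.prod_equiv (Equiv.mulLeft x.right⁻¹) _ _ fun _ => rfl)
  have h16 := h14.le.trans inf_le_left
  obtain ⟨ν, b, c, d⟩ := exists_between h16 (hχ.charOn.mono le_top).classOn h8
  have := Fact.mk hp
  have := isCyclic_of_prime_card (α := Q) rfl
  refine ⟨_, ν, (irrOn_of_mem b).linOn ((ext_of_abelian h16 (h14 ▸ (nrm_self _).inf (hN.mono le_top)) (h14 ▸ le_inf
    (commutator_le_self _) (piSub_top (M := M) (Q := Q) ▸ commutator_le.2 fun x _ y _ => by
      rw [MonoidHom.mem_ker, map_commutatorElement, commutatorElement_eq_one_iff_mul_comm]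
      exact IsCyclic.commGroup.mul_comm _ _)) h15.charOn h6.irrOn (irrOn_of_mem b) d 1 (one_mem _)).trans h6.2), c, ?_⟩
  have h17 := card_mul_card_of_prod (H := piSub fun _ => ⊤) (M := wrSub (H (a 1))) (K := (⊤ : Subgroup (M ≀ᵣ Q)))
    le_top le_top fun k _ => ⟨k * (inl k.right)⁻¹, ⟨by simp, fun _ => trivial⟩, inl k.right, fun _ => one_mem _, by simp⟩
  rw [inf_comm, ← h14, ← card_mul_relIndex h7, ← card_mul_relIndex (H := wrSub (H (a 1))) le_top, mul_assoc,
    mul_right_inj' Nat.card_pos.ne', mul_comm, mul_right_inj' Nat.card_pos.ne'] at h17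
  rw [← h17, h9]
  exact (hχ.charOn.mono le_top).deg_le_of_dot h5 h2

end Cfsg.Lib.Clifford
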