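import Cfsg.Agent.Lib.FG.ExtraChar
import Cfsg.Agent.Lib.Clifford.Real

/-!
# Characters of extraspecial groups: counting
-/

set_option autoImplicit false

namespace Cfsg.Lib.Clifford

open Subgroup Char Finset FG

variable {G : Type*} [Group G] [Finite G] {P Z : Subgroup G} {χ θ : G → ℂ} {p : ℕ}

omit [Finite G] in
theorem xs_top (h : IsExtraspecial p G) : XS p (⊤ : Subgroup G) (center G) :=
  ⟨by rw [top_inf_eq, coe_top, centralizer_univ], h.2, h.1.2.2⟩

/-- the sum of squares of the degrees of the characters not trivial on `N`. -/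
theorem sum_sdiff_IrrKer {K N : Subgroup G} (hNK : N ≤ K) (hN : Nrm K N) [DecidableEq (G → ℂ)] :
    ∑ χ ∈ Irr K \ IrrKer K N, charDegree χ ^ 2 + N.relIndex K = Nat.card K := by
  rw [← sum_IrrKer_deg_sq hNK hN, sum_sdiff IrrKer_subset, sum_deg_sq]

theorem _root_.Cfsg.Lib.FG.XS.card_sdiff (h : XS p P Z) (hp : p.Prime) [DecidableEq (G → ℂ)] :
    (Irr P \ IrrKer P Z).card = p - 1 := by
  have hZ : Nrm P Z := fun g hg z hz => by rwa [h.cent hz g hg, mul_inv_cancel_right]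
  have h1 := sum_sdiff_IrrKer h.le hZ
  have h2 := card_mul_relIndex h.le
  rw [h.card] at h2
  have h3 : ∀ χ ∈ Irr P \ IrrKer P Z, charDegree χ ^ 2 = Z.relIndex P := fun χ hχ => by
    obtain ⟨a, b⟩ := mem_sdiff.1 hχ
    have := h.deg_sq hp (irrOn_of_mem a) fun e => b (mem_IrrKer.2 ⟨a, e⟩)
    rw [← h2, mul_comm] at this
    exact Nat.eq_of_mul_eq_mul_left hp.pos this
  rw [sum_congr rfl h3, sum_const, smul_eq_mul, ← h2] at h1
  have h4 := Nat.pos_of_ne_zero (relIndex_ne_zero Z P)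
  have h5 : ((Irr P \ IrrKer P Z).card + 1) * Z.relIndex P = p * Z.relIndex P := by rw [← h1]; ring
  have := Nat.eq_of_mul_eq_mul_right h4 h5
  omega

theorem _root_.Cfsg.Lib.FG.XS.lin_iff (h : XS p P Z) (hχ : IrrOn P χ) : LinOn P χ ↔ Triv Z χ := by
  rw [hχ.linOn_iff, h.comm]

end Cfsg.Lib.Clifford
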